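import Mathlib

/-!
Orders of elements of `GL_n` over a finite field.
-/

set_option autoImplicit false

namespace CfsgLib.GLClass

open Polynomial

variable {F : Type*} [Field F] [Fintype F]

/-- A prime power, prime to the characteristic, of an element order of `GL_n(q)` divides
some `q^d - 1` with `d ≤ n`. -/
theorem exists_dvd_pow_sub_one {n : ℕ} (g : GL (Fin n) F) {r e : ℕ} (hr : r.Prime) (he : 1 ≤ e)
    (hrF : (r : F) ≠ 0) (hdvd : r ^ e ∣ orderOf g) :
    ∃ d, 1 ≤ d ∧ d ≤ n ∧ r ^ e ∣ Fintype.card F ^ d - 1 := by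
  classical
  haveI : Fact r.Prime := ⟨hr⟩
  haveI : Finite (GL (Fin n) F) :=
    Finite.of_injective (fun X => (X.1 : Matrix _ _ F)) Units.val_injective
  obtain ⟨k, rfl⟩ : ∃ k, e = k + 1 := ⟨e - 1, by omega⟩
  set h := g ^ (orderOf g / r ^ (k + 1)) with hh
  have ho : orderOf h = r ^ (k + 1) := orderOf_pow_orderOf_div (orderOf_pos g).ne' hdvd
  set A : Matrix (Fin n) (Fin n) F := h.1
  set μ := minpoly F A with hμ
  have hAint : IsIntegral F A := Matrix.isIntegral A
  have h1 : μ ∣ (X : F[X]) ^ r ^ (k + 1) - 1 := by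
    refine minpoly.dvd F A ?_
    rw [map_sub, map_pow, aeval_X, map_one, sub_eq_zero, ← Units.val_pow_eq_pow_val,
      orderOf_dvd_iff_pow_eq_one.1 (dvd_of_eq ho), Units.val_one]
  have h2 : ¬ μ ∣ (X : F[X]) ^ r ^ k - 1 := by
    intro hd
    have h3 : aeval A ((X : F[X]) ^ r ^ k - 1) = 0 := by
      obtain ⟨c, hc⟩ := hd
      rw [hc, map_mul, minpoly.aeval, zero_mul]
    rw [map_sub, map_pow, aeval_X, map_one, sub_eq_zero, ← Units.val_pow_eq_pow_val] at h3
    have h4 : r ^ (k + 1) ∣ r ^ k := ho ▸ orderOf_dvd_of_pow_eq_one (Units.ext h3)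
    exact absurd ((Nat.pow_dvd_pow_iff_le_right hr.one_lt).1 h4) (by omega)
  rw [← cyclotomic_prime_pow_mul_X_pow_sub_one F r k] at h1
  obtain ⟨P, hP, hPμ, hPc⟩ : ∃ P : F[X], Irreducible P ∧ P ∣ μ ∧ P ∣ cyclotomic (r ^ (k + 1)) F := by
    by_contra hcon
    refine h2 (IsCoprime.dvd_of_dvd_mul_left ?_ h1)
    refine isCoprime_of_dvd _ _ (fun h0 => minpoly.ne_zero hAint h0.1) fun z hz hz0 hzμ hzc => ?_
    obtain ⟨P, hP, hPz⟩ := WfDvdMonoid.exists_irreducible_factor hz hz0
    exact hcon ⟨P, hP, hPz.trans hzμ, hPz.trans hzc⟩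
  haveI : Fact (Irreducible P) := ⟨hP⟩
  have hdeg : P.natDegree ≤ n := by
    refine (natDegree_le_of_dvd hPμ (minpoly.ne_zero hAint)).trans ?_
    have := natDegree_le_of_dvd (Matrix.minpoly_dvd_charpoly A) (Matrix.charpoly_monic A).ne_zero
    rwa [Matrix.charpoly_natDegree_eq_dim, Fintype.card_fin] at this
  let a := AdjoinRoot.root P
  haveI : NeZero ((r ^ (k + 1) : ℕ) : AdjoinRoot P) := ⟨by
    rw [← map_natCast (AdjoinRoot.of P), Nat.cast_pow, map_pow]
    exact pow_ne_zero _ fun h0 => hrF ((AdjoinRoot.of P).injective (by rw [h0, map_zero]))⟩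
  have ha : IsPrimitiveRoot a (r ^ (k + 1)) := by
    refine isRoot_cyclotomic_iff.1 ?_
    rw [← map_cyclotomic (r ^ (k + 1)) (AdjoinRoot.of P)]
    obtain ⟨c, hc⟩ := hPc
    rw [IsRoot.def, eval_map, hc, eval₂_mul, AdjoinRoot.eval₂_root, zero_mul]
  let pb := AdjoinRoot.powerBasis hP.ne_zero
  haveI : Module.Finite F (AdjoinRoot P) := pb.finite
  haveI : Finite (AdjoinRoot P) := Module.finite_of_finite F
  haveI : Fintype (AdjoinRoot P) := Fintype.ofFinite _
  have hcard : Fintype.card (AdjoinRoot P) = Fintype.card F ^ P.natDegree := by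
    rw [Module.card_eq_pow_finrank (K := F), pb.finrank, AdjoinRoot.powerBasis_dim]
  have ha0 : a ≠ 0 := ha.ne_zero (pow_ne_zero _ hr.ne_zero)
  refine ⟨P.natDegree, hP.natDegree_pos, hdeg, ?_⟩
  rw [← hcard]
  exact ha.dvd_of_pow_eq_one _ (FiniteField.pow_card_sub_one_eq_one a ha0)

/-- `GL_n(q)` has elements of every order dividing `q^d - 1`, `1 ≤ d ≤ n`. -/
theorem exists_orderOf_eq {n d m : ℕ} (hd : 1 ≤ d) (hdn : d ≤ n)
    (hm : m ∣ Fintype.card F ^ d - 1) : ∃ g : GL (Fin n) F, orderOf g = m := by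
  classical
  obtain ⟨p, hp⟩ := CharP.exists F
  haveI : Fact p.Prime := ⟨CharP.char_is_prime F p⟩
  haveI : NeZero d := ⟨by omega⟩
  let K := FiniteField.Extension F p d
  have hfin : Module.finrank F K = d := FiniteField.finrank_extension F p d
  let b := Module.finBasisOfFinrankEq F K hfin
  obtain ⟨u, hu⟩ := IsCyclic.exists_ofOrder_eq_natCard (α := Kˣ)
  rw [Nat.card_units, FiniteField.natCard_extension, Nat.card_eq_fintype_card] at hu
  let ι : (Fin d ⊕ Fin (n - d)) ≃ Fin n := finSumFinEquiv.trans (finCongr (by omega))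
  let Φ : Matrix (Fin d) (Fin d) F →* Matrix (Fin n) (Fin n) F :=
    { toFun := fun X => Matrix.reindex ι ι (Matrix.fromBlocks X 0 0 1)
      map_one' := by simp [Matrix.fromBlocks_one]
      map_mul' := fun X Y => by
        rw [Matrix.reindex_apply, Matrix.reindex_apply, Matrix.reindex_apply,
          Matrix.submatrix_mul_equiv, Matrix.fromBlocks_multiply]
        simp }
  let L : K →* Matrix (Fin n) (Fin n) F := Φ.comp (Algebra.leftMulMatrix b).toMonoidHom
  have hL : Function.Injective L := by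
    intro x y h
    refine Algebra.leftMulMatrix_injective b ?_
    have h1 := (Matrix.reindex ι ι).injective h
    exact (Matrix.fromBlocks_inj.1 h1).1
  refine ⟨Units.map L (u ^ (orderOf u / m)), ?_⟩
  rw [orderOf_injective (Units.map L) (Units.map_injective hL),
    orderOf_pow_orderOf_div (orderOf_pos u).ne' (hu ▸ hm)]

end CfsgLib.GLClass
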