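import Mathlib

/-!
Similarity classes of endomorphisms of finite-dimensional vector spaces: decomposition of the
`F[X]`-module of an endomorphism into primary cyclic summands, and its rank invariants.
-/

set_option autoImplicit false

namespace CfsgLib.GLClass

open Polynomial Module

variable {F : Type*} [Field F]

/-- The cyclic `F[X]`-module defined by a polynomial. -/
abbrev Quo (f : F[X]) : Type _ := F[X] ⧸ Ideal.span {f}

instance finite_quo_pow (P : F[X]) [hP : Fact P.Monic] (k : ℕ) :
    Module.Finite F (Quo (P ^ k)) :=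
  (hP.out.pow k).finite_quotient

theorem finite_quo {f : F[X]} (hf : f.Monic) : Module.Finite F (Quo f) :=
  hf.finite_quotient

/-- An endomorphism decomposition: monic irreducible polynomials with positive exponents. -/
structure Decomp (M : Type*) [AddCommGroup M] [Module F[X] M] where
  /-- the index type of the summands -/
  ι : Type
  [fin : Fintype ι]
  /-- the irreducible polynomial of a summand -/
  P : ι → F[X]
  /-- the exponent of a summand -/
  e : ι → ℕ
  monic : ∀ i, (P i).Monic
  irred : ∀ i, Irreducible (P i)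
  pos : ∀ i, 0 < e i
  /-- the decomposition -/
  equiv : M ≃ₗ[F[X]] ((i : ι) → Quo (P i ^ e i))

attribute [instance] Decomp.fin

theorem exists_decomp (M : Type*) [AddCommGroup M] [Module F[X] M] [Module.Finite F[X] M]
    (hM : Module.IsTorsion F[X] M) : Nonempty (Decomp (F := F) M) := by
  classical
  obtain ⟨ι, _, p, hp, e, ⟨f⟩⟩ := Module.equiv_directSum_of_isTorsion hM
  let p' : ι → F[X] := fun i => normalize (p i)
  have hass : ∀ i, Associated (p i) (p' i) := fun i => (normalize_associated (p i)).symm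
  let g : M ≃ₗ[F[X]] ((i : ι) → Quo (p' i ^ e i)) :=
    f.trans ((DirectSum.linearEquivFunOnFintype F[X] ι _).trans
      (LinearEquiv.piCongrRight fun i => Submodule.quotEquivOfEq _ _
        (Ideal.span_singleton_eq_span_singleton.2 (hass i).pow_pow)))
  let s : Finset ι := Finset.univ.filter fun i => 0 < e i
  have hsub : ∀ i, i ∉ s → Subsingleton (Quo (p' i ^ e i)) := by
    intro i hi
    have h0 : e i = 0 := by
      simpa [s] using hi
    refine Submodule.Quotient.subsingleton_iff.2 ?_
    rw [h0, pow_zero, Ideal.span_singleton_one]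
  let n := Fintype.card {i // i ∈ s}
  let en : Fin n ≃ {i // i ∈ s} := (Fintype.equivFin _).symm
  let restr : ((i : ι) → Quo (p' i ^ e i)) →ₗ[F[X]]
      ((k : Fin n) → Quo (p' (en k).1 ^ e (en k).1)) :=
    LinearMap.pi fun k => LinearMap.proj (en k).1
  have hbij : Function.Bijective restr := by
    refine ⟨fun x y hxy => funext fun i => ?_, fun y => ?_⟩
    · by_cases hi : i ∈ s
      · obtain ⟨k, hk⟩ := en.surjective ⟨i, hi⟩
        have h := congrFun hxy k
        obtain rfl : (en k).1 = i := by rw [hk]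
        exact h
      · exact @Subsingleton.elim _ (hsub i hi) _ _
    · refine ⟨∑ k, Pi.single (en k).1 (y k), funext fun k => ?_⟩
      simp only [restr, LinearMap.pi_apply, LinearMap.proj_apply, Finset.sum_apply]
      rw [Finset.sum_eq_single k]
      · rw [Pi.single_eq_same]
      · intro l _ hl
        exact Pi.single_eq_of_ne (fun h => hl (en.injective (Subtype.ext h)).symm) _
      · simp
  exact ⟨{ ι := Fin n
           P := fun k => p' (en k).1
           e := fun k => e (en k).1
           monic := fun k => Polynomial.monic_normalize (hp _).ne_zero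
           irred := fun k => (hass _).irreducible (hp _)
           pos := fun k => (Finset.mem_filter.1 (en k).2).2
           equiv := g.trans (LinearEquiv.ofBijective restr hbij) }⟩

section Rank

/-- The rank of the action of a polynomial on a module. -/
noncomputable def rk (g : F[X]) (M : Type*) [AddCommGroup M] [Module F M] [Module F[X] M]
    [IsScalarTower F F[X] M] : ℕ :=
  finrank F (LinearMap.range ((LinearMap.lsmul F[X] M g).restrictScalars F))

variable {M N : Type*} [AddCommGroup M] [Module F M] [Module F[X] M] [IsScalarTower F F[X] M]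
  [AddCommGroup N] [Module F N] [Module F[X] N] [IsScalarTower F F[X] N]

theorem rk_congr (f : M ≃ₗ[F[X]] N) (g : F[X]) : rk g M = rk g N := by
  unfold rk
  have h : LinearMap.range ((LinearMap.lsmul F[X] N g).restrictScalars F)
      = (LinearMap.range ((LinearMap.lsmul F[X] M g).restrictScalars F)).map
          ((f.restrictScalars F).toLinearMap) := by
    ext y
    simp only [LinearMap.mem_range, LinearMap.coe_restrictScalars, LinearMap.lsmul_apply,
      Submodule.mem_map, exists_exists_eq_and, LinearEquiv.coe_toLinearMap,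
      LinearEquiv.restrictScalars_apply, map_smul]
    exact ⟨fun ⟨x, hx⟩ => ⟨f.symm x, by simpa using hx⟩, fun ⟨x, hx⟩ => ⟨f x, hx⟩⟩
  rw [h, LinearEquiv.finrank_map_eq]

theorem rk_pi {ι : Type*} [Fintype ι] (A : ι → Type*) [∀ i, AddCommGroup (A i)]
    [∀ i, Module F (A i)] [∀ i, Module F[X] (A i)] [∀ i, IsScalarTower F F[X] (A i)]
    [∀ i, Module.Finite F (A i)] (g : F[X]) : rk g ((i : ι) → A i) = ∑ i, rk g (A i) := by
  classical
  unfold rk
  let T : ∀ i, A i →ₗ[F] A i := fun i => (LinearMap.lsmul F[X] (A i) g).restrictScalars F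
  let inc : ((i : ι) → ↥(LinearMap.range (T i))) →ₗ[F] ((i : ι) → A i) :=
    LinearMap.pi fun i => (LinearMap.range (T i)).subtype ∘ₗ LinearMap.proj i
  have hinj : Function.Injective inc := fun x y h => funext fun i => Subtype.ext (congrFun h i)
  have hrange : LinearMap.range inc
      = LinearMap.range ((LinearMap.lsmul F[X] ((i : ι) → A i) g).restrictScalars F) := by
    ext y
    constructor
    · rintro ⟨x, rfl⟩
      choose z hz using fun i => (x i).2
      exact ⟨z, funext fun i => hz i⟩
    · rintro ⟨z, rfl⟩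
      exact ⟨fun i => ⟨T i (z i), z i, rfl⟩, rfl⟩
  rw [← hrange, LinearMap.finrank_range_of_inj hinj, Module.finrank_pi_fintype]

theorem rk_quo (f g h : F[X]) (hker : ∀ x : F[X], f ∣ g * x ↔ h ∣ x) :
    rk g (Quo f) = h.natDegree := by
  unfold rk
  let T : F[X] →ₗ[F[X]] Quo f := (LinearMap.lsmul F[X] (Quo f) g).comp (Submodule.mkQ _)
  have hk : LinearMap.ker T = Ideal.span {h} := by
    ext x
    rw [LinearMap.mem_ker, Ideal.mem_span_singleton, ← hker]
    change g • Submodule.Quotient.mk x = (0 : Quo f) ↔ _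
    rw [← Submodule.Quotient.mk_smul, Submodule.Quotient.mk_eq_zero, smul_eq_mul,
      Ideal.mem_span_singleton]
  have hr : LinearMap.range T = LinearMap.range (LinearMap.lsmul F[X] (Quo f) g) :=
    LinearMap.range_comp_of_range_eq_top _ (Submodule.range_mkQ _)
  have e1 : (F[X] ⧸ Ideal.span {h}) ≃ₗ[F[X]] LinearMap.range (LinearMap.lsmul F[X] (Quo f) g) :=
    (Submodule.quotEquivOfEq _ _ hk.symm).trans
      ((LinearMap.quotKerEquivRange T).trans (LinearEquiv.ofEq _ _ hr))
  rw [← finrank_quotient_span_eq_natDegree (K := F) (f := h),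
    (e1.restrictScalars F).finrank_eq]
  rfl

theorem rk_quo_self {P : F[X]} (hP : P.Monic) (j e : ℕ) :
    rk (P ^ j) (Quo (P ^ e)) = (e - j) * P.natDegree := by
  rw [rk_quo _ _ (P ^ (e - j)) fun x => ?_, natDegree_pow]
  have hP0 := hP.ne_zero
  rcases le_total e j with h | h
  · rw [Nat.sub_eq_zero_of_le h, pow_zero]
    simpa using (pow_dvd_pow P h).mul_right x
  · conv_lhs => rw [← Nat.add_sub_cancel' h, pow_add, mul_dvd_mul_iff_left (pow_ne_zero j hP0)]

theorem rk_quo_ne {P Q : F[X]} (hP : P.Monic) (hPi : Irreducible P) (hQ : Q.Monic)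
    (hQi : Irreducible Q) (hne : P ≠ Q) (j e : ℕ) :
    rk (Q ^ j) (Quo (P ^ e)) = e * P.natDegree := by
  have hco : IsCoprime P Q := hPi.coprime_iff_not_dvd.2 fun hd =>
    hne (eq_of_monic_of_associated hP hQ (hPi.associated_of_dvd hQi hd))
  rw [rk_quo _ _ (P ^ e) fun x => ?_, natDegree_pow]
  exact ⟨fun h => hco.pow.dvd_of_dvd_mul_left h, fun h => h.mul_left _⟩

theorem Decomp.rk_add (D : Decomp (F := F) M) {Q : F[X]} (hQ : Q.Monic) (hQi : Irreducible Q)
    (j : ℕ) [DecidableEq F[X]] :
    rk (Q ^ j) M + ∑ i, (if D.P i = Q then min (D.e i) j * Q.natDegree else 0)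
      = ∑ i, D.e i * (D.P i).natDegree := by
  haveI : ∀ i, Module.Finite F (Quo (D.P i ^ D.e i)) := fun i => finite_quo ((D.monic i).pow _)
  rw [rk_congr D.equiv, rk_pi, ← Finset.sum_add_distrib]
  refine Finset.sum_congr rfl fun i _ => ?_
  split_ifs with h
  · rw [h, rk_quo_self hQ, ← add_mul]
    congr 1
    omega
  · rw [rk_quo_ne (D.monic i) (D.irred i) hQ hQi h, add_zero]

/-- The number of summands of a given type. -/
noncomputable def Decomp.count (D : Decomp (F := F) M) (Q : F[X]) (k : ℕ) : ℕ :=
  Nat.card {i // D.P i = Q ∧ D.e i = k}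

theorem Decomp.count_eq (D : Decomp (F := F) M) (D' : Decomp (F := F) N) {Q : F[X]}
    (hQ : Q.Monic) (hQi : Irreducible Q)
    (h : ∀ j, rk (Q ^ j) M = rk (Q ^ j) N) (k : ℕ) : D.count Q k = D'.count Q k := by
  classical
  have hd := hQi.natDegree_pos
  let m : Decomp (F := F) M → ℕ → ℕ := fun D j => ∑ i, if D.P i = Q then min (D.e i) j else 0
  let m' : Decomp (F := F) N → ℕ → ℕ := fun D j => ∑ i, if D.P i = Q then min (D.e i) j else 0
  have hm : ∀ j, m D j = m' D' j := by
    intro j
    have h1 := D.rk_add hQ hQi j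
    have h2 := D'.rk_add hQ hQi j
    have h3 := D.rk_add hQ hQi 0
    have h4 := D'.rk_add hQ hQi 0
    rw [h j] at h1
    rw [h 0] at h3
    simp only [Nat.min_zero, zero_mul, ite_self, Finset.sum_const_zero, add_zero] at h3 h4
    have e1 : ∑ i, (if D.P i = Q then min (D.e i) j * Q.natDegree else 0)
        = m D j * Q.natDegree := by
      simp only [m, Finset.sum_mul]
      exact Finset.sum_congr rfl fun i _ => by split_ifs <;> simp
    have e2 : ∑ i, (if D'.P i = Q then min (D'.e i) j * Q.natDegree else 0)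
        = m' D' j * Q.natDegree := by
      simp only [m', Finset.sum_mul]
      exact Finset.sum_congr rfl fun i _ => by split_ifs <;> simp
    rw [e1] at h1
    rw [e2] at h2
    exact Nat.eq_of_mul_eq_mul_right hd (by omega)
  have key : ∀ {ι : Type} [Fintype ι] (P : ι → F[X]) (e : ι → ℕ) (k : ℕ),
      Nat.card {i // P i = Q ∧ e i = k + 1}
        + (∑ i, if P i = Q then min (e i) k else 0)
        + (∑ i, if P i = Q then min (e i) (k + 2) else 0)
      = 2 * (∑ i, if P i = Q then min (e i) (k + 1) else 0) := by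
    intro ι _ P e k
    rw [Nat.card_eq_fintype_card, Fintype.card_subtype, Finset.card_filter,
      ← Finset.sum_add_distrib, ← Finset.sum_add_distrib, Finset.mul_sum]
    refine Finset.sum_congr rfl fun i _ => ?_
    by_cases h : P i = Q <;> simp [h] <;> split_ifs <;> omega
  rcases k with - | k
  · unfold Decomp.count
    have : ∀ {ι : Type} (P : ι → F[X]) (e : ι → ℕ), (∀ i, 0 < e i) →
        Nat.card {i // P i = Q ∧ e i = 0} = 0 := fun P e hp => by
      haveI : IsEmpty {i // P i = Q ∧ e i = 0} := ⟨fun i => (hp i.1).ne' i.2.2⟩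
      exact Nat.card_of_isEmpty
    rw [this _ _ D.pos, this _ _ D'.pos]
  · have h1 := key D.P D.e k
    have h2 := key D'.P D'.e k
    have a0 := hm k
    have a1 := hm (k + 1)
    have a2 := hm (k + 2)
    simp only [m, m'] at a0 a1 a2
    unfold Decomp.count
    omega

/-- Two torsion modules with the same rank invariants are isomorphic. -/
theorem nonempty_equiv_of_decomp (D : Decomp (F := F) M) (D' : Decomp (F := F) N)
    (h : ∀ Q : F[X], Q.Monic → Irreducible Q → ∀ k, D.count Q k = D'.count Q k) :
    Nonempty (M ≃ₗ[F[X]] N) := by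
  classical
  let f : D.ι → F[X] × ℕ := fun i => (D.P i, D.e i)
  let g : D'.ι → F[X] × ℕ := fun i => (D'.P i, D'.e i)
  have hfib : ∀ c, Nonempty ({a // f a = c} ≃ {b // g b = c}) := by
    rintro ⟨Q, k⟩
    have e1 : {a // f a = (Q, k)} ≃ {a // D.P a = Q ∧ D.e a = k} :=
      Equiv.subtypeEquivRight fun a => by simp [f]
    have e2 : {b // g b = (Q, k)} ≃ {b // D'.P b = Q ∧ D'.e b = k} :=
      Equiv.subtypeEquivRight fun a => by simp [g]
    by_cases hQ : Q.Monic ∧ Irreducible Q
    · exact ⟨e1.trans ((Finite.equivFinOfCardEq (h Q hQ.1 hQ.2 k)).trans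
        (Finite.equivFin _).symm |>.trans e2.symm)⟩
    · haveI : IsEmpty {a // f a = (Q, k)} := ⟨fun a =>
        hQ (by rw [← (e1 a).2.1]; exact ⟨D.monic _, D.irred _⟩)⟩
      haveI : IsEmpty {b // g b = (Q, k)} := ⟨fun a =>
        hQ (by rw [← (e2 a).2.1]; exact ⟨D'.monic _, D'.irred _⟩)⟩
      exact ⟨Equiv.equivOfIsEmpty _ _⟩
  let σ : D.ι ≃ D'.ι := Equiv.ofFiberEquiv fun c => (hfib c).some
  have hσ : ∀ i, g (σ i) = f i := fun i => Equiv.ofFiberEquiv_map _ i
  have hspan : ∀ i, Ideal.span {D.P i ^ D.e i} = Ideal.span {D'.P (σ i) ^ D'.e (σ i)} := by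
    intro i
    have h1 := congrArg Prod.fst (hσ i)
    have h2 := congrArg Prod.snd (hσ i)
    simp only [f, g] at h1 h2
    rw [h1, h2]
  exact ⟨D.equiv.trans ((LinearEquiv.piCongrRight fun i =>
    Submodule.quotEquivOfEq _ _ (hspan i)).trans
      ((LinearEquiv.piCongrLeft F[X] (fun i => Quo (D'.P i ^ D'.e i)) σ).trans D'.equiv.symm))⟩

end Rank

end CfsgLib.GLClass
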