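import Mathlib
import Cfsg.Agent.Lib.GLClass.Structure

/-!
Similarity of square matrices over a field is decided by the ranks of `Q(A)^j`.
-/

set_option autoImplicit false

namespace CfsgLib.GLClass

open Polynomial Module Matrix

variable {F : Type*} [Field F] {n : Type*} [Fintype n] [DecidableEq n]

/-- The `F[X]`-module of a square matrix. -/
abbrev Mod (A : Matrix n n F) : Type _ := Module.AEval' (Matrix.toLinAlgEquiv' A)

theorem mod_isTorsion (A : Matrix n n F) : Module.IsTorsion F[X] (Mod A) := by
  intro x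
  have hne : minpoly F A ≠ 0 := minpoly.ne_zero (Algebra.IsIntegral.isIntegral A)
  refine ⟨⟨minpoly F A, mem_nonZeroDivisors_of_ne_zero hne⟩, ?_⟩
  obtain ⟨v, rfl⟩ := (Module.AEval'.of (Matrix.toLinAlgEquiv' A)).surjective x
  change (minpoly F A) • _ = (0 : Mod A)
  rw [← Module.AEval.of_aeval_smul, Polynomial.aeval_algHom_apply, minpoly.aeval]
  simp

theorem exists_modDecomp (A : Matrix n n F) : Nonempty (Decomp (F := F) (Mod A)) :=
  exists_decomp _ (mod_isTorsion A)

theorem rk_mod (A : Matrix n n F) (g : F[X]) : rk g (Mod A) = (aeval A g).rank := by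
  unfold rk Matrix.rank
  let o := Module.AEval'.of (Matrix.toLinAlgEquiv' A)
  have h : LinearMap.range ((LinearMap.lsmul F[X] (Mod A) g).restrictScalars F)
      = (LinearMap.range (aeval A g).mulVecLin).map o.toLinearMap := by
    ext y
    obtain ⟨v, rfl⟩ := o.surjective y
    simp only [LinearMap.mem_range, LinearMap.coe_restrictScalars, LinearMap.lsmul_apply,
      Submodule.mem_map, exists_exists_eq_and, LinearEquiv.coe_toLinearMap,
      EmbeddingLike.apply_eq_iff_eq, Matrix.mulVecLin_apply]
    have key : ∀ w, g • o w = o ((aeval A g) *ᵥ w) := fun w => by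
      simp only [o]
      rw [← Module.AEval.of_aeval_smul, Polynomial.aeval_algHom_apply]
      rfl
    constructor
    · rintro ⟨x, hx⟩
      obtain ⟨w, rfl⟩ := o.surjective x
      exact ⟨w, o.injective ((key w).symm.trans hx)⟩
    · rintro ⟨w, hw⟩
      exact ⟨o w, by rw [key, hw]⟩
  rw [h, LinearEquiv.finrank_map_eq]

theorem isConj_of_modEquiv {A B : Matrix n n F} (f : Mod A ≃ₗ[F[X]] Mod B) : IsConj A B := by
  let oA := Module.AEval'.of (Matrix.toLinAlgEquiv' A)
  let oB := Module.AEval'.of (Matrix.toLinAlgEquiv' B)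
  let g : (n → F) ≃ₗ[F] (n → F) := oA.trans ((f.restrictScalars F).trans oB.symm)
  have hg : ∀ v, g (A *ᵥ v) = B *ᵥ g v := by
    intro v
    apply oB.injective
    simp only [g, LinearEquiv.trans_apply, LinearEquiv.apply_symm_apply,
      LinearEquiv.restrictScalars_apply]
    have hx : oA (A *ᵥ v) = (X : F[X]) • oA v := by
      simp only [oA]
      rw [Module.AEval'.X_smul_of]
      rfl
    rw [hx, map_smul]
    obtain ⟨w, hw⟩ := oB.surjective (f (oA v))
    rw [← hw, LinearEquiv.symm_apply_apply]
    simp only [oB]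
    rw [Module.AEval'.X_smul_of]
    rfl
  let P : Matrix n n F := LinearMap.toMatrix' g.toLinearMap
  let P' : Matrix n n F := LinearMap.toMatrix' g.symm.toLinearMap
  have h1 : P * P' = 1 := by
    simp only [P, P', ← LinearMap.toMatrix'_comp, LinearEquiv.comp_symm, LinearMap.toMatrix'_id]
  have h2 : P' * P = 1 := by
    simp only [P, P', ← LinearMap.toMatrix'_comp, LinearEquiv.symm_comp, LinearMap.toMatrix'_id]
  refine ⟨⟨P, P', h1, h2⟩, ?_⟩
  change P * A = B * P
  apply Matrix.toLin'.injective
  rw [Matrix.toLin'_mul, Matrix.toLin'_mul, Matrix.toLin'_toMatrix']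
  exact LinearMap.ext fun v => by simpa [Matrix.toLin'_apply] using hg v

theorem rank_aeval_eq_of_isConj {A B : Matrix n n F} (h : IsConj A B) (g : F[X]) :
    (aeval A g).rank = (aeval B g).rank := by
  obtain ⟨c, hc⟩ := h
  have hB : B = (c : Matrix n n F) * A * (↑c⁻¹ : Matrix n n F) := by
    rw [hc.eq, mul_assoc, Units.mul_inv, mul_one]
  have hg : aeval B g = (c : Matrix n n F) * aeval A g * (↑c⁻¹ : Matrix n n F) := by
    induction g using Polynomial.induction_on' with
    | add p q hp hq => simp [map_add, hp, hq, Matrix.mul_add, Matrix.add_mul]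
    | monomial k a =>
      have hpow : B ^ k = (c : Matrix n n F) * A ^ k * (↑c⁻¹ : Matrix n n F) := by
        rw [hB]; exact Units.conj_pow c A k
      rw [aeval_monomial, aeval_monomial, hpow, Algebra.algebraMap_eq_smul_one]
      simp [Matrix.mul_assoc]
  rw [hg, Matrix.rank_mul_eq_left_of_isUnit_det, Matrix.rank_mul_eq_right_of_isUnit_det]
  · exact (Matrix.isUnit_iff_isUnit_det _).1 c.isUnit
  · exact (Matrix.isUnit_iff_isUnit_det _).1 c⁻¹.isUnit

/-- Rank criterion for similarity. -/
theorem isConj_iff_rank (A B : Matrix n n F) :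
    IsConj A B ↔ ∀ Q : F[X], Q.Monic → Irreducible Q → ∀ j : ℕ,
      (aeval A Q ^ j).rank = (aeval B Q ^ j).rank := by
  refine ⟨fun h Q _ _ j => ?_, fun h => ?_⟩
  · rw [← map_pow, ← map_pow, rank_aeval_eq_of_isConj h]
  · obtain ⟨D⟩ := exists_modDecomp A
    obtain ⟨D'⟩ := exists_modDecomp B
    obtain ⟨f⟩ := nonempty_equiv_of_decomp D D' fun Q hQ hQi k =>
      D.count_eq D' hQ hQi (fun j => by simpa [rk_mod, map_pow] using h Q hQ hQi j) k
    exact isConj_of_modEquiv f

theorem isConj_transpose (A : Matrix n n F) : IsConj A A.transpose := by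
  refine (isConj_iff_rank _ _).2 fun Q _ _ j => ?_
  have h : aeval A.transpose Q = (aeval A Q).transpose := by
    clear * -
    induction Q using Polynomial.induction_on' with
    | add p q hp hq => simp [map_add, hp, hq, Matrix.transpose_add]
    | monomial k a => simp [aeval_monomial, Algebra.algebraMap_eq_smul_one, Matrix.transpose_pow]
  rw [h, ← Matrix.transpose_pow, Matrix.rank_transpose]

end CfsgLib.GLClass
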