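import Mathlib
import Cfsg.Agent.Lib.GLClass.Matrix

/-!
The characteristic polynomial is the product of the elementary divisors.
-/

set_option autoImplicit false

namespace CfsgLib.GLClass

open Polynomial Module Matrix

variable {F : Type*} [Field F]

theorem charpoly_blockDiagonal' {R : Type*} [CommRing R] {o : Type*} [Fintype o] [DecidableEq o]
    {m' : o → Type*} [∀ i, Fintype (m' i)] [∀ i, DecidableEq (m' i)]
    (d : ∀ i, Matrix (m' i) (m' i) R) :
    (Matrix.blockDiagonal' d).charpoly = ∏ i, (d i).charpoly := by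
  letI : LinearOrder o := LinearOrder.lift' (Fintype.equivFin o) (Fintype.equivFin o).injective
  have h : ∀ a, ((Matrix.blockDiagonal' d).toSquareBlock Sigma.fst a).charpoly
      = (d a).charpoly := by
    intro a
    rw [← Matrix.charpoly_reindex (Equiv.sigmaSubtype a)]
    congr 1
    ext i j
    simp [Matrix.toSquareBlock_def, Equiv.sigmaSubtype]
  rw [(Matrix.blockTriangular_blockDiagonal' d).charpoly]
  refine ((Finset.prod_congr rfl fun a _ => ?_).trans
    (Finset.prod_subset (Finset.subset_univ _) fun a _ ha => ?_))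
  · convert h a
  · haveI : IsEmpty (m' a) := ⟨fun x => ha (by simp; exact ⟨x⟩)⟩
    simp [Matrix.charpoly]

/-- Multiplication by `X` on a module over `F[X]`. -/
noncomputable def mulX (M : Type*) [AddCommGroup M] [Module F M] [Module F[X] M]
    [IsScalarTower F F[X] M] : Module.End F M :=
  (LinearMap.lsmul F[X] M X).restrictScalars F

theorem charpoly_mulX_quo {f : F[X]} (hf : f.Monic) :
    haveI := finite_quo hf
    (mulX (Quo f)).charpoly = f := by
  haveI := finite_quo hf
  let pb := AdjoinRoot.powerBasis' hf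
  have h1 := charpoly_leftMulMatrix pb
  rw [show minpoly F pb.gen = f by
    simp [pb, AdjoinRoot.minpoly_root hf.ne_zero, hf.leadingCoeff]] at h1
  let bb : Basis (Fin pb.dim) F (Quo f) := pb.basis
  conv_rhs => rw [← h1]
  rw [← LinearMap.charpoly_toMatrix (mulX (Quo f)) bb]
  congr 1

theorem charpoly_mulX_congr {M N : Type*} [AddCommGroup M] [Module F M] [Module F[X] M]
    [IsScalarTower F F[X] M] [AddCommGroup N] [Module F N] [Module F[X] N]
    [IsScalarTower F F[X] N] [Module.Finite F M] [Module.Finite F N] (e : M ≃ₗ[F[X]] N) :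
    (mulX (F := F) M).charpoly = (mulX (F := F) N).charpoly := by
  rw [← LinearEquiv.charpoly_conj (e.restrictScalars F)]
  congr 1
  ext x
  simp [mulX, LinearEquiv.conj_apply]

theorem charpoly_mulX_pi {ι : Type*} [Fintype ι] (A : ι → Type*) [∀ i, AddCommGroup (A i)]
    [∀ i, Module F (A i)] [∀ i, Module F[X] (A i)] [∀ i, IsScalarTower F F[X] (A i)]
    [∀ i, Module.Finite F (A i)] :
    (mulX (F := F) ((i : ι) → A i)).charpoly = ∏ i, (mulX (F := F) (A i)).charpoly := by
  classical
  let b := fun i => Module.Free.chooseBasis F (A i)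
  rw [← LinearMap.charpoly_toMatrix (mulX (F := F) ((i : ι) → A i)) (Pi.basis b)]
  have h : LinearMap.toMatrix (Pi.basis b) (Pi.basis b) (mulX (F := F) ((i : ι) → A i))
      = Matrix.blockDiagonal' fun i => LinearMap.toMatrix (b i) (b i) (mulX (F := F) (A i)) := by
    ext ⟨i, x⟩ ⟨j, y⟩
    rw [LinearMap.toMatrix_apply, Pi.basis_apply, Pi.basis_repr]
    by_cases hij : i = j
    · subst hij
      rw [Matrix.blockDiagonal'_apply_eq, LinearMap.toMatrix_apply]
      simp [mulX]
    · rw [Matrix.blockDiagonal'_apply_ne _ _ _ hij]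
      simp [mulX, Pi.single_eq_of_ne hij]
  rw [h, charpoly_blockDiagonal']
  exact Finset.prod_congr rfl fun i _ => LinearMap.charpoly_toMatrix _ (b i)

theorem Decomp.charpoly_eq {M : Type*} [AddCommGroup M] [Module F M] [Module F[X] M]
    [IsScalarTower F F[X] M] [Module.Finite F M] (D : Decomp (F := F) M) :
    (mulX (F := F) M).charpoly = ∏ i, D.P i ^ D.e i := by
  haveI : ∀ i, Module.Finite F (Quo (D.P i ^ D.e i)) := fun i => finite_quo ((D.monic i).pow _)
  rw [charpoly_mulX_congr D.equiv, charpoly_mulX_pi]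
  exact Finset.prod_congr rfl fun i _ => charpoly_mulX_quo ((D.monic i).pow _)

variable {n : Type*} [Fintype n] [DecidableEq n]

theorem charpoly_mulX_mod (A : Matrix n n F) : (mulX (F := F) (Mod A)).charpoly = A.charpoly := by
  rw [← Matrix.charpoly_toLin' A, ← LinearEquiv.charpoly_conj
    (Module.AEval'.of (Matrix.toLinAlgEquiv' A))]
  congr 1
  ext x
  obtain ⟨v, rfl⟩ := (Module.AEval'.of (Matrix.toLinAlgEquiv' A)).surjective x
  rw [LinearEquiv.conj_apply]
  simp only [LinearMap.coe_comp, LinearEquiv.coe_toLinearMap, Function.comp_apply,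
    LinearEquiv.symm_apply_apply, mulX, LinearMap.coe_restrictScalars, LinearMap.lsmul_apply]
  rw [Module.AEval'.X_smul_of]
  rfl

end CfsgLib.GLClass
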