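import Mathlib
import Cfsg.Agent.Lib.GLClass.Matrix

/-!
Unipotent matrices: similarity is decided by the ranks of the powers of `A - 1`; orders of
unipotent elements in characteristic `p`.
-/

set_option autoImplicit false

namespace CfsgLib.GLClass

open Polynomial Module Matrix

variable {F : Type*} [Field F] {n : Type*} [Fintype n] [DecidableEq n]

theorem aeval_X_sub_one (A : Matrix n n F) : aeval A (X - C (1 : F)) = A - 1 := by
  simp

theorem monic_X_sub_one : (X - C (1 : F)).Monic := monic_X_sub_C 1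

theorem irreducible_X_sub_one : Irreducible (X - C (1 : F)) := irreducible_X_sub_C 1

theorem Decomp.eq_of_pow_smul_eq_zero {M : Type*} [AddCommGroup M] [Module F[X] M]
    (D : Decomp (F := F) M) {Q : F[X]} (hQ : Q.Monic) (hQi : Irreducible Q) {N : ℕ}
    (h : ∀ x : M, Q ^ N • x = 0) (i : D.ι) : D.P i = Q := by
  classical
  have h1 : Q ^ N • (Pi.single i (Submodule.Quotient.mk 1) :
      (j : D.ι) → Quo (D.P j ^ D.e j)) = 0 := by
    have h2 := congrArg D.equiv (h (D.equiv.symm (Pi.single i (Submodule.Quotient.mk 1))))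
    rwa [map_smul, map_zero, LinearEquiv.apply_symm_apply] at h2
  have h3 := congrFun h1 i
  rw [Pi.smul_apply, Pi.single_eq_same, ← Submodule.Quotient.mk_smul, Pi.zero_apply,
    Submodule.Quotient.mk_eq_zero, smul_eq_mul, mul_one, Ideal.mem_span_singleton] at h3
  have h4 : D.P i ∣ Q ^ N := (dvd_pow_self _ (D.pos i).ne').trans h3
  exact eq_of_monic_of_associated (D.monic i) hQ
    ((D.irred i).associated_of_dvd hQi ((D.irred i).prime.dvd_of_dvd_pow h4))

theorem pow_smul_eq_zero_of_unipotent {A : Matrix n n F} {N : ℕ} (h : (A - 1) ^ N = 0)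
    (x : Mod A) : (X - C (1 : F)) ^ N • x = 0 := by
  obtain ⟨v, rfl⟩ := (Module.AEval'.of (Matrix.toLinAlgEquiv' A)).surjective x
  rw [← Module.AEval.of_aeval_smul, Polynomial.aeval_algHom_apply, map_pow, aeval_X_sub_one, h]
  simp

/-- Unipotent matrices are similar iff all powers of `A - 1` have equal ranks. -/
theorem isConj_iff_rank_of_unipotent {A B : Matrix n n F} (hA : IsNilpotent (A - 1))
    (hB : IsNilpotent (B - 1)) :
    IsConj A B ↔ ∀ j : ℕ, ((A - 1) ^ j).rank = ((B - 1) ^ j).rank := by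
  refine ⟨fun h j => ?_, fun h => ?_⟩
  · rw [← aeval_X_sub_one A, ← aeval_X_sub_one B]
    exact (isConj_iff_rank A B).1 h _ monic_X_sub_one irreducible_X_sub_one j
  · obtain ⟨a, ha⟩ := hA
    obtain ⟨b, hb⟩ := hB
    obtain ⟨D⟩ := exists_modDecomp A
    obtain ⟨D'⟩ := exists_modDecomp B
    have hP : ∀ i, D.P i = X - C 1 :=
      D.eq_of_pow_smul_eq_zero monic_X_sub_one irreducible_X_sub_one
        (pow_smul_eq_zero_of_unipotent ha)
    have hP' : ∀ i, D'.P i = X - C 1 :=
      D'.eq_of_pow_smul_eq_zero monic_X_sub_one irreducible_X_sub_one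
        (pow_smul_eq_zero_of_unipotent hb)
    obtain ⟨f⟩ := nonempty_equiv_of_decomp D D' fun Q hQ hQi k => by
      by_cases hQ1 : Q = X - C 1
      · subst hQ1
        exact D.count_eq D' hQ hQi
          (fun j => by simpa [rk_mod, map_pow] using h j) k
      · unfold Decomp.count
        haveI : IsEmpty {i // D.P i = Q ∧ D.e i = k} := ⟨fun i => hQ1 (i.2.1.symm.trans (hP i))⟩
        haveI : IsEmpty {i // D'.P i = Q ∧ D'.e i = k} := ⟨fun i => hQ1 (i.2.1.symm.trans (hP' i))⟩
        rw [Nat.card_of_isEmpty, Nat.card_of_isEmpty]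
    exact isConj_of_modEquiv f

theorem pow_eq_zero_of_isNilpotent {A : Matrix n n F} (h : IsNilpotent A) :
    A ^ Fintype.card n = 0 := by
  have h1 : IsNilpotent (Matrix.toLinAlgEquiv' A) := h.map _
  have h2 := LinearMap.aeval_self_charpoly (Matrix.toLinAlgEquiv' A)
  rw [h1.charpoly_eq_X_pow_finrank, map_pow, aeval_X] at h2
  apply Matrix.toLinAlgEquiv'.injective
  rwa [map_pow, map_zero, ← Module.finrank_fintype_fun_eq_card (R := F) (η := n)]

variable (p : ℕ) [Fact p.Prime] [CharP F p]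

theorem pow_prime_pow_sub_one (A : Matrix n n F) (k : ℕ) :
    A ^ p ^ k - 1 = (A - 1) ^ p ^ k := by
  rcases isEmpty_or_nonempty n with hn | hn
  · exact Subsingleton.elim _ _
  · haveI := Matrix.charP (n := n) (R := F) p
    rw [sub_pow_char_pow_of_commute _ _ (Commute.one_right A), one_pow]

theorem pow_prime_pow_eq_one_iff (A : Matrix n n F) (k : ℕ) :
    A ^ p ^ k = 1 ↔ (A - 1) ^ p ^ k = 0 := by
  rw [← pow_prime_pow_sub_one p, sub_eq_zero]

theorem isNilpotent_sub_one_iff (g : GL n F) :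
    IsNilpotent ((g : Matrix n n F) - 1) ↔ ∃ k : ℕ, orderOf g = p ^ k := by
  constructor
  · intro h
    have h1 : g ^ p ^ (Nat.clog p (Fintype.card n)) = 1 := by
      apply Units.ext
      rw [Units.val_pow_eq_pow_val, Units.val_one, pow_prime_pow_eq_one_iff]
      exact pow_eq_zero_of_le (Nat.le_pow_clog (Fact.out : p.Prime).one_lt _)
        (pow_eq_zero_of_isNilpotent h)
    obtain ⟨k, -, hk⟩ := (Nat.dvd_prime_pow Fact.out).1 (orderOf_dvd_of_pow_eq_one h1)
    exact ⟨k, hk⟩
  · rintro ⟨k, hk⟩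
    refine ⟨p ^ k, (pow_prime_pow_eq_one_iff p _ k).1 ?_⟩
    rw [← Units.val_pow_eq_pow_val, ← hk, pow_orderOf_eq_one, Units.val_one]

theorem orderOf_eq_char_iff (g : GL n F) :
    orderOf g = p ↔ g ≠ 1 ∧ ((g : Matrix n n F) - 1) ^ p = 0 := by
  rw [_root_.orderOf_eq_prime_iff]
  rw [and_comm]
  refine and_congr_right fun _ => ?_
  rw [← pow_one p, ← pow_prime_pow_eq_one_iff, ← Units.val_pow_eq_pow_val, Units.val_eq_one,
    pow_one]

theorem orderOf_le_pow_clog (g : GL n F) (h : IsNilpotent ((g : Matrix n n F) - 1)) :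
    orderOf g ≤ p ^ Nat.clog p (Fintype.card n) :=
  Nat.le_of_dvd (Nat.pow_pos (Fact.out : p.Prime).pos) <| orderOf_dvd_of_pow_eq_one <| by
    apply Units.ext
    rw [Units.val_pow_eq_pow_val, Units.val_one, pow_prime_pow_eq_one_iff]
    exact pow_eq_zero_of_le (Nat.le_pow_clog (Fact.out : p.Prime).one_lt _)
      (pow_eq_zero_of_isNilpotent h)

theorem orderOf_eq_pow_clog (g : GL n F) (h : IsNilpotent ((g : Matrix n n F) - 1))
    (h' : ((g : Matrix n n F) - 1) ^ (Fintype.card n - 1) ≠ 0) :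
    orderOf g = p ^ Nat.clog p (Fintype.card n) := by
  have hp := (Fact.out : p.Prime)
  obtain ⟨k, hk⟩ := (isNilpotent_sub_one_iff p g).1 h
  refine le_antisymm (orderOf_le_pow_clog p g h) ?_
  rw [hk]
  refine Nat.pow_le_pow_right hp.pos ((Nat.clog_le_iff_le_pow hp.one_lt).2 ?_)
  by_contra hlt
  have h1 : ((g : Matrix n n F) - 1) ^ p ^ k = 0 := by
    rw [← pow_prime_pow_eq_one_iff, ← Units.val_pow_eq_pow_val, ← hk, pow_orderOf_eq_one,
      Units.val_one]
  exact h' (pow_eq_zero_of_le (by omega) h1)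

end CfsgLib.GLClass
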