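import Mathlib
import Cfsg.Agent.Lib.GLClass.Unipotent

/-!
Quadratic unipotent matrices: the standard representative and conjugacy under determinant one.
-/

set_option autoImplicit false

namespace CfsgLib.GLClass

open Module Matrix

variable {F : Type*} [Field F] {n : ℕ}

/-- The matrix with an identity block of size `ℓ` in the lower left corner. -/
def corner (n ℓ : ℕ) (F : Type*) [Field F] : Matrix (Fin n) (Fin n) F :=
  Matrix.of fun i j => if j.val < ℓ ∧ i.val = j.val + (n - ℓ) then (1 : F) else 0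

theorem corner_mul_self {ℓ : ℕ} (h : 2 * ℓ ≤ n) : corner n ℓ F * corner n ℓ F = 0 := by
  ext i j
  simp only [Matrix.mul_apply, corner, Matrix.of_apply, Matrix.zero_apply]
  refine Finset.sum_eq_zero fun k _ => ?_
  split_ifs <;> simp <;> omega

theorem corner_eq_mul {ℓ : ℕ} (h : ℓ ≤ n) :
    corner n ℓ F = (Matrix.of fun (i : Fin n) (k : Fin ℓ) =>
        if i.val = k.val + (n - ℓ) then (1 : F) else 0) *
      (Matrix.of fun (k : Fin ℓ) (j : Fin n) => if j.val = k.val then (1 : F) else 0) := by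
  ext i j
  simp only [Matrix.mul_apply, corner, Matrix.of_apply]
  by_cases hj : j.val < ℓ
  · rw [Finset.sum_eq_single ⟨j.val, hj⟩]
    · simp [hj]
    · intro k _ hk
      rw [if_neg (c := j.val = k.val) (fun h => hk (Fin.ext h.symm)), mul_zero]
    · simp
  · rw [if_neg (fun h => hj h.1), eq_comm]
    refine Finset.sum_eq_zero fun k _ => ?_
    rw [if_neg (c := j.val = k.val) (fun h => hj (h ▸ k.isLt)), mul_zero]

theorem rank_corner {ℓ : ℕ} (h : ℓ ≤ n) : (corner n ℓ F).rank = ℓ := by
  refine le_antisymm ?_ ?_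
  · rw [corner_eq_mul h]
    exact (Matrix.rank_mul_le_left _ _).trans (Matrix.rank_le_card_width _ |>.trans_eq (by simp))
  · let r : Fin ℓ → Fin n := fun k => ⟨k.val + (n - ℓ), by omega⟩
    let c : Fin ℓ → Fin n := fun k => ⟨k.val, by omega⟩
    have h1 : (corner n ℓ F).submatrix r c = 1 := by
      ext a b
      simp only [corner, Matrix.submatrix_apply, Matrix.of_apply, Matrix.one_apply, r, c,
        Fin.ext_iff]
      have := b.isLt
      split_ifs <;> first | rfl | omega
    have h2 := Matrix.rank_submatrix_le (corner n ℓ F) r c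
    rwa [h1, Matrix.rank_one, Fintype.card_fin] at h2

theorem two_mul_rank_le {N : Matrix (Fin n) (Fin n) F} (h : N * N = 0) : 2 * N.rank ≤ n := by
  have h1 : LinearMap.range N.mulVecLin ≤ LinearMap.ker N.mulVecLin := by
    rintro _ ⟨v, rfl⟩
    rw [LinearMap.mem_ker, Matrix.mulVecLin_apply, Matrix.mulVecLin_apply, Matrix.mulVec_mulVec,
      h, Matrix.zero_mulVec]
  have h2 := LinearMap.finrank_range_add_finrank_ker N.mulVecLin
  have h3 := Submodule.finrank_mono h1
  rw [Module.finrank_fin_fun] at h2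
  unfold Matrix.rank
  omega

/-- A quadratic unipotent matrix is similar to the standard one of the same rank. -/
theorem isConj_corner {A : Matrix (Fin n) (Fin n) F} (h : (A - 1) * (A - 1) = 0) :
    IsConj A (1 + corner n (A - 1).rank F) := by
  have hle := two_mul_rank_le h
  have hC : (1 + corner n (A - 1).rank F - 1) = corner n (A - 1).rank F := add_sub_cancel_left _ _
  refine (isConj_iff_rank_of_unipotent ⟨2, by rw [pow_two, h]⟩
    ⟨2, by rw [pow_two, hC, corner_mul_self hle]⟩).2 fun j => ?_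
  rw [hC]
  match j with
  | 0 => simp
  | 1 => rw [pow_one, pow_one, rank_corner (by omega)]
  | j + 2 => rw [pow_add, pow_add, pow_two, pow_two, h, corner_mul_self hle, mul_zero, mul_zero]

theorem isConj_units {M : Type*} [Monoid M] {g h : Mˣ} (hc : IsConj (g : M) (h : M)) :
    IsConj g h := by
  obtain ⟨c, hc⟩ := hc
  exact isConj_iff.2 ⟨c, mul_inv_eq_iff_eq_mul.2 (Units.ext hc.eq)⟩

/-- If the centraliser of `S` has every determinant, similar special matrices are conjugate. -/
theorem sl_isConj {S : Matrix (Fin n) (Fin n) F} {a b : Matrix.SpecialLinearGroup (Fin n) F}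
    (ha : IsConj (a : Matrix (Fin n) (Fin n) F) S) (hb : IsConj (b : Matrix (Fin n) (Fin n) F) S)
    (hS : ∀ d : F, d ≠ 0 → ∃ D : Matrix (Fin n) (Fin n) F, D * S = S * D ∧ D.det = d) :
    IsConj a b := by
  obtain ⟨u, hu⟩ := ha
  obtain ⟨v, hv⟩ := hb
  have hdu : (u : Matrix (Fin n) (Fin n) F).det ≠ 0 :=
    ((Matrix.isUnit_iff_isUnit_det _).1 u.isUnit).ne_zero
  have hdv : (v : Matrix (Fin n) (Fin n) F).det ≠ 0 :=
    ((Matrix.isUnit_iff_isUnit_det _).1 v.isUnit).ne_zero
  obtain ⟨D, hD, hdet⟩ := hS ((v : Matrix (Fin n) (Fin n) F).det / (u : Matrix (Fin n) (Fin n) F).det)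
    (div_ne_zero hdv hdu)
  have hvi : (↑v⁻¹ : Matrix (Fin n) (Fin n) F).det * (v : Matrix (Fin n) (Fin n) F).det = 1 := by
    rw [← Matrix.det_mul, Units.inv_mul, Matrix.det_one]
  let M : Matrix (Fin n) (Fin n) F := (↑v⁻¹ : Matrix (Fin n) (Fin n) F) * D *
    (u : Matrix (Fin n) (Fin n) F)
  have hMdet : M.det = 1 := by
    simp only [M, Matrix.det_mul, hdet]
    rw [mul_assoc, div_mul_cancel₀ _ hdu, hvi]
  refine isConj_iff.2 ⟨⟨M, hMdet⟩, mul_inv_eq_iff_eq_mul.2 (Subtype.ext ?_)⟩
  change M * (a : Matrix (Fin n) (Fin n) F) = (b : Matrix (Fin n) (Fin n) F) * M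
  have hv' : (↑v⁻¹ : Matrix (Fin n) (Fin n) F) * S
      = (b : Matrix (Fin n) (Fin n) F) * (↑v⁻¹ : Matrix (Fin n) (Fin n) F) :=
    hv.units_inv_symm_left.eq
  simp only [M]
  rw [mul_assoc, mul_assoc, hu.eq, ← mul_assoc D, hD, ← mul_assoc, ← mul_assoc, hv', mul_assoc,
    mul_assoc, mul_assoc]

theorem diagonal_commute_one_add (w : Fin n → F) (N : Matrix (Fin n) (Fin n) F)
    (h : ∀ i j, N i j ≠ 0 → w i = w j) :
    Matrix.diagonal w * (1 + N) = (1 + N) * Matrix.diagonal w := by
  have h1 : Matrix.diagonal w * N = N * Matrix.diagonal w := by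
    ext i j
    rw [Matrix.diagonal_mul, Matrix.mul_diagonal]
    by_cases hz : N i j = 0
    · simp [hz]
    · rw [h i j hz, mul_comm]
  rw [mul_add, add_mul, h1, mul_one, one_mul]

end CfsgLib.GLClass
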