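import Mathlib
import Cfsg.Agent.Lib.GLClass.Special
import Cfsg.Agent.Lib.GLClass.Charpoly

/-!
Semisimple matrices over finite fields: order prime to `p`, similarity by characteristic
polynomial, conjugation by a matrix of determinant one.
-/

set_option autoImplicit false

namespace CfsgLib.GLClass

open Polynomial Module Matrix UniqueFactorizationMonoid

variable {F : Type*} [Field F] {n : Type*} [Fintype n] [DecidableEq n]

/-- `A` is killed by a squarefree polynomial. -/
def IsSS (A : Matrix n n F) : Prop := ∃ g : F[X], Squarefree g ∧ aeval A g = 0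

theorem isSS_of_coprime (p : ℕ) [Fact p.Prime] [CharP F p] [Fintype F] (g : GL n F)
    (h : (orderOf g).Coprime p) : IsSS (g : Matrix n n F) := by
  refine ⟨X ^ orderOf g - 1, Separable.squarefree (X_pow_sub_one_separable_iff.2 ?_), ?_⟩
  · rw [Ne, CharP.cast_eq_zero_iff F p]
    intro hd
    exact (Fact.out : p.Prime).ne_one (Nat.dvd_one.1 (h ▸ Nat.dvd_gcd hd dvd_rfl))
  · rw [map_sub, map_pow, aeval_X, map_one, ← Units.val_pow_eq_pow_val, pow_orderOf_eq_one,
      Units.val_one, sub_self]

theorem smul_eq_zero_of_aeval {A : Matrix n n F} {g : F[X]} (h : aeval A g = 0) (x : Mod A) :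
    g • x = 0 := by
  obtain ⟨v, rfl⟩ := (Module.AEval'.of (Matrix.toLinAlgEquiv' A)).surjective x
  rw [← Module.AEval.of_aeval_smul, Polynomial.aeval_algHom_apply, h]
  simp

theorem aeval_eq_zero_of_smul {A : Matrix n n F} {g : F[X]} (h : ∀ x : Mod A, g • x = 0) :
    aeval A g = 0 := by
  refine Matrix.ext_of_mulVec_single fun i => ?_
  have h1 := h (Module.AEval'.of (Matrix.toLinAlgEquiv' A) (Pi.single i 1))
  rw [← Module.AEval.of_aeval_smul, Polynomial.aeval_algHom_apply,
    LinearEquiv.map_eq_zero_iff] at h1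
  rw [Matrix.zero_mulVec]
  exact h1

theorem Decomp.exp_eq_one {M : Type*} [AddCommGroup M] [Module F[X] M] (D : Decomp (F := F) M)
    {g : F[X]} (hg : Squarefree g) (h : ∀ x : M, g • x = 0) (i : D.ι) : D.e i = 1 := by
  classical
  have h1 : g • (Pi.single i (Submodule.Quotient.mk 1) :
      (j : D.ι) → Quo (D.P j ^ D.e j)) = 0 := by
    have h2 := congrArg D.equiv (h (D.equiv.symm (Pi.single i (Submodule.Quotient.mk 1))))
    rwa [map_smul, map_zero, LinearEquiv.apply_symm_apply] at h2
  have h3 := congrFun h1 i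
  rw [Pi.smul_apply, Pi.single_eq_same, ← Submodule.Quotient.mk_smul, Pi.zero_apply,
    Submodule.Quotient.mk_eq_zero, smul_eq_mul, mul_one, Ideal.mem_span_singleton] at h3
  by_contra hne
  have h2 : D.P i * D.P i ∣ g := by
    refine dvd_trans ?_ h3
    rw [← pow_two]
    exact pow_dvd_pow _ (by have := D.pos i; omega)
  exact (D.irred i).not_isUnit (hg _ h2)

theorem Decomp.factors_eq {M : Type*} [AddCommGroup M] [Module F M] [Module F[X] M]
    [IsScalarTower F F[X] M] [Module.Finite F M] (D : Decomp (F := F) M)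
    (he : ∀ i, D.e i = 1) [DecidableEq F] :
    normalizedFactors (mulX (F := F) M).charpoly = Finset.univ.val.map D.P := by
  rw [D.charpoly_eq, Finset.prod_congr rfl fun i _ => by rw [he i, pow_one]]
  rw [Finset.prod_eq_multiset_prod,
    normalizedFactors_prod_eq _ fun a ha => by
      obtain ⟨i, -, rfl⟩ := Multiset.mem_map.1 ha
      exact D.irred i,
    Multiset.map_map]
  refine Multiset.map_congr rfl fun i _ => ?_
  exact (D.monic i).normalize_eq_self

/-- Semisimple matrices with equal characteristic polynomials are similar. -/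
theorem isConj_of_charpoly_eq {A B : Matrix n n F} (hA : IsSS A) (hB : IsSS B)
    (h : A.charpoly = B.charpoly) : IsConj A B := by
  classical
  obtain ⟨D⟩ := exists_modDecomp A
  obtain ⟨D'⟩ := exists_modDecomp B
  obtain ⟨g, hg, hg0⟩ := hA
  obtain ⟨g', hg', hg0'⟩ := hB
  have he := D.exp_eq_one hg (smul_eq_zero_of_aeval hg0)
  have he' := D'.exp_eq_one hg' (smul_eq_zero_of_aeval hg0')
  have h1 : Finset.univ.val.map D.P = Finset.univ.val.map D'.P := by
    rw [← D.factors_eq he, ← D'.factors_eq he', charpoly_mulX_mod, charpoly_mulX_mod, h]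
  obtain ⟨f⟩ := nonempty_equiv_of_decomp D D' fun Q _ _ k => by
    unfold Decomp.count
    by_cases hk : k = 1
    · subst hk
      have h2 := congrArg (Multiset.count Q) h1
      simp only [Multiset.count_map] at h2
      simp only [he, he', and_true]
      rw [Nat.card_eq_fintype_card, Nat.card_eq_fintype_card, Fintype.card_subtype,
        Fintype.card_subtype]
      simpa [eq_comm, Finset.card_def, Finset.filter_val] using h2
    · haveI : IsEmpty {i // D.P i = Q ∧ D.e i = k} := ⟨fun i => hk (i.2.2.symm.trans (he _))⟩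
      haveI : IsEmpty {i // D'.P i = Q ∧ D'.e i = k} := ⟨fun i => hk (i.2.2.symm.trans (he' _))⟩
      rw [Nat.card_of_isEmpty, Nat.card_of_isEmpty]
  exact isConj_of_modEquiv f

theorem det_blockDiagonal_dep {R : Type*} [CommRing R] {o : Type*} [Fintype o] [DecidableEq o]
    {m' : o → Type*} [∀ i, Fintype (m' i)] [∀ i, DecidableEq (m' i)]
    (d : ∀ i, Matrix (m' i) (m' i) R) :
    (Matrix.blockDiagonal' d).det = ∏ i, (d i).det := by
  letI : LinearOrder o := LinearOrder.lift' (Fintype.equivFin o) (Fintype.equivFin o).injective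
  rw [(Matrix.blockTriangular_blockDiagonal' d).det]
  refine ((Finset.prod_congr rfl fun a _ => ?_).trans
    (Finset.prod_subset (Finset.subset_univ _) fun a _ ha => ?_))
  · rw [← Matrix.det_reindex_self (Equiv.sigmaSubtype a)]
    congr 1
    ext i j
    simp [Matrix.toSquareBlock_def, Equiv.sigmaSubtype]
  · haveI : IsEmpty (m' a) := ⟨fun x => ha (by simp; exact ⟨x⟩)⟩
    simp

theorem det_piMap {ι : Type*} [Fintype ι] (A : ι → Type*) [∀ i, AddCommGroup (A i)]
    [∀ i, Module F (A i)] [∀ i, Module.Finite F (A i)] (f : ∀ i, A i →ₗ[F] A i) :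
    LinearMap.det (LinearMap.pi fun i => (f i).comp (LinearMap.proj i)) =
      ∏ i, LinearMap.det (f i) := by
  classical
  let b := fun i => Module.Free.chooseBasis F (A i)
  rw [← LinearMap.det_toMatrix (Pi.basis b)]
  have h : LinearMap.toMatrix (Pi.basis b) (Pi.basis b)
      (LinearMap.pi fun i => (f i).comp (LinearMap.proj i))
      = Matrix.blockDiagonal' fun i => LinearMap.toMatrix (b i) (b i) (f i) := by
    ext ⟨i, x⟩ ⟨j, y⟩
    rw [LinearMap.toMatrix_apply, Pi.basis_apply, Pi.basis_repr]
    by_cases hij : i = j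
    · subst hij
      rw [Matrix.blockDiagonal'_apply_eq, LinearMap.toMatrix_apply]
      simp
    · rw [Matrix.blockDiagonal'_apply_ne _ _ _ hij]
      simp [Pi.single_eq_of_ne hij]
  rw [h, det_blockDiagonal_dep]
  exact Finset.prod_congr rfl fun i _ => LinearMap.det_toMatrix _ (f i)

theorem exists_det_quo [Finite F] {P : F[X]} (hP : P.Monic) (hPi : Irreducible P) (d : F)
    (hd : d ≠ 0) : ∃ c : F[X],
      LinearMap.det ((LinearMap.lsmul F[X] (Quo P) c).restrictScalars F) = d := by
  haveI : Fact (Irreducible P) := ⟨hPi⟩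
  haveI : Module.Finite F (AdjoinRoot P) := hP.finite_adjoinRoot
  haveI : Finite (AdjoinRoot P) := Module.finite_of_finite F
  obtain ⟨y, hy⟩ := FiniteField.norm_surjective F (AdjoinRoot P) d
  obtain ⟨c, rfl⟩ := AdjoinRoot.mk_surjective y
  refine ⟨c, ?_⟩
  rw [← hy, Algebra.norm_apply]
  congr 1

/-- The centraliser of a semisimple matrix has every determinant. -/
theorem exists_commute_det [Finite F] [Nonempty n] {A : Matrix n n F} (hA : IsSS A) (d : F)
    (hd : d ≠ 0) : ∃ D : Matrix n n F, D * A = A * D ∧ D.det = d := by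
  classical
  obtain ⟨E⟩ := exists_modDecomp A
  obtain ⟨g, hg, hg0⟩ := hA
  have he := E.exp_eq_one hg (smul_eq_zero_of_aeval hg0)
  let o := Module.AEval'.of (Matrix.toLinAlgEquiv' A)
  haveI : ∀ i, Module.Finite F (Quo (E.P i ^ E.e i)) := fun i => finite_quo ((E.monic i).pow _)
  have hne : Nonempty E.ι := by
    by_contra hcon
    haveI := not_nonempty_iff.1 hcon
    haveI : Subsingleton (Mod A) := E.equiv.toEquiv.subsingleton
    haveI : Subsingleton (n → F) := o.toEquiv.subsingleton
    exact false_of_nontrivial_of_subsingleton (n → F)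
  obtain ⟨i₀⟩ := hne
  have hi : Irreducible (E.P i₀ ^ E.e i₀) := by rw [he, pow_one]; exact E.irred i₀
  obtain ⟨c, hc⟩ := exists_det_quo ((E.monic i₀).pow _) hi d hd
  let f : ∀ i, Quo (E.P i ^ E.e i) →ₗ[F[X]] Quo (E.P i ^ E.e i) := fun i =>
    LinearMap.lsmul F[X] _ (if i = i₀ then c else 1)
  let φ : Module.End F[X] (Mod A) :=
    E.equiv.symm.toLinearMap ∘ₗ (LinearMap.pi fun i => (f i).comp (LinearMap.proj i)) ∘ₗ
      E.equiv.toLinearMap
  let ψ : (n → F) →ₗ[F] (n → F) :=
    o.symm.toLinearMap ∘ₗ (φ.restrictScalars F) ∘ₗ o.toLinearMap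
  refine ⟨LinearMap.toMatrix' ψ, ?_, ?_⟩
  · apply Matrix.toLin'.injective
    rw [Matrix.toLin'_mul, Matrix.toLin'_mul, Matrix.toLin'_toMatrix']
    refine LinearMap.ext fun v => ?_
    have hx : ∀ w, o (A *ᵥ w) = (X : F[X]) • o w := fun w => by
      simp only [o]
      rw [Module.AEval'.X_smul_of]
      rfl
    apply o.injective
    simp only [ψ, LinearMap.coe_comp, LinearEquiv.coe_toLinearMap, Function.comp_apply,
      Matrix.toLin'_apply, LinearEquiv.apply_symm_apply, LinearMap.coe_restrictScalars, hx,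
      map_smul]
  · rw [LinearMap.det_toMatrix']
    have h1 : LinearMap.det ψ = LinearMap.det (φ.restrictScalars F) :=
      LinearMap.det_conj (φ.restrictScalars F) o.symm
    have h2 : LinearMap.det (φ.restrictScalars F) = LinearMap.det (LinearMap.pi fun i =>
        ((f i).restrictScalars F).comp (LinearMap.proj i)) :=
      LinearMap.det_conj (LinearMap.pi fun i =>
        ((f i).restrictScalars F).comp (LinearMap.proj i)) (E.equiv.symm.restrictScalars F)
    rw [h1, h2, det_piMap, Finset.prod_eq_single i₀]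
    · rw [show f i₀ = LinearMap.lsmul F[X] _ c by simp [f]]
      exact hc
    · intro i _ hi
      rw [show (f i).restrictScalars F = LinearMap.id by ext; simp [f, hi]]
      exact LinearMap.det_id
    · simp

theorem sl_isConj_of_charpoly [Finite F] {m : ℕ} (hm : 1 ≤ m)
    {a b : Matrix.SpecialLinearGroup (Fin m) F} (ha : IsSS (a : Matrix (Fin m) (Fin m) F))
    (hb : IsSS (b : Matrix (Fin m) (Fin m) F))
    (h : (a : Matrix (Fin m) (Fin m) F).charpoly = (b : Matrix (Fin m) (Fin m) F).charpoly) :
    IsConj a b := by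
  haveI : Nonempty (Fin m) := ⟨⟨0, hm⟩⟩
  exact sl_isConj (isConj_of_charpoly_eq ha hb h) (IsConj.refl _) fun d hd =>
    exists_commute_det hb d hd

end CfsgLib.GLClass
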