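import Mathlib
import Cfsg.Agent.Lib.GLClass.Semisimple

/-!
Every monic polynomial with non-zero constant term is the characteristic polynomial of a
semisimple element; counting semisimple classes.
-/

set_option autoImplicit false

namespace CfsgLib.GLClass

open Polynomial Module Matrix UniqueFactorizationMonoid

variable {F : Type*} [Field F] [Fintype F]

theorem dvd_pow_sub_one {P : F[X]} (hP : P.Monic) (hPi : Irreducible P) (h0 : P.eval 0 ≠ 0) :
    P ∣ X ^ (Fintype.card F ^ P.natDegree - 1) - 1 := by
  have h := hPi.natDegree_dvd_iff_dvd_X_pow_card_pow_sub_X.1 (dvd_refl P.natDegree)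
  rw [Nat.card_eq_fintype_card] at h
  have hpos : 1 ≤ Fintype.card F ^ P.natDegree := Nat.one_le_pow _ _ Fintype.card_pos
  have hsplit : (X : F[X]) ^ (Fintype.card F ^ P.natDegree) - X
      = X * (X ^ (Fintype.card F ^ P.natDegree - 1) - 1) := by
    rw [mul_sub, mul_one, ← pow_succ', Nat.sub_add_cancel hpos]
  rw [hsplit] at h
  refine (hPi.prime.dvd_or_dvd h).resolve_left fun hd => h0 ?_
  have := eq_of_monic_of_associated hP monic_X (hPi.associated_of_dvd irreducible_X hd)
  simp [this]

/-- Realisation of a characteristic polynomial by a semisimple element. -/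
theorem exists_ss_of_monic (p : ℕ) [Fact p.Prime] [CharP F p] {n : ℕ} (f : F[X]) (hf : f.Monic)
    (hdeg : f.natDegree = n) (h0 : f.eval 0 ≠ 0) :
    ∃ A : GL (Fin n) F, (A : Matrix (Fin n) (Fin n) F).charpoly = f ∧ (orderOf A).Coprime p := by
  classical
  let L := (normalizedFactors f).toList
  let P : Fin L.length → F[X] := fun i => L.get i
  have hmem : ∀ i, P i ∈ normalizedFactors f := fun i =>
    Multiset.mem_toList.1 (List.get_mem L i)
  have hirr : ∀ i, Irreducible (P i) := fun i => irreducible_of_normalized_factor _ (hmem i)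
  have hmon : ∀ i, (P i).Monic := fun i => by
    rw [← normalize_normalized_factor _ (hmem i)]
    exact monic_normalize (hirr i).ne_zero
  have hprod : ∏ i, P i = f := by
    have h1 : ∏ i, P i = (normalizedFactors f).prod := by
      rw [show ∏ i, P i = L.prod by rw [← List.prod_ofFn]; simp [P], Multiset.prod_toList]
    have h2 : (∏ i, P i).Monic := monic_prod_of_monic _ _ fun i _ => hmon i
    exact eq_of_monic_of_associated h2 hf (h1 ▸ prod_normalizedFactors hf.ne_zero)
  let V := (i : Fin L.length) → Quo (P i)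
  haveI : ∀ i, Module.Finite F (Quo (P i)) := fun i => finite_quo (hmon i)
  have hch : (mulX (F := F) V).charpoly = f := by
    rw [charpoly_mulX_pi, Finset.prod_congr rfl fun i _ => charpoly_mulX_quo (hmon i), hprod]
  have hfin : finrank F V = n := by
    rw [← LinearMap.charpoly_natDegree (mulX (F := F) V), hch, hdeg]
  let b := Module.finBasisOfFinrankEq F V hfin
  let A := LinearMap.toMatrix b b (mulX (F := F) V)
  have hA : A.charpoly = f := by rw [LinearMap.charpoly_toMatrix, hch]
  let M := ∏ i, (Fintype.card F ^ (P i).natDegree - 1)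
  have hpow : A ^ M = 1 := by
    simp only [A]
    rw [LinearMap.toMatrix_pow, ← LinearMap.toMatrix_one b]
    congr 1
    have hsm : ∀ k : ℕ, ∀ v : V, (mulX (F := F) V ^ k) v = (X : F[X]) ^ k • v := by
      intro k
      induction k with
      | zero => simp
      | succ k ih =>
        intro v
        rw [pow_succ', Module.End.mul_apply, ih, pow_succ', mul_smul]
        rfl
    refine LinearMap.ext fun v => ?_
    rw [hsm, Module.End.one_apply]
    funext i
    rw [Pi.smul_apply]
    obtain ⟨r, hr⟩ := Submodule.mkQ_surjective _ (v i)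
    rw [← hr, Submodule.mkQ_apply, ← Submodule.Quotient.mk_smul, Submodule.Quotient.eq,
      smul_eq_mul, Ideal.mem_span_singleton]
    have hd : P i ∣ X ^ M - 1 := by
      have h0i : (P i).eval 0 ≠ 0 := fun hz => h0 (by
        rw [← hprod, eval_prod, Finset.prod_eq_zero (Finset.mem_univ i) hz])
      refine (dvd_pow_sub_one (hmon i) (hirr i) h0i).trans ?_
      obtain ⟨c, hc⟩ : (Fintype.card F ^ (P i).natDegree - 1) ∣ M :=
        Finset.dvd_prod_of_mem _ (Finset.mem_univ i)
      rw [hc, pow_mul]
      exact sub_one_dvd_pow_sub_one _ c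
    rw [show X ^ M * r - r = (X ^ M - 1) * r by ring]
    exact hd.mul_right r
  have hM : ¬ p ∣ M := by
    rw [(Fact.out : p.Prime).prime.dvd_finset_prod_iff]
    rintro ⟨i, -, hi⟩
    have h1 : p ∣ Fintype.card F ^ (P i).natDegree := by
      obtain ⟨k, hk, hcard⟩ := FiniteField.card F p
      rw [hcard, ← pow_mul]
      exact dvd_pow_self p (Nat.mul_ne_zero k.pos.ne' (hirr i).natDegree_pos.ne')
    have h2 : p ∣ 1 := by
      have := Nat.dvd_sub h1 hi
      rwa [Nat.sub_sub_self (Nat.one_le_pow _ _ Fintype.card_pos)] at this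
    exact (Fact.out : p.Prime).ne_one (Nat.dvd_one.1 h2)
  have hM0 : M ≠ 0 := fun h => hM (h ▸ dvd_zero p)
  have hu : IsUnit A := IsUnit.of_pow_eq_one hpow hM0
  refine ⟨hu.unit, hA, ?_⟩
  have : orderOf hu.unit ∣ M := orderOf_dvd_of_pow_eq_one (Units.ext (by simpa using hpow))
  exact Nat.Coprime.coprime_dvd_left this (Nat.Coprime.symm
    ((Fact.out : p.Prime).coprime_iff_not_dvd.2 hM))

/-- The monic polynomials of degree `m + 1` as tuples of coefficients. -/
theorem exists_monic_equiv (m : ℕ) (S : Set F) :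
    Nat.card {f : F[X] // f.Monic ∧ f.natDegree = m + 1 ∧ f.eval 0 ∈ S} =
      Nat.card S * Fintype.card F ^ m := by
  classical
  let e0 : {f : F[X] // f.Monic ∧ f.natDegree = m + 1} ≃ degreeLT F (m + 1) :=
    monicEquivDegreeLT (R := F) (m + 1)
  let e1 := (degreeLTEquiv F (m + 1)).toEquiv
  have key : ∀ f : {f : F[X] // f.Monic ∧ f.natDegree = m + 1},
      (e1 (e0 f)) 0 = f.1.eval 0 := by
    intro f
    rw [← coeff_zero_eq_eval_zero]
    have h := eraseLead_coeff_of_ne (f := f.1) 0 (by rw [f.2.2]; omega)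
    simpa [e0, e1, monicEquivDegreeLT, degreeLTEquiv] using h
  let e : {f : F[X] // f.Monic ∧ f.natDegree = m + 1 ∧ f.eval 0 ∈ S}
      ≃ {a : Fin (m + 1) → F // a 0 ∈ S} :=
    ((Equiv.subtypeEquivRight fun f => and_assoc.symm).trans
      (Equiv.subtypeSubtypeEquivSubtypeInter (fun f : F[X] => f.Monic ∧ f.natDegree = m + 1)
        (fun f => f.eval 0 ∈ S)).symm).trans
      (Equiv.subtypeEquiv (e0.trans e1) fun f => by rw [Equiv.trans_apply, key])
  let e2 : {a : Fin (m + 1) → F // a 0 ∈ S} ≃ S × (Fin m → F) :=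
    { toFun := fun a => (⟨a.1 0, a.2⟩, Fin.tail a.1)
      invFun := fun p => ⟨Fin.cons p.1.1 p.2, p.1.2⟩
      left_inv := fun a => Subtype.ext (Fin.cons_self_tail a.1)
      right_inv := fun p => by ext <;> simp }
  rw [Nat.card_congr (e.trans e2), Nat.card_prod]
  simp [Nat.card_eq_fintype_card]

end CfsgLib.GLClass
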