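import Mathlib
import Cfsg.Agent.Lib.GLClass.SemisimpleCount

/-!
Tuples of monic polynomials with non-zero constant term, weighted by their index: the number of
similarity classes of invertible matrices, and its bound `q ^ n - 1`.
-/

set_option autoImplicit false

namespace CfsgLib.GLClass

open Polynomial Finset

variable {F : Type*} [Field F]

/-- A monic polynomial with non-zero constant term. -/
abbrev MonicNZ (F : Type*) [Field F] : Type _ := {g : F[X] // g.Monic ∧ g.eval 0 ≠ 0}

/-- The trivial polynomial. -/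
noncomputable def MonicNZ.one : MonicNZ F := ⟨1, monic_one, by simp⟩

theorem MonicNZ.eq_one_of_natDegree (g : MonicNZ F) (h : g.1.natDegree = 0) : g = MonicNZ.one :=
  Subtype.ext (eq_one_of_monic_natDegree_zero g.2.1 h)

/-- Tuples of weight `n`, the weights of the entries being `j`, …, `j + f - 1`. -/
abbrev Tup (F : Type*) [Field F] (f j n : ℕ) : Type _ :=
  {g : Fin f → MonicNZ F // ∑ i : Fin f, (j + i.val) * (g i).1.natDegree = n}

/-- The number of monic polynomials of a degree with non-zero constant term. -/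
def monicCount (q i : ℕ) : ℕ := if i = 0 then 1 else (q - 1) * q ^ (i - 1)

variable [Fintype F]

theorem finite_deg (i : ℕ) : Finite {g : MonicNZ F // g.1.natDegree = i} := by
  haveI : Finite (degreeLT F (i + 1)) := Module.finite_of_finite F
  refine Finite.of_injective (β := degreeLT F (i + 1)) (fun g => ⟨g.1.1, mem_degreeLT.2 ?_⟩) ?_
  · exact lt_of_le_of_lt degree_le_natDegree (by rw [g.2]; exact_mod_cast Nat.lt_succ_self i)
  · intro a b h
    exact Subtype.ext (Subtype.ext (congrArg Subtype.val h : _))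

theorem card_deg (i : ℕ) :
    Nat.card {g : MonicNZ F // g.1.natDegree = i} = monicCount (Fintype.card F) i := by
  rcases i with - | m
  · haveI : Unique {g : MonicNZ F // g.1.natDegree = 0} :=
      { default := ⟨MonicNZ.one, natDegree_one⟩
        uniq := fun g => Subtype.ext (g.1.eq_one_of_natDegree g.2) }
    rw [Nat.card_unique]; rfl
  · classical
    have e : {g : MonicNZ F // g.1.natDegree = m + 1} ≃
        {f : F[X] // f.Monic ∧ f.natDegree = m + 1 ∧ f.eval 0 ∈ ({0}ᶜ : Set F)} :=
      { toFun := fun g => ⟨g.1.1, g.1.2.1, g.2, g.1.2.2⟩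
        invFun := fun g => ⟨⟨g.1, g.2.1, g.2.2.2⟩, g.2.2.1⟩
        left_inv := fun _ => rfl
        right_inv := fun _ => rfl }
    rw [Nat.card_congr e, exists_monic_equiv]
    simp [monicCount, Nat.card_eq_fintype_card, Fintype.card_subtype_compl, Finset.filter_ne']

/-- splitting off the first entry of a tuple -/
noncomputable def tupEquiv (f : ℕ) {j : ℕ} (hj : 1 ≤ j) (n : ℕ) :
    Tup F (f + 1) j n ≃ Σ i : Fin (n / j + 1),
      {g : MonicNZ F // g.1.natDegree = i.val} × Tup F f (j + 1) (n - i.val * j) where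
  toFun g :=
    have hs : j * (g.1 0).1.natDegree + ∑ i : Fin f, (j + 1 + i.val) * (g.1 i.succ).1.natDegree = n := by
      conv_rhs => rw [← g.2, Fin.sum_univ_succ]
      simp [add_comm, add_left_comm]
    ⟨⟨(g.1 0).1.natDegree, Nat.lt_succ_of_le ((Nat.le_div_iff_mul_le hj).2
      (by rw [mul_comm]; omega))⟩, ⟨g.1 0, rfl⟩, fun i => g.1 i.succ, by
        simp only
        rw [mul_comm (g.1 0).1.natDegree j]
        omega⟩
  invFun x := ⟨Fin.cons x.2.1.1 x.2.2.1, by
    have hle : x.1.val * j ≤ n := (Nat.le_div_iff_mul_le hj).1 (Nat.le_of_lt_succ x.1.2)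
    rw [Fin.sum_univ_succ]
    simp only [Fin.cons_zero, Fin.cons_succ, Fin.val_zero, add_zero, x.2.1.2, Fin.val_succ]
    have hr : ∑ i : Fin f, (j + (i.val + 1)) * (x.2.2.1 i).1.natDegree = n - x.1.val * j :=
      (Finset.sum_congr rfl fun i _ => by ring_nf).trans x.2.2.2
    rw [hr]
    rw [mul_comm j]
    omega⟩
  left_inv g := Subtype.ext (Fin.cons_self_tail g.1)
  right_inv x := by
    obtain ⟨i, ⟨a, ha⟩, ⟨r, hr⟩⟩ := x
    obtain ⟨iv, hi⟩ := i
    simp only at ha
    subst ha
    rfl

instance finite_tup : ∀ f j n : ℕ, Finite (Tup F f (j + 1) n)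
  | 0, j, n => inferInstance
  | f + 1, j, n => by
    haveI : ∀ i : Fin (n / (j + 1) + 1),
        Finite ({g : MonicNZ F // g.1.natDegree = i.val} × Tup F f (j + 1 + 1) (n - i.val * (j + 1))) :=
      fun i => by
        haveI := finite_deg (F := F) i.val
        haveI := finite_tup f (j + 1) (n - i.val * (j + 1))
        infer_instance
    exact Finite.of_equiv _ (tupEquiv f (Nat.succ_pos j) n).symm

variable (F) in
/-- the number of tuples -/
noncomputable def tupCard (f j n : ℕ) : ℕ := Nat.card (Tup F f j n)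

theorem tupCard_succ (f : ℕ) {j : ℕ} (hj : 1 ≤ j) (n : ℕ) :
    tupCard F (f + 1) j n = ∑ i ∈ range (n / j + 1),
      monicCount (Fintype.card F) i * tupCard F f (j + 1) (n - i * j) := by
  unfold tupCard
  haveI : ∀ i : Fin (n / j + 1),
      Finite ({g : MonicNZ F // g.1.natDegree = i.val} × Tup F f (j + 1) (n - i.val * j)) := fun i => by
    haveI := finite_deg (F := F) i.val
    haveI := finite_tup (F := F) f j (n - i.val * j)
    infer_instance
  rw [Nat.card_congr (tupEquiv f hj n), Nat.card_sigma]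
  simp only [Nat.card_prod, card_deg]
  exact Fin.sum_univ_eq_sum_range
    (fun i => monicCount (Fintype.card F) i * Nat.card (Tup F f (j + 1) (n - i * j))) (n / j + 1)

omit [Fintype F] in
theorem tupCard_zero (f : ℕ) {j : ℕ} (hj : 1 ≤ j) : tupCard F f j 0 = 1 := by
  haveI : Unique (Tup F f j 0) :=
    { default := ⟨fun _ => MonicNZ.one, by simp [MonicNZ.one]⟩
      uniq := fun g => Subtype.ext (funext fun i => MonicNZ.eq_one_of_natDegree _ (by
        have h := (Finset.sum_eq_zero_iff.1 g.2) i (Finset.mem_univ i)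
        rcases Nat.mul_eq_zero.1 h with h | h
        · omega
        · exact h)) }
  exact Nat.card_unique

omit [Fintype F] in
theorem tupCard_lt (f : ℕ) {j n : ℕ} (hn : 1 ≤ n) (hnj : n < j) : tupCard F f j n = 0 := by
  haveI : IsEmpty (Tup F f j n) := ⟨fun g => by
    by_cases h : ∀ i, (g.1 i).1.natDegree = 0
    · have := g.2
      simp [h] at this
      omega
    · push Not at h
      obtain ⟨i, hi⟩ := h
      have h1 : (j + i.val) * (g.1 i).1.natDegree ≤ n :=
        le_of_le_of_eq (Finset.single_le_sum (f := fun i : Fin f => (j + i.val) * (g.1 i).1.natDegree)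
          (fun _ _ => Nat.zero_le _) (Finset.mem_univ i)) g.2
      have h2 := Nat.le_mul_of_pos_right (j + i.val) (Nat.pos_of_ne_zero hi)
      omega⟩
  exact Nat.card_of_isEmpty

section Bound

variable (F)

/-- the normalised number of tuples -/
noncomputable def tupDens (f j n : ℕ) : ℚ := (tupCard F f j n : ℚ) / (Fintype.card F : ℚ) ^ n

/-- its partial sums -/
noncomputable def tupSum (f j n : ℕ) : ℚ := ∑ m ∈ range n, tupDens F f j m

variable {F}

theorem card_two_le : (2 : ℚ) ≤ (Fintype.card F : ℚ) := by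
  exact_mod_cast (Fintype.one_lt_card : 1 < Fintype.card F)

/-- the coefficient of the series -/
noncomputable def coefW (x s : ℚ) (i : ℕ) : ℚ := if i = 0 then 1 else (1 - x) * s ^ i

theorem monicCount_div {j : ℕ} (hj : 1 ≤ j) (i : ℕ) :
    (monicCount (Fintype.card F) i : ℚ) / (Fintype.card F : ℚ) ^ (i * j) =
      coefW (1 / (Fintype.card F : ℚ)) (1 / (Fintype.card F : ℚ) ^ (j - 1)) i := by
  have hq := card_two_le (F := F)
  rcases i with - | m
  · simp [monicCount, coefW]
  · obtain ⟨k, rfl⟩ : ∃ k, j = k + 1 := ⟨j - 1, by omega⟩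
    rw [monicCount, coefW, if_neg (Nat.succ_ne_zero m), if_neg (Nat.succ_ne_zero m)]
    push_cast [Nat.cast_sub (show 1 ≤ Fintype.card F from Fintype.card_pos)]
    simp only [Nat.add_sub_cancel, one_div, inv_pow, ← pow_mul]
    field_simp
    ring

theorem tupDens_succ (f : ℕ) {j : ℕ} (hj : 1 ≤ j) (m L : ℕ) (hL : m / j < L) :
    tupDens F (f + 1) j m = ∑ i ∈ range L,
      coefW (1 / (Fintype.card F : ℚ)) (1 / (Fintype.card F : ℚ) ^ (j - 1)) i *
        (if i * j ≤ m then tupDens F f (j + 1) (m - i * j) else 0) := by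
  have hq := card_two_le (F := F)
  have hsub : range (m / j + 1) ⊆ range L := Finset.range_mono (by omega)
  rw [tupDens, tupCard_succ f hj, ← Finset.sum_subset hsub]
  · rw [Nat.cast_sum, Finset.sum_div]
    refine Finset.sum_congr rfl fun i hi => ?_
    have hle : i * j ≤ m := (Nat.le_div_iff_mul_le hj).1 (Nat.le_of_lt_succ (Finset.mem_range.1 hi))
    rw [if_pos hle, ← monicCount_div hj, tupDens, Nat.cast_mul]
    conv_lhs => rw [show m = i * j + (m - i * j) by omega, pow_add]
    simp only [Nat.add_sub_cancel_left]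
    rw [mul_div_mul_comm]
  · intro i _ hi
    rw [if_neg, mul_zero]
    intro hle
    exact hi (Finset.mem_range.2 (Nat.lt_succ_of_le ((Nat.le_div_iff_mul_le hj).2 hle)))

theorem tupSum_succ (f : ℕ) {j : ℕ} (hj : 1 ≤ j) (n L : ℕ) (hL : ∀ m < n, m / j < L) :
    tupSum F (f + 1) j n = ∑ i ∈ range L,
      coefW (1 / (Fintype.card F : ℚ)) (1 / (Fintype.card F : ℚ) ^ (j - 1)) i *
        tupSum F f (j + 1) (n - i * j) := by
  rw [tupSum, Finset.sum_congr rfl fun m hm => tupDens_succ f hj m L (hL m (Finset.mem_range.1 hm)),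
    Finset.sum_comm]
  refine Finset.sum_congr rfl fun i _ => ?_
  rw [← Finset.mul_sum, tupSum]
  congr 1
  rcases le_total n (i * j) with h | h
  · rw [show n - i * j = 0 by omega, Finset.range_zero, Finset.sum_empty]
    exact Finset.sum_eq_zero fun m hm => if_neg (by have := Finset.mem_range.1 hm; omega)
  · conv_lhs => rw [show n = i * j + (n - i * j) by omega, Finset.sum_range_add]
    rw [Finset.sum_eq_zero fun m hm => if_neg (by have := Finset.mem_range.1 hm; omega), zero_add]
    exact Finset.sum_congr rfl fun m _ => by rw [if_pos (by omega), Nat.add_sub_cancel_left]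

theorem sum_coefW (x s : ℚ) (hs : s ≠ 1) : ∀ N : ℕ, ∑ i ∈ range (N + 1), coefW x s i =
    ((1 - x * s) - (1 - x) * s ^ (N + 1)) / (1 - s) := by
  have h1 : 1 - s ≠ 0 := sub_ne_zero.2 (Ne.symm hs)
  intro N
  induction N with
  | zero => simp [coefW]; field_simp; ring
  | succ N ih =>
    rw [Finset.sum_range_succ, ih, coefW, if_neg (Nat.succ_ne_zero N)]
    field_simp
    ring

theorem sum_coefW_pow (x s : ℚ) : ∀ N : ℕ,
    ∑ i ∈ range (N + 1), coefW x s i * (x * s) ^ (N - i) = s ^ N := by
  intro N
  induction N with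
  | zero => simp [coefW]
  | succ N ih =>
    rw [Finset.sum_range_succ, Nat.sub_self, pow_zero, mul_one, coefW, if_neg (Nat.succ_ne_zero N)]
    have : ∑ i ∈ range (N + 1), coefW x s i * (x * s) ^ (N + 1 - i) = (x * s) * s ^ N := by
      rw [← ih, Finset.mul_sum]
      refine Finset.sum_congr rfl fun i hi => ?_
      rw [show N + 1 - i = N - i + 1 by have := Finset.mem_range.1 hi; omega, pow_succ]
      ring
    rw [this]
    ring

/-- the bound for tuples with all weights at least two -/
theorem tup_bound : ∀ (f j n K : ℕ), 2 ≤ j → 1 ≤ n → n < j + f → n ≤ K * (j - 1) →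
    (1 - 1 / (Fintype.card F : ℚ) ^ (j - 1)) * tupSum F f j n +
      (1 - 1 / (Fintype.card F : ℚ) ^ (j - 1)) / (1 - 1 / (Fintype.card F : ℚ)) * tupDens F f j n
      ≤ 1 - (1 / (Fintype.card F : ℚ) ^ (j - 1)) ^ K := by
  intro f
  induction f using Nat.strong_induction_on with
  | _ f ih =>
  intro j n K hj hn hnf hK
  have hq := card_two_le (F := F)
  set q := (Fintype.card F : ℚ) with hqdef
  set s := 1 / q ^ (j - 1) with hsdef
  set x := 1 / q with hxdef
  have hx0 : 0 < x := by positivity
  have hx1 : x < 1 := by rw [hxdef, div_lt_one (by linarith)]; linarith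
  have hs0 : 0 < s := by positivity
  have hsx : s = x ^ (j - 1) := by rw [hsdef, hxdef, div_pow, one_pow]
  have hs1 : s < 1 := hsx ▸ pow_lt_one₀ hx0.le hx1 (by omega)
  have hK1 : 1 ≤ K := by
    rcases K with - | K
    · simp at hK; omega
    · omega
  rcases Nat.lt_or_ge n j with hlt | hge
  · have hS : tupSum F f j n = 1 := by
      rw [tupSum, Finset.sum_eq_single 0]
      · simp [tupDens, tupCard_zero f (show 1 ≤ j by omega)]
      · intro m hm hm0
        have := Finset.mem_range.1 hm
        simp [tupDens, tupCard_lt (F := F) f (show 1 ≤ m by omega) (show m < j by omega)]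
      · intro h; exact absurd (Finset.mem_range.2 hn) h
    rw [hS, tupDens, tupCard_lt f hn hlt, Nat.cast_zero, zero_div, mul_zero, add_zero, mul_one]
    have : s ^ K ≤ s := pow_le_of_le_one hs0.le hs1.le (by omega)
    linarith
  obtain ⟨g, rfl⟩ : ∃ g, f = g + 1 := ⟨f - 1, by omega⟩
  set N := n / j with hN
  have hNj : N * j ≤ n := Nat.div_mul_le_self n j
  have hmod : n < (N + 1) * j := by
    rw [hN]; exact Nat.lt_mul_of_div_lt (Nat.lt_succ_self _) (by omega)
  set u := x * s with hudef
  have hu : 1 / q ^ (j + 1 - 1) = u := by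
    rw [hudef, hxdef, hsdef, show j + 1 - 1 = (j - 1) + 1 by omega, pow_succ]; ring
  have hu1 : u < 1 := by nlinarith
  set t := (1 - s) / (1 - u) with ht
  have ht0 : 0 ≤ t := div_nonneg (by linarith) (by linarith)
  rw [tupSum_succ g (show 1 ≤ j by omega) n (N + 1) fun m hm =>
      Nat.lt_succ_of_le (Nat.div_le_div_right hm.le),
    tupDens_succ g (show 1 ≤ j by omega) n (N + 1) (Nat.lt_succ_self _)]
  let G : ℕ → ℚ := fun m => (1 - u) * tupSum F g (j + 1) m + (1 - u) / (1 - x) * tupDens F g (j + 1) m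
  have key : (1 - s) * (∑ i ∈ range (N + 1), coefW x s i * tupSum F g (j + 1) (n - i * j)) +
      (1 - s) / (1 - x) * (∑ i ∈ range (N + 1), coefW x s i *
        (if i * j ≤ n then tupDens F g (j + 1) (n - i * j) else 0)) =
      t * ∑ i ∈ range (N + 1), coefW x s i * G (n - i * j) := by
    simp only [Finset.mul_sum, ← Finset.sum_add_distrib]
    refine Finset.sum_congr rfl fun i hi => ?_
    have hi' : i * j ≤ n := le_trans (Nat.mul_le_mul_right j (Nat.le_of_lt_succ (Finset.mem_range.1 hi))) hNj
    rw [if_pos hi']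
    simp only [G, ht]
    have : 1 - u ≠ 0 := by linarith
    field_simp
  rw [key]
  have hG : ∀ m K', 1 ≤ m → m ≤ n → m ≤ K' * j → G m ≤ 1 - u ^ K' := by
    intro m K' hm hmn hmK
    have h := ih g (Nat.lt_succ_self g) (j + 1) m K' (by omega) hm (by omega) (by simpa using hmK)
    rw [hu] at h
    exact h
  have hw : ∀ i, 0 ≤ coefW x s i := fun i => by
    rw [coefW]; split_ifs
    · exact zero_le_one
    · exact mul_nonneg (by linarith) (pow_nonneg hs0.le _)
  have h1s : 1 - s ≠ 0 := by linarith
  have h1x : 1 - x ≠ 0 := by linarith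
  have h1u : 1 - u ≠ 0 := by linarith
  have fin : ∀ R : ℚ, R ≤ ((1 - x * s) - (1 - x) * s ^ (N + 1)) / (1 - s) - s ^ N * u → N + 1 ≤ K →
      t * R ≤ 1 - s ^ K := by
    intro R hR hNK
    refine (mul_le_mul_of_nonneg_left hR ht0).trans ?_
    have e : t * (((1 - x * s) - (1 - x) * s ^ (N + 1)) / (1 - s) - s ^ N * u) = 1 - s ^ (N + 1) := by
      rw [ht, hudef]
      have : 1 - x * s ≠ 0 := h1u
      rw [div_mul_eq_mul_div, div_eq_iff this]
      field_simp
      ring
    rw [e]
    have : s ^ K ≤ s ^ (N + 1) := pow_le_pow_of_le_one hs0.le hs1.le hNK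
    linarith
  have hKN : N * j < n ∨ N * j = n := lt_or_eq_of_le hNj
  have hKgt : N + 1 ≤ K := by
    by_contra hc
    push Not at hc
    have h1 : K * (j - 1) ≤ N * (j - 1) := Nat.mul_le_mul_right _ (by omega)
    have h2 : N * (j - 1) + N = N * j := by
      rw [← Nat.mul_succ]; congr 1; omega
    rcases Nat.eq_zero_or_pos N with h0 | h0
    · rw [h0] at h1; omega
    · omega
  refine fin _ ?_ hKgt
  rcases hKN with hne | heq
  · rw [← sum_coefW x s hs1.ne N, ← sum_coefW_pow x s N, Finset.sum_mul, ← Finset.sum_sub_distrib]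
    refine Finset.sum_le_sum fun i hi => ?_
    have hiN := Nat.le_of_lt_succ (Finset.mem_range.1 hi)
    have e : coefW x s i - coefW x s i * (x * s) ^ (N - i) * u = coefW x s i * (1 - u ^ (N + 1 - i)) := by
      rw [show N + 1 - i = N - i + 1 by omega, pow_succ, ← hudef]; ring
    rw [e]
    refine mul_le_mul_of_nonneg_left (hG _ _ ?_ (Nat.sub_le _ _) ?_) (hw i)
    · have : i * j ≤ N * j := Nat.mul_le_mul_right j hiN
      omega
    · rw [show N + 1 - i = N - i + 1 by omega, Nat.add_mul, Nat.one_mul, Nat.sub_mul]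
      have : i * j ≤ N * j := Nat.mul_le_mul_right j hiN
      rw [Nat.add_mul, Nat.one_mul] at hmod
      omega
  · have hN1 : 1 ≤ N := by
      rcases Nat.eq_zero_or_pos N with h0 | h0
      · rw [h0] at heq; omega
      · exact h0
    rw [← sum_coefW x s hs1.ne N, ← sum_coefW_pow x s N, Finset.sum_range_succ,
      Finset.sum_range_succ (f := fun i => coefW x s i),
      Finset.sum_range_succ (f := fun i => coefW x s i * (x * s) ^ (N - i))]
    have hlast : coefW x s N * G (n - N * j) =
        coefW x s N - (coefW x s N * (x * s) ^ (N - N)) * u +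
          coefW x s N * ((1 - u) / (1 - x) - (1 - u)) := by
      rw [show n - N * j = 0 by omega, Nat.sub_self, pow_zero, mul_one]
      simp only [G, tupSum, Finset.range_zero, Finset.sum_empty, mul_zero, zero_add, tupDens,
        tupCard_zero g (show 1 ≤ j + 1 by omega), Nat.cast_one, pow_zero, div_one, mul_one]
      ring
    have hcN : coefW x s N * ((1 - u) / (1 - x) - (1 - u)) = x * s ^ N * (1 - u) := by
      rw [coefW, if_neg (by omega)]
      field_simp
      ring
    have hrest : ∑ i ∈ range N, coefW x s i * G (n - i * j) ≤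
        ∑ i ∈ range N, coefW x s i * (1 - (x * s) ^ (N - i)) := by
      refine Finset.sum_le_sum fun i hi => mul_le_mul_of_nonneg_left ?_ (hw i)
      have hlt := Finset.mem_range.1 hi
      have hij : (i + 1) * j ≤ N * j := Nat.mul_le_mul_right j hlt
      rw [Nat.add_mul, Nat.one_mul] at hij
      rw [← hudef]
      refine hG _ _ (by omega) (Nat.sub_le _ _) ?_
      rw [Nat.sub_mul]
      omega
    have hQ : ∑ i ∈ range N, coefW x s i * (x * s) ^ (N - i) = s ^ N - coefW x s N := by
      have h := sum_coefW_pow x s N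
      rw [Finset.sum_range_succ, Nat.sub_self, pow_zero, mul_one] at h
      linarith
    rw [hlast, hcN]
    simp only [mul_sub, mul_one, Finset.sum_sub_distrib] at hrest
    rw [hQ] at hrest ⊢
    rw [Nat.sub_self, pow_zero, mul_one, coefW, if_neg (show N ≠ 0 by omega)] at *
    linarith

/-- fewer than `q ^ n` tuples of weight `n` -/
theorem tupCard_lt_pow (f n : ℕ) (hn : 1 ≤ n) (hnf : n ≤ f) :
    tupCard F f 1 n < Fintype.card F ^ n := by
  have hq := card_two_le (F := F)
  obtain ⟨g, rfl⟩ : ∃ g, f = g + 1 := ⟨f - 1, by omega⟩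
  set q := (Fintype.card F : ℚ) with hqdef
  have h2 := tup_bound (F := F) g 2 n n le_rfl hn (by omega) (by omega)
  have hd := tupDens_succ (F := F) g (le_refl 1) n (n + 1) (by simp)
  have hsum : tupSum F g 2 n = ∑ i ∈ range n, tupDens F g 2 (n - 1 - i) :=
    (Finset.sum_range_reflect (fun m => tupDens F g 2 m) n).symm
  rw [Finset.sum_range_succ'] at hd
  simp only [Nat.sub_self, pow_zero, div_one, coefW, Nat.succ_ne_zero, if_false, if_true, one_mul,
    Nat.mul_one, zero_mul, Nat.zero_le, Nat.sub_zero, one_pow, mul_one] at hd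
  have hd' : tupDens F (g + 1) 1 n = (1 - 1 / q) * tupSum F g 2 n + tupDens F g 2 n := by
    rw [hd, hsum, Finset.mul_sum]
    congr 1
    refine Finset.sum_congr rfl fun i hi => ?_
    have := Finset.mem_range.1 hi
    rw [if_pos (by omega), show n - (i + 1) = n - 1 - i by omega]
  have hone : (1 - 1 / q) ≠ 0 := by
    have : 1 / q < 1 := by rw [div_lt_one (by linarith)]; linarith
    linarith
  simp only [Nat.reduceSub, pow_one] at h2
  rw [div_self hone, one_mul, ← hd'] at h2
  have hlt : tupDens F (g + 1) 1 n < 1 := by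
    have : 0 < (1 / q) ^ n := by positivity
    linarith
  rw [tupDens, div_lt_one (by positivity)] at hlt
  exact_mod_cast hlt

theorem tupCard_two (g : ℕ) : tupCard F (g + 2) 1 2 + 1 = Fintype.card F ^ 2 := by
  have hq : 2 ≤ Fintype.card F := Fintype.one_lt_card
  rw [tupCard_succ (g + 1) le_rfl]
  simp only [Nat.div_one, Finset.sum_range_succ, Finset.sum_range_zero, zero_add, Nat.mul_one, Nat.sub_zero,
    Nat.reduceSub, zero_mul]
  rw [tupCard_zero _ (by omega), tupCard_lt _ le_rfl (by omega), tupCard_succ g (by omega)]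
  simp [Finset.sum_range_succ, monicCount, tupCard_zero, tupCard_lt]
  obtain ⟨c, hc⟩ : ∃ c, Fintype.card F = c + 2 := ⟨Fintype.card F - 2, by omega⟩
  rw [hc]
  simp
  ring

end Bound

end CfsgLib.GLClass
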