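import Mathlib
import Cfsg.Agent.Lib.GLClass.ClassSeries

/-!
The tuples of given constant product, weighted by the greatest common divisor of their indices: the
bound for the number of classes of the special linear group.
-/

set_option autoImplicit false

namespace CfsgLib.GLClass

open Polynomial Finset

variable {F : Type*} [Field F]

/-- A subgroup containing all powers with given exponents contains those with their gcd. -/
theorem pow_gcd_mem {G : Type*} [CommGroup G] (H : Subgroup G) {N : ℕ} (hN : ∀ v : G, v ^ N = 1)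
    {ι : Type*} (s : Finset ι) (e : ι → ℕ) (h : ∀ i ∈ s, ∀ v : G, v ^ e i ∈ H) (v : G) :
    v ^ Nat.gcd N (s.gcd e) ∈ H := by
  classical
  have two : ∀ a b : ℕ, (∀ v : G, v ^ a ∈ H) → (∀ v : G, v ^ b ∈ H) → ∀ v : G, v ^ Nat.gcd a b ∈ H := by
    intro a b ha hb v
    rw [← zpow_natCast, Nat.gcd_eq_gcd_ab, zpow_add, mul_comm (a : ℤ), mul_comm (b : ℤ), zpow_mul,
      zpow_mul, zpow_natCast, zpow_natCast]
    exact mul_mem (ha _) (hb _)
  refine two _ _ (fun v => (hN v).symm ▸ one_mem H) (fun v => ?_) v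
  induction s using Finset.induction_on generalizing v with
  | empty => simp
  | insert a s ha ih =>
    rw [Finset.gcd_insert, gcd_eq_nat_gcd]
    exact two _ _ (h a (Finset.mem_insert_self a s))
      (ih fun i hi => h i (Finset.mem_insert_of_mem hi)) v

/-- the indices of the non-trivial entries -/
noncomputable def tupSupp {f j n : ℕ} (g : Tup F f j n) : Finset (Fin f) :=
  Finset.univ.filter fun k => (g.1 k).1.natDegree ≠ 0

/-- the product of the constant terms -/
noncomputable def tupConst {f n : ℕ} (g : Tup F f 1 n) : Fˣ :=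
  ∏ k : Fin f, Units.mk0 _ (g.1 k).2.2 ^ (1 + k.val)

variable [Fintype F]

/-- the common divisor of the weights and `q - 1` -/
noncomputable def tupGcd {f n : ℕ} (g : Tup F f 1 n) : ℕ :=
  Nat.gcd (Fintype.card F - 1) ((tupSupp g).gcd fun k => 1 + k.val)

theorem card_sub_one_pos : 0 < Fintype.card F - 1 :=
  Nat.sub_pos_of_lt Fintype.one_lt_card

theorem tupGcd_dvd_card {f n : ℕ} (g : Tup F f 1 n) : tupGcd g ∣ Fintype.card F - 1 :=
  Nat.gcd_dvd_left _ _

theorem tupGcd_pos {f n : ℕ} (g : Tup F f 1 n) : 0 < tupGcd g :=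
  Nat.pos_of_dvd_of_pos (tupGcd_dvd_card g) card_sub_one_pos

theorem tupGcd_dvd_weight {f n : ℕ} (g : Tup F f 1 n) (k : Fin f) :
    tupGcd g ∣ (1 + k.val) * (g.1 k).1.natDegree := by
  by_cases h : (g.1 k).1.natDegree = 0
  · simp [h]
  · exact ((Nat.gcd_dvd_right _ _).trans
      (Finset.gcd_dvd (Finset.mem_filter.2 ⟨Finset.mem_univ k, h⟩))).mul_right _

theorem tupGcd_dvd {f n : ℕ} (g : Tup F f 1 n) : tupGcd g ∣ n := by
  conv_rhs => rw [← g.2]
  exact Finset.dvd_sum fun k _ => tupGcd_dvd_weight g k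

/-- multiply the constant term of a non-trivial polynomial by a unit -/
noncomputable def twistPoly (u : Fˣ) (g : MonicNZ F) : MonicNZ F :=
  if h : g.1.natDegree = 0 then g else
    ⟨g.1 + Polynomial.C (((u : F) - 1) * g.1.eval 0), g.2.1.add_of_left (lt_of_le_of_lt degree_C_le
      (natDegree_pos_iff_degree_pos.1 (Nat.pos_of_ne_zero h))), by
      rw [eval_add, eval_C]
      have : g.1.eval 0 + ((u : F) - 1) * g.1.eval 0 = u * g.1.eval 0 := by ring
      rw [this]
      exact mul_ne_zero u.ne_zero g.2.2⟩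

omit [Fintype F] in
theorem natDegree_twistPoly (u : Fˣ) (g : MonicNZ F) :
    (twistPoly u g).1.natDegree = g.1.natDegree := by
  unfold twistPoly
  split_ifs
  · rfl
  · exact natDegree_add_C

omit [Fintype F] in
theorem twistPoly_injective (u : Fˣ) : Function.Injective (twistPoly (F := F) u) := by
  intro a b hab
  have hd : a.1.natDegree = b.1.natDegree := by
    rw [← natDegree_twistPoly u a, hab, natDegree_twistPoly]
  by_cases h : a.1.natDegree = 0
  · rw [a.eq_one_of_natDegree h, b.eq_one_of_natDegree (hd ▸ h)]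
  · simp only [twistPoly, dif_neg h, dif_neg (hd ▸ h), Subtype.mk.injEq] at hab
    have h0 := congrArg (Polynomial.eval 0) hab
    simp only [eval_add, eval_C] at h0
    have he : a.1.eval 0 = b.1.eval 0 := mul_left_cancel₀ u.ne_zero (by linear_combination h0)
    rw [he] at hab
    exact Subtype.ext (add_right_cancel hab)

/-- the twist of a tuple -/
noncomputable def twistTup {f n : ℕ} (u : Fin f → Fˣ) (g : Tup F f 1 n) : Tup F f 1 n :=
  ⟨fun k => twistPoly (u k) (g.1 k), by simp only [natDegree_twistPoly]; exact g.2⟩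

omit [Fintype F] in
theorem tupSupp_twistTup {f n : ℕ} (u : Fin f → Fˣ) (g : Tup F f 1 n) :
    tupSupp (twistTup u g) = tupSupp g := by
  simp [tupSupp, twistTup, natDegree_twistPoly]

omit [Fintype F] in
theorem tupConst_twistTup {f n : ℕ} (u : Fin f → Fˣ) (g : Tup F f 1 n)
    (hu : ∀ k, k ∉ tupSupp g → u k = 1) :
    tupConst (twistTup u g) = tupConst g * ∏ k, u k ^ (1 + k.val) := by
  unfold tupConst
  rw [← Finset.prod_mul_distrib]
  refine Finset.prod_congr rfl fun k _ => ?_
  rw [← mul_pow]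
  congr 1
  apply Units.ext
  simp only [twistTup, Units.val_mk0, Units.val_mul]
  by_cases h : (g.1 k).1.natDegree = 0
  · rw [hu k (by simp [tupSupp, h])]
    simp [twistPoly, dif_pos h]
  · simp only [twistPoly, dif_neg h, eval_add, eval_C]
    ring

/-- witnesses for the powers with exponent the common divisor -/
theorem exists_twist {f : ℕ} (s : Finset (Fin f)) (v : Fˣ) :
    ∃ u : Fin f → Fˣ, (∀ k, k ∉ s → u k = 1) ∧
      ∏ k, u k ^ (1 + k.val) = v ^ Nat.gcd (Fintype.card F - 1) (s.gcd fun k => 1 + k.val) := by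
  classical
  let H : Subgroup Fˣ :=
    { carrier := {x | ∃ u : Fin f → Fˣ, (∀ k, k ∉ s → u k = 1) ∧ ∏ k, u k ^ (1 + k.val) = x}
      one_mem' := ⟨1, fun _ _ => rfl, by simp⟩
      mul_mem' := by
        rintro a b ⟨u, hu, rfl⟩ ⟨w, hw, rfl⟩
        exact ⟨u * w, fun k hk => by simp [hu k hk, hw k hk],
          by simp [mul_pow, Finset.prod_mul_distrib]⟩
      inv_mem' := by
        rintro a ⟨u, hu, rfl⟩
        exact ⟨u⁻¹, fun k hk => by simp [hu k hk], by simp [inv_pow]⟩ }
  have hN : ∀ v : Fˣ, v ^ (Fintype.card F - 1) = 1 := fun v => by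
    rw [← Fintype.card_units]; exact pow_card_eq_one
  exact pow_gcd_mem H hN s _ (fun k hk v => ⟨Pi.mulSingle k v,
    fun l hl => Pi.mulSingle_eq_of_ne (fun h => hl (by rwa [h])) _, by
      rw [Finset.prod_eq_single k (fun l _ hl => by rw [Pi.mulSingle_eq_of_ne hl, one_pow])
        (fun h => absurd (Finset.mem_univ k) h), Pi.mulSingle_eq_same]⟩) v

open scoped Classical in
/-- The weighted number of tuples of constant product `a`. -/
theorem card_mul_sum_tupGcd_le (f n : ℕ) [Fintype (Tup F f 1 n)] (a : Fˣ) :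
    (Fintype.card F - 1) * ∑ g ∈ univ.filter (fun g : Tup F f 1 n => tupConst g = a), tupGcd g ≤
      ∑ g : Tup F f 1 n, tupGcd g ^ 2 := by
  classical
  let R : Tup F f 1 n → Finset Fˣ := fun g => Finset.univ.image fun v : Fˣ => v ^ tupGcd g
  have hR : ∀ g, tupGcd g * (R g).card = Fintype.card F - 1 := by
    intro g
    have h1 : (R g).card = Nat.card (powMonoidHom (tupGcd g) : Fˣ →* Fˣ).range := by
      rw [← Nat.card_eq_finsetCard]
      exact Nat.card_congr (Equiv.subtypeEquivRight fun x => by simp [R])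
    have h2 := Subgroup.card_mul_index (powMonoidHom (tupGcd g) : Fˣ →* Fˣ).range
    rw [IsCyclic.index_powMonoidHom_range, Nat.card_eq_fintype_card (α := Fˣ), Fintype.card_units,
      Nat.gcd_eq_right (tupGcd_dvd_card g)] at h2
    rw [h1, mul_comm, h2]
  choose u hu1 hu2 using fun (s : Finset (Fin f)) (v : Fˣ) => exists_twist (F := F) s v
  let root : ℕ → Fˣ → Fˣ := fun d t => if h : ∃ v : Fˣ, v ^ d = t then h.choose else 1
  have hroot : ∀ g : Tup F f 1 n, ∀ t ∈ R g, root (tupGcd g) t ^ tupGcd g = t := by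
    intro g t ht
    obtain ⟨v, -, hv⟩ := Finset.mem_image.1 ht
    have h : ∃ w : Fˣ, w ^ tupGcd g = t := ⟨v, hv⟩
    simp only [root, dif_pos h]
    exact h.choose_spec
  let T : (Σ _ : Tup F f 1 n, Fˣ) → Tup F f 1 n := fun x =>
    twistTup (u (tupSupp x.1) (root (tupGcd x.1) x.2)) x.1
  let S := (univ.filter fun g : Tup F f 1 n => tupConst g = a).sigma R
  have hgcd : ∀ x, tupGcd (T x) = tupGcd x.1 := fun x => by
    simp only [T, tupGcd, tupSupp_twistTup]
  have hconst : ∀ x ∈ S, tupConst (T x) = a * x.2 := by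
    intro x hx
    obtain ⟨hx1, hx2⟩ := Finset.mem_sigma.1 hx
    simp only [T]
    rw [tupConst_twistTup _ _ (hu1 _ _), hu2, (Finset.mem_filter.1 hx1).2]
    exact congrArg (a * ·) (hroot _ _ hx2)
  have hinj : Set.InjOn T S := by
    rintro ⟨g, t⟩ hx ⟨g', t'⟩ hy hxy
    have ht : t = t' := mul_left_cancel ((hconst _ hx).symm.trans ((congrArg tupConst hxy).trans
      (hconst _ hy)))
    subst ht
    have hs : tupSupp g = tupSupp g' := by
      have h := congrArg tupSupp hxy
      simpa [T, tupSupp_twistTup] using h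
    have hd : tupGcd g = tupGcd g' := by simp only [tupGcd, hs]
    simp only [T, hs, hd] at hxy
    have : g = g' := Subtype.ext (funext fun k => twistPoly_injective _
      (congrFun (congrArg Subtype.val hxy) k))
    subst this
    rfl
  calc (Fintype.card F - 1) * ∑ g ∈ univ.filter (fun g : Tup F f 1 n => tupConst g = a), tupGcd g
      = ∑ x ∈ S, tupGcd x.1 ^ 2 := by
        rw [Finset.sum_sigma, Finset.mul_sum]
        refine Finset.sum_congr rfl fun g _ => ?_
        rw [← hR g]
        simp only [Finset.sum_const, smul_eq_mul]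
        ring
    _ = ∑ x ∈ S, tupGcd (T x) ^ 2 := Finset.sum_congr rfl fun x _ => by rw [hgcd]
    _ = ∑ g ∈ S.image T, tupGcd g ^ 2 := (Finset.sum_image (f := fun g => tupGcd g ^ 2) hinj).symm
    _ ≤ _ := Finset.sum_le_sum_of_subset (Finset.subset_univ _)

/-- tuples all of whose weights are multiples of `d` -/
theorem card_dvd_tupGcd_le {f n d : ℕ} (hd : 0 < d) (hdn : d ∣ n) (hnf : n ≤ f) :
    Nat.card {g : Tup F f 1 n // d ∣ tupGcd g} ≤ tupCard F (n / d) 1 (n / d) := by
  classical
  obtain ⟨m, rfl⟩ := hdn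
  rw [Nat.mul_div_cancel_left m hd]
  haveI : Finite (Tup F m 1 m) := finite_tup m 0 m
  let ix : Fin m → Fin f := fun i => ⟨d * (i.val + 1) - 1, by
    have : d * (i.val + 1) ≤ d * m := Nat.mul_le_mul_left d i.2
    have : 0 < d * (i.val + 1) := Nat.mul_pos hd (Nat.succ_pos _)
    omega⟩
  have hix : ∀ i : Fin m, 1 + (ix i).val = d * (i.val + 1) := fun i => by
    have : 0 < d * (i.val + 1) := Nat.mul_pos hd (Nat.succ_pos _)
    simp only [ix]
    omega
  have hinj : Function.Injective ix := fun i j h => Fin.ext (by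
    have := hix i
    rw [h, hix j] at this
    have := Nat.eq_of_mul_eq_mul_left hd this
    omega)
  have hout : ∀ g : Tup F f 1 (d * m), d ∣ tupGcd g → ∀ k, k ∉ Set.range ix →
      (g.1 k).1.natDegree = 0 := by
    intro g hg k hk
    by_contra h
    have hdk : d ∣ 1 + k.val := hg.trans ((Nat.gcd_dvd_right _ _).trans
      (Finset.gcd_dvd (Finset.mem_filter.2 ⟨Finset.mem_univ k, h⟩)))
    obtain ⟨c, hc⟩ := hdk
    have hle : 1 + k.val ≤ d * m := by
      have h1 := Finset.single_le_sum (f := fun i : Fin f => (1 + i.val) * (g.1 i).1.natDegree)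
        (fun _ _ => Nat.zero_le _) (Finset.mem_univ k)
      rw [g.2] at h1
      exact le_trans (Nat.le_mul_of_pos_right _ (Nat.pos_of_ne_zero h)) h1
    have hc0 : 0 < c := Nat.pos_of_mul_pos_left (a := d) (by omega)
    have hcm : c ≤ m := Nat.le_of_mul_le_mul_left (hc ▸ hle) hd
    exact hk ⟨⟨c - 1, by omega⟩, Fin.ext (by
      have := hix ⟨c - 1, by omega⟩
      simp only [Nat.sub_add_cancel (show 1 ≤ c from hc0)] at this
      omega)⟩
  refine Nat.card_le_card_of_injective (fun g => (⟨fun i => g.1.1 (ix i), ?_⟩ : Tup F m 1 m)) ?_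
  · refine Nat.eq_of_mul_eq_mul_left hd ?_
    conv_rhs => rw [← g.1.2]
    rw [Finset.mul_sum]
    refine Fintype.sum_of_injective ix hinj _ _ (fun k hk => by rw [hout _ g.2 k hk, mul_zero])
      fun i => ?_
    rw [hix, ← mul_assoc, add_comm 1 i.val]
  · rintro ⟨g, hg⟩ ⟨g', hg'⟩ h
    refine Subtype.ext (Subtype.ext (funext fun k => ?_))
    by_cases hk : k ∈ Set.range ix
    · obtain ⟨i, rfl⟩ := hk
      exact congrFun (congrArg Subtype.val h) i
    · rw [(g.1 k).eq_one_of_natDegree (hout g hg k hk),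
        (g'.1 k).eq_one_of_natDegree (hout g' hg' k hk)]

/-- the bound for the number of tuples of weight `m` -/
def tupTop (q m : ℕ) : ℕ := if m = 3 then q ^ 3 - q else q ^ m - 1

/-- the bound for `q - 1` times the weighted number of tuples of given constant product -/
def classBound (q m : ℕ) : ℕ :=
  tupTop q m + ∑ d ∈ m.divisors.erase 1,
    if d ∣ q - 1 then (d ^ 2 - 1) * tupTop q (m / d) else 0

theorem tupCard_le_top (f m : ℕ) (hm : 1 ≤ m) (hmf : m ≤ f) :
    tupCard F f 1 m ≤ tupTop (Fintype.card F) m := by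
  have h := tupCard_lt_pow (F := F) f m hm hmf
  unfold tupTop
  split_ifs with h3
  · subst h3
    obtain ⟨g, rfl⟩ : ∃ g, f = g + 3 := ⟨f - 3, by omega⟩
    have hq : 2 ≤ Fintype.card F := Fintype.one_lt_card
    rw [tupCard_succ (g + 2) le_rfl]
    simp only [Nat.div_one, Finset.sum_range_succ, Finset.sum_range_zero, zero_add, Nat.mul_one,
      Nat.sub_zero, Nat.reduceSub, zero_mul]
    rw [tupCard_zero _ (by omega), tupCard_lt _ le_rfl (by omega), tupCard_succ (g + 1) (by omega),
      tupCard_succ (g + 1) (by omega)]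
    simp [Finset.sum_range_succ, monicCount, tupCard_zero, tupCard_lt, tupCard_succ g]
    obtain ⟨c, hc⟩ : ∃ c, Fintype.card F = c + 2 := ⟨Fintype.card F - 2, by omega⟩
    rw [hc]
    have e : (c + 2) ^ 3 - (c + 2) = (c + 2) * (c + 3) * (c + 1) := by
      rw [show (c + 2) ^ 3 = (c + 2) * (c + 3) * (c + 1) + (c + 2) by ring]
      omega
    rw [e]
    simp
    nlinarith
  · omega

open scoped Classical in
/-- The bound for the weighted number of tuples of constant product `a`. -/
theorem card_mul_sum_tupGcd_le_bound (f n : ℕ) (hn : 1 ≤ n) (hnf : n ≤ f) [Fintype (Tup F f 1 n)]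
    (a : Fˣ) :
    (Fintype.card F - 1) * ∑ g ∈ univ.filter (fun g : Tup F f 1 n => tupConst g = a), tupGcd g ≤
      classBound (Fintype.card F) n := by
  classical
  refine (card_mul_sum_tupGcd_le f n a).trans ?_
  have hsq : ∀ g : Tup F f 1 n, tupGcd g ^ 2 ≤
      1 + ∑ d ∈ n.divisors.erase 1, if d ∣ tupGcd g then d ^ 2 - 1 else 0 := by
    intro g
    have hp := tupGcd_pos g
    rcases eq_or_ne (tupGcd g) 1 with h1 | h1
    · rw [h1]; simp
    · have hmem : tupGcd g ∈ n.divisors.erase 1 :=
        Finset.mem_erase.2 ⟨h1, Nat.mem_divisors.2 ⟨tupGcd_dvd g, by omega⟩⟩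
      have h2 := Finset.single_le_sum
        (f := fun d => if d ∣ tupGcd g then d ^ 2 - 1 else 0) (fun _ _ => Nat.zero_le _) hmem
      simp only [dvd_refl, if_true] at h2
      have : 1 ≤ tupGcd g ^ 2 := Nat.one_le_pow _ _ hp
      omega
  refine (Finset.sum_le_sum fun g _ => hsq g).trans ?_
  rw [Finset.sum_add_distrib, Finset.sum_comm, classBound]
  refine Nat.add_le_add ?_ (Finset.sum_le_sum fun d hd => ?_)
  · rw [Finset.sum_const, smul_eq_mul, mul_one, Finset.card_univ, ← Nat.card_eq_fintype_card]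
    exact tupCard_le_top f n hn hnf
  · obtain ⟨hd1, hd⟩ := Finset.mem_erase.1 hd
    have hdn := (Nat.mem_divisors.1 hd).1
    have hd0 : 0 < d := Nat.pos_of_mem_divisors hd
    split_ifs with hdq
    · rw [← Finset.sum_filter, Finset.sum_const, smul_eq_mul, mul_comm]
      refine Nat.mul_le_mul_left _ ?_
      rw [← Fintype.card_subtype (fun g : Tup F f 1 n => d ∣ tupGcd g), ← Nat.card_eq_fintype_card]
      refine (card_dvd_tupGcd_le hd0 hdn hnf).trans (tupCard_le_top _ _ ?_ le_rfl)
      exact Nat.div_pos (Nat.le_of_dvd (by omega) hdn) hd0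
    · refine le_of_eq (Finset.sum_eq_zero fun g _ => if_neg fun h => hdq ?_)
      exact h.trans (tupGcd_dvd_card g)

end CfsgLib.GLClass
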