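import Mathlib
import Cfsg.Agent.Lib.GLClass.Semisimple

/-!
The determinant of a polynomial in a matrix depends only on its characteristic polynomial; the
determinants of the centraliser of a matrix contain all powers with exponents of elementary divisors.
-/

set_option autoImplicit false

namespace CfsgLib.GLClass

open Polynomial Module Matrix

variable {F : Type*} [Field F]

theorem det_aeval_X_sub_C {μ : Type*} [Fintype μ] [DecidableEq μ] {K : Type*} [Field K]
    (P : Matrix μ μ K) (r : K) :
    (aeval P (X - Polynomial.C r)).det = (-1) ^ Fintype.card μ * P.charpoly.eval r := by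
  rw [eval_charpoly, map_sub, aeval_X, aeval_C, ← det_neg, neg_sub, Matrix.scalar_apply,
    Matrix.algebraMap_eq_diagonal]
  rfl

theorem map_det_aeval {L : Type*} [Field L] [Algebra F L] {μ : Type*} [Fintype μ] [DecidableEq μ]
    (φ : F →ₐ[F] L) (P : Matrix μ μ F) (c : F[X]) :
    φ (aeval P c).det = (aeval (P.map φ) (c.map φ.toRingHom)).det := by
  rw [AlgHom.map_det, ← Polynomial.aeval_algHom_apply, AlgHom.mapMatrix_apply,
    show (φ.toRingHom : F →+* L) = algebraMap F L from RingHom.ext φ.commutes,
    Polynomial.aeval_map_algebraMap]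

theorem det_aeval_eq_of_charpoly_closed {K : Type*} [Field K] [IsAlgClosed K] {ι κ : Type*}
    [Fintype ι] [DecidableEq ι] [Fintype κ] [DecidableEq κ] {M : Matrix ι ι K} {N : Matrix κ κ K}
    (h : M.charpoly = N.charpoly) (c : K[X]) : (aeval M c).det = (aeval N c).det := by
  have hcard : Fintype.card ι = Fintype.card κ := by
    rw [← M.charpoly_natDegree_eq_dim, ← N.charpoly_natDegree_eq_dim, h]
  have hlin : ∀ r : K, (aeval M (X - Polynomial.C r)).det = (aeval N (X - Polynomial.C r)).det := by
    intro r
    rw [det_aeval_X_sub_C, det_aeval_X_sub_C, hcard, h]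
  rw [(IsAlgClosed.splits c).eq_prod_roots, map_mul, map_mul, det_mul, det_mul]
  congr 1
  · simp [hcard, Matrix.algebraMap_eq_diagonal]
  · induction c.roots using Multiset.induction_on with
    | empty => simp
    | cons r s ih =>
      rw [Multiset.map_cons, Multiset.prod_cons, map_mul, map_mul, det_mul, det_mul, hlin, ih]

theorem det_aeval_eq_of_charpoly {ι κ : Type*} [Fintype ι] [DecidableEq ι] [Fintype κ]
    [DecidableEq κ] {M : Matrix ι ι F} {N : Matrix κ κ F} (h : M.charpoly = N.charpoly) (c : F[X]) :
    (aeval M c).det = (aeval N c).det := by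
  let φ : F →ₐ[F] AlgebraicClosure F := Algebra.ofId F _
  apply (φ : F →+* AlgebraicClosure F).injective
  show φ _ = φ _
  rw [map_det_aeval, map_det_aeval]
  exact det_aeval_eq_of_charpoly_closed (by
    rw [show (φ : F → AlgebraicClosure F) = φ.toRingHom from rfl, Matrix.charpoly_map,
      Matrix.charpoly_map, h]) _

theorem lsmul_eq_aeval {V : Type*} [AddCommGroup V] [Module F V] [Module F[X] V]
    [IsScalarTower F F[X] V] (c : F[X]) :
    (LinearMap.lsmul F[X] V c).restrictScalars F = aeval (mulX (F := F) V) c := by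
  induction c using Polynomial.induction_on with
  | C a =>
    ext v
    simp [Algebra.algebraMap_eq_smul_one, ← Polynomial.algebraMap_eq, algebraMap_smul]
  | add p q hp hq =>
    rw [map_add, map_add, ← hp, ← hq]
    ext v
    simp [add_smul]
  | monomial k a ih =>
    rw [pow_succ, ← mul_assoc, map_mul (aeval (mulX (F := F) V)), ← ih, aeval_X]
    ext v
    simp [mulX, mul_smul, Module.End.mul_apply]
    simp only [smul_smul]
    ring_nf

theorem det_lsmul_eq {V W : Type*} [AddCommGroup V] [Module F V] [Module F[X] V]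
    [IsScalarTower F F[X] V] [Module.Finite F V] [AddCommGroup W] [Module F W] [Module F[X] W]
    [IsScalarTower F F[X] W] [Module.Finite F W]
    (h : (mulX (F := F) V).charpoly = (mulX (F := F) W).charpoly) (c : F[X]) :
    LinearMap.det ((LinearMap.lsmul F[X] V c).restrictScalars F) =
      LinearMap.det ((LinearMap.lsmul F[X] W c).restrictScalars F) := by
  classical
  let b := Module.Free.chooseBasis F V
  let b' := Module.Free.chooseBasis F W
  rw [lsmul_eq_aeval, lsmul_eq_aeval, ← LinearMap.det_toMatrix b, ← LinearMap.det_toMatrix b']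
  show ((LinearMap.toMatrixAlgEquiv b) _).det = ((LinearMap.toMatrixAlgEquiv b') _).det
  rw [← Polynomial.aeval_algHom_apply, ← Polynomial.aeval_algHom_apply]
  refine det_aeval_eq_of_charpoly ?_ c
  show (LinearMap.toMatrix b b (mulX (F := F) V)).charpoly =
    (LinearMap.toMatrix b' b' (mulX (F := F) W)).charpoly
  rw [LinearMap.charpoly_toMatrix, LinearMap.charpoly_toMatrix, h]

theorem exists_det_quo_pow [Finite F] {P : F[X]} (hP : P.Monic) (hPi : Irreducible P) (e : ℕ)
    (d : F) (hd : d ≠ 0) : ∃ c : F[X],
      LinearMap.det ((LinearMap.lsmul F[X] (Quo (P ^ e)) c).restrictScalars F) = d ^ e := by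
  obtain ⟨c, hc⟩ := exists_det_quo hP hPi d hd
  refine ⟨c, ?_⟩
  haveI := finite_quo (hP.pow e)
  haveI := finite_quo hP
  rw [det_lsmul_eq (W := Fin e → Quo P) ?_ c]
  · rw [show (LinearMap.lsmul F[X] (Fin e → Quo P) c).restrictScalars F = LinearMap.pi fun i =>
      ((LinearMap.lsmul F[X] (Quo P) c).restrictScalars F).comp (LinearMap.proj i) from rfl,
      det_piMap, hc, Finset.prod_const, Finset.card_univ, Fintype.card_fin]
  · rw [charpoly_mulX_quo (hP.pow e), charpoly_mulX_pi, Finset.prod_congr rfl fun _ _ => charpoly_mulX_quo hP,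
      Finset.prod_const, Finset.card_univ, Fintype.card_fin]

variable {n : Type*} [Fintype n] [DecidableEq n]

/-- powers with exponent an elementary divisor exponent are determinants of the centraliser -/
theorem exists_commute_det_pow [Finite F] {A : Matrix n n F} (E : Decomp (F := F) (Mod A))
    (i₀ : E.ι) (d : F) (hd : d ≠ 0) :
    ∃ D : Matrix n n F, D * A = A * D ∧ D.det = d ^ E.e i₀ := by
  classical
  let o := Module.AEval'.of (Matrix.toLinAlgEquiv' A)
  haveI : ∀ i, Module.Finite F (Quo (E.P i ^ E.e i)) := fun i => finite_quo ((E.monic i).pow _)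
  obtain ⟨c, hc⟩ := exists_det_quo_pow (E.monic i₀) (E.irred i₀) (E.e i₀) d hd
  let f : ∀ i, Quo (E.P i ^ E.e i) →ₗ[F[X]] Quo (E.P i ^ E.e i) := fun i =>
    LinearMap.lsmul F[X] _ (if i = i₀ then c else 1)
  let φ : Module.End F[X] (Mod A) :=
    E.equiv.symm.toLinearMap ∘ₗ (LinearMap.pi fun i => (f i).comp (LinearMap.proj i)) ∘ₗ
      E.equiv.toLinearMap
  let ψ : (n → F) →ₗ[F] (n → F) :=
    o.symm.toLinearMap ∘ₗ (φ.restrictScalars F) ∘ₗ o.toLinearMap
  refine ⟨LinearMap.toMatrix' ψ, ?_, ?_⟩
  · apply Matrix.toLin'.injective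
    rw [Matrix.toLin'_mul, Matrix.toLin'_mul, Matrix.toLin'_toMatrix']
    refine LinearMap.ext fun v => ?_
    have hx : ∀ w, o (A *ᵥ w) = (X : F[X]) • o w := fun w => by
      simp only [o]
      rw [Module.AEval'.X_smul_of]
      rfl
    apply o.injective
    simp only [ψ, LinearMap.coe_comp, LinearEquiv.coe_toLinearMap, Function.comp_apply,
      Matrix.toLin'_apply, LinearEquiv.apply_symm_apply, LinearMap.coe_restrictScalars, hx,
      map_smul]
  · rw [LinearMap.det_toMatrix']
    have h1 : LinearMap.det ψ = LinearMap.det (φ.restrictScalars F) :=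
      LinearMap.det_conj (φ.restrictScalars F) o.symm
    have h2 : LinearMap.det (φ.restrictScalars F) = LinearMap.det (LinearMap.pi fun i =>
        ((f i).restrictScalars F).comp (LinearMap.proj i)) :=
      LinearMap.det_conj (LinearMap.pi fun i =>
        ((f i).restrictScalars F).comp (LinearMap.proj i)) (E.equiv.symm.restrictScalars F)
    rw [h1, h2, det_piMap, Finset.prod_eq_single i₀]
    · rw [show f i₀ = LinearMap.lsmul F[X] _ c by simp [f]]
      exact hc
    · intro i _ hi
      rw [show (f i).restrictScalars F = LinearMap.id by ext; simp [f, hi]]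
      exact LinearMap.det_id
    · simp

end CfsgLib.GLClass
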