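import Mathlib
import Cfsg.Agent.Lib.Descent.SplitCount

/-!
The number of classes of `SL` inside one class of `GL`.
-/

set_option autoImplicit false

namespace CfsgLib.GLClass

open Matrix

variable {F : Type*} [Field F] {n : ℕ}

theorem det_units_surjective [NeZero n] :
    Function.Surjective (Matrix.GeneralLinearGroup.det : GL (Fin n) F →* Fˣ) := by
  intro d
  let w : Fin n → F := Pi.mulSingle 0 (d : F)
  have hw : (Matrix.diagonal w).det = d := by
    rw [Matrix.det_diagonal, Finset.prod_pi_mulSingle']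
    simp
  refine ⟨Matrix.GeneralLinearGroup.mkOfDetNeZero (Matrix.diagonal w) (by rw [hw]; exact d.ne_zero),
    Units.ext ?_⟩
  exact hw

/-- The classes of `SL` inside the `GL`-class of `x` (of determinant one) are as many as the index
of the determinants of the centraliser of `x`. -/
theorem card_sl_classes [NeZero n] (x : Matrix.SpecialLinearGroup (Fin n) F) :
    Nat.card {C : ConjClasses (Matrix.SpecialLinearGroup (Fin n) F) //
        ∃ u, ConjClasses.mk u = C ∧
          IsConj (Matrix.SpecialLinearGroup.toGL x) (Matrix.SpecialLinearGroup.toGL u)} =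
      ((Subgroup.centralizer {Matrix.SpecialLinearGroup.toGL x}).map
        (Matrix.GeneralLinearGroup.det : GL (Fin n) F →* Fˣ)).index := by
  classical
  have hK : (Matrix.SpecialLinearGroup.toGL : Matrix.SpecialLinearGroup (Fin n) F →* _).range
      = (Matrix.GeneralLinearGroup.det : GL (Fin n) F →* Fˣ).ker.map (MonoidHom.id _) := by
    rw [Subgroup.map_id]
    ext g
    constructor
    · rintro ⟨s, rfl⟩
      exact Units.ext s.2
    · intro hg
      exact ⟨⟨(g : Matrix (Fin n) (Fin n) F), congrArg Units.val hg⟩, Units.ext rfl⟩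
  have h := CfsgLib.Descent.splitClassCount_eq_index_of_hom (MonoidHom.id (GL (Fin n) F))
    Matrix.GeneralLinearGroup.det det_units_surjective (Matrix.SpecialLinearGroup.toGL x) rfl hK
  rw [Subgroup.comap_id] at h
  rw [← h]
  let K := (Matrix.SpecialLinearGroup.toGL : Matrix.SpecialLinearGroup (Fin n) F →* _).range
  have hconj : ∀ u v : Matrix.SpecialLinearGroup (Fin n) F,
      Cfsg.IsConjUnder K (Matrix.SpecialLinearGroup.toGL u) (Matrix.SpecialLinearGroup.toGL v) ↔
        IsConj u v := by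
    intro u v
    rw [isConj_iff]
    constructor
    · rintro ⟨_, ⟨c, rfl⟩, hc⟩
      rw [← map_inv, ← map_mul, ← map_mul] at hc
      exact ⟨c, (Matrix.SpecialLinearGroup.toGL_injective hc).symm⟩
    · rintro ⟨c, rfl⟩
      exact ⟨_, ⟨c, rfl⟩, by rw [map_mul, map_mul, map_inv]⟩
  have hmem : ∀ u : Matrix.SpecialLinearGroup (Fin n) F,
      IsConj (Matrix.SpecialLinearGroup.toGL x) (Matrix.SpecialLinearGroup.toGL u) →
      Cfsg.IsConjUnder (MonoidHom.id (GL (Fin n) F)).range (Matrix.SpecialLinearGroup.toGL x)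
        (Matrix.SpecialLinearGroup.toGL u) := by
    intro u hu
    obtain ⟨c, hc⟩ := isConj_iff.1 hu
    exact ⟨c, ⟨c, rfl⟩, hc.symm⟩
  unfold Cfsg.splitClassCount
  refine Nat.card_eq_of_bijective (fun C => Quot.mk _ ⟨Matrix.SpecialLinearGroup.toGL C.2.choose,
    hmem _ C.2.choose_spec.2⟩) ⟨?_, ?_⟩
  · intro C D hCD
    have hr : Equivalence (fun y z : {y : GL (Fin n) F // Cfsg.IsConjUnder
        (MonoidHom.id (GL (Fin n) F)).range (Matrix.SpecialLinearGroup.toGL x) y} =>
          Cfsg.IsConjUnder K y.1 z.1) := by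
      refine ⟨fun y => ⟨1, one_mem _, by group⟩, ?_, ?_⟩
      · rintro y z ⟨c, hc, he⟩
        exact ⟨c⁻¹, inv_mem hc, by rw [he]; group⟩
      · rintro y z w ⟨c, hc, he⟩ ⟨d, hd, he'⟩
        exact ⟨d * c, mul_mem hd hc, by rw [he', he]; group⟩
    have h2 := (hr.quot_mk_eq_iff _ _).1 hCD
    apply Subtype.ext
    rw [← C.2.choose_spec.1, ← D.2.choose_spec.1]
    exact ConjClasses.mk_eq_mk_iff_isConj.2 ((hconj _ _).1 h2)
  · intro q
    obtain ⟨⟨y, g, -, rfl⟩, rfl⟩ := Quot.exists_rep q
    have hdet : ((g * Matrix.SpecialLinearGroup.toGL x * g⁻¹ : GL (Fin n) F) :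
        Matrix (Fin n) (Fin n) F).det = 1 := by
      rw [Units.val_mul, Units.val_mul, Matrix.det_units_conj]
      exact x.2
    let u : Matrix.SpecialLinearGroup (Fin n) F := ⟨_, hdet⟩
    have hu : Matrix.SpecialLinearGroup.toGL u = g * Matrix.SpecialLinearGroup.toGL x * g⁻¹ :=
      Units.ext rfl
    refine ⟨⟨ConjClasses.mk u, u, rfl, isConj_iff.2 ⟨g, hu.symm⟩⟩, Quot.sound ?_⟩
    set C : {C : ConjClasses (Matrix.SpecialLinearGroup (Fin n) F) //
        ∃ u, ConjClasses.mk u = C ∧
          IsConj (Matrix.SpecialLinearGroup.toGL x) (Matrix.SpecialLinearGroup.toGL u)} :=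
      ⟨ConjClasses.mk u, u, rfl, isConj_iff.2 ⟨g, hu.symm⟩⟩
    show Cfsg.IsConjUnder K (Matrix.SpecialLinearGroup.toGL C.2.choose)
      (g * Matrix.SpecialLinearGroup.toGL x * g⁻¹)
    rw [← hu]
    exact (hconj _ _).2 (ConjClasses.mk_eq_mk_iff_isConj.1 C.2.choose_spec.1)

end CfsgLib.GLClass
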