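import Mathlib
import Cfsg.Agent.Lib.GLClass.ClassWeight
import Cfsg.Agent.Lib.GLClass.DetAeval
import Cfsg.Agent.Lib.GLClass.SLSplit

/-!
The tuple of an invertible matrix: the `k`-th entry is the product of the elementary divisors of
exponent `k`. It decides similarity, gives the determinant, bounds the splitting in the special
linear group, and is invariant under scaling when the matrix is similar to its scalar multiple.
-/

set_option autoImplicit false

namespace CfsgLib.GLClass

open Polynomial Module Matrix UniqueFactorizationMonoid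

variable {F : Type*} [Field F] {n : ℕ}

/-- the decomposition used for the tuple -/
noncomputable def classDecomp (A : GL (Fin n) F) :
    Decomp (F := F) (Mod (A : Matrix (Fin n) (Fin n) F)) :=
  (exists_modDecomp _).some

theorem charpoly_eq_prod (A : GL (Fin n) F) :
    (A : Matrix (Fin n) (Fin n) F).charpoly = ∏ i, (classDecomp A).P i ^ (classDecomp A).e i := by
  rw [← charpoly_mulX_mod, (classDecomp A).charpoly_eq]

theorem eval_P_ne_zero (A : GL (Fin n) F) (i : (classDecomp A).ι) :
    ((classDecomp A).P i).eval 0 ≠ 0 := by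
  intro h
  have hdet : (A : Matrix (Fin n) (Fin n) F).det ≠ 0 :=
    ((Matrix.isUnit_iff_isUnit_det _).1 A.isUnit).ne_zero
  apply hdet
  rw [Matrix.det_eq_sign_charpoly_coeff, coeff_zero_eq_eval_zero, charpoly_eq_prod, eval_prod,
    Finset.prod_eq_zero (Finset.mem_univ i), mul_zero]
  rw [eval_pow, h, zero_pow ((classDecomp A).pos i).ne']

theorem sum_weight_eq (A : GL (Fin n) F) :
    ∑ i, (classDecomp A).e i * ((classDecomp A).P i).natDegree = n := by
  have h := congrArg natDegree (charpoly_eq_prod A)
  rw [Matrix.charpoly_natDegree_eq_dim, Fintype.card_fin,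
    natDegree_prod_of_monic _ _ fun i _ => ((classDecomp A).monic i).pow _] at h
  simp only [natDegree_pow] at h
  exact h.symm

theorem e_le (A : GL (Fin n) F) (i : (classDecomp A).ι) : (classDecomp A).e i ≤ n := by
  have h := Finset.single_le_sum
    (f := fun i => (classDecomp A).e i * ((classDecomp A).P i).natDegree)
    (fun _ _ => Nat.zero_le _) (Finset.mem_univ i)
  rw [sum_weight_eq] at h
  exact le_trans (Nat.le_mul_of_pos_right _ ((classDecomp A).irred i).natDegree_pos) h

/-- the index of a summand -/
noncomputable def classIdx (A : GL (Fin n) F) (i : (classDecomp A).ι) : Fin n :=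
  ⟨(classDecomp A).e i - 1, by have := (classDecomp A).pos i; have := e_le A i; omega⟩

theorem one_add_classIdx (A : GL (Fin n) F) (i : (classDecomp A).ι) :
    1 + (classIdx A i).val = (classDecomp A).e i := by
  have := (classDecomp A).pos i
  simp only [classIdx]
  omega

open scoped Classical in
/-- the tuple of an invertible matrix -/
noncomputable def classTup (A : GL (Fin n) F) : Tup F n 1 n :=
  ⟨fun k => ⟨∏ i ∈ Finset.univ.filter (fun i => classIdx A i = k), (classDecomp A).P i,
      monic_prod_of_monic _ _ fun i _ => (classDecomp A).monic i, by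
      rw [eval_prod]
      exact Finset.prod_ne_zero_iff.2 fun i _ => eval_P_ne_zero A i⟩, by
    simp only [natDegree_prod_of_monic _ _ fun i _ => (classDecomp A).monic i, Finset.mul_sum]
    refine Eq.trans ?_ (sum_weight_eq A)
    rw [← Finset.sum_fiberwise Finset.univ (classIdx A)
      (fun i => (classDecomp A).e i * ((classDecomp A).P i).natDegree)]
    refine Finset.sum_congr rfl fun k _ => Finset.sum_congr rfl fun i hi => ?_
    rw [← one_add_classIdx A i, (Finset.mem_filter.1 hi).2]⟩

theorem normalizedFactors_classTup [DecidableEq F] (A : GL (Fin n) F) (k : Fin n)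
    [DecidablePred fun i => classIdx A i = k] :
    normalizedFactors ((classTup A).1 k).1 =
      (Finset.univ.filter fun i => classIdx A i = k).val.map (classDecomp A).P := by
  classical
  simp only [classTup]
  rw [Finset.prod_eq_multiset_prod, normalizedFactors_prod_eq _ fun a ha => by
    obtain ⟨i, -, rfl⟩ := Multiset.mem_map.1 ha
    exact (classDecomp A).irred i, Multiset.map_map]
  refine (Multiset.map_congr ?_ fun i _ => ((classDecomp A).monic i).normalize_eq_self)
  congr 1
  ext i
  simp

open scoped Classical in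
theorem count_eq_classTup (A : GL (Fin n) F) (Q : F[X]) (k : Fin n) :
    (classDecomp A).count Q (1 + k.val) =
      Multiset.count Q (normalizedFactors ((classTup A).1 k).1) := by
  rw [normalizedFactors_classTup, Multiset.count_map]
  unfold Decomp.count
  rw [Nat.card_eq_fintype_card, Fintype.card_subtype, Finset.card_def, ← Finset.filter_val,
    Finset.filter_filter]
  congr 2
  ext i
  simp only [Finset.mem_filter, Finset.mem_univ, true_and]
  rw [Fin.ext_iff]
  have := one_add_classIdx A i
  constructor
  · rintro ⟨h1, h2⟩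
    exact ⟨by omega, h1.symm⟩
  · rintro ⟨h1, h2⟩
    exact ⟨h2.symm, by omega⟩

/-- The tuple decides similarity. -/
theorem isConj_of_classTup_eq {A B : GL (Fin n) F} (h : classTup A = classTup B) : IsConj A B := by
  classical
  refine isConj_units ?_
  obtain ⟨f⟩ := nonempty_equiv_of_decomp (classDecomp A) (classDecomp B) fun Q _ _ k => by
    by_cases hk : 1 ≤ k ∧ k ≤ n
    · obtain ⟨l, rfl⟩ : ∃ l : Fin n, k = 1 + l.val := ⟨⟨k - 1, by omega⟩, by simp only; omega⟩
      rw [count_eq_classTup, count_eq_classTup, h]
    · have he : ∀ C : GL (Fin n) F, (classDecomp C).count Q k = 0 := fun C => by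
        haveI : IsEmpty {i // (classDecomp C).P i = Q ∧ (classDecomp C).e i = k} := ⟨fun i => hk
          ⟨i.2.2 ▸ (classDecomp C).pos i.1, i.2.2 ▸ e_le C i.1⟩⟩
        exact Nat.card_of_isEmpty
      rw [he, he]
  exact isConj_of_modEquiv f

/-- The determinant from the tuple. -/
theorem det_eq_classTup (A : GL (Fin n) F) :
    Matrix.GeneralLinearGroup.det A = (-1) ^ n * tupConst (classTup A) := by
  classical
  apply Units.ext
  rw [Units.val_mul, Units.val_pow_eq_pow_val, Units.val_neg, Units.val_one]
  show (A : Matrix (Fin n) (Fin n) F).det = _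
  rw [Matrix.det_eq_sign_charpoly_coeff, Fintype.card_fin, coeff_zero_eq_eval_zero, charpoly_eq_prod]
  congr 1
  simp only [tupConst, Units.coe_prod, Units.val_pow_eq_pow_val, Units.val_mk0, classTup, eval_prod,
    eval_pow]
  rw [← Finset.prod_fiberwise Finset.univ (classIdx A)]
  refine Finset.prod_congr rfl fun k _ => ?_
  rw [← Finset.prod_pow]
  refine Finset.prod_congr rfl fun i hi => ?_
  rw [← (Finset.mem_filter.1 hi).2, one_add_classIdx]

variable [Fintype F]

/-- The splitting in the special linear group is bounded by the tuple. -/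
theorem index_le_tupGcd (A : GL (Fin n) F) :
    ((Subgroup.centralizer {A}).map
        (Matrix.GeneralLinearGroup.det : GL (Fin n) F →* Fˣ)).index ≤ tupGcd (classTup A) := by
  classical
  set H := (Subgroup.centralizer {A}).map (Matrix.GeneralLinearGroup.det : GL (Fin n) F →* Fˣ)
  have hN : ∀ v : Fˣ, v ^ (Fintype.card F - 1) = 1 := fun v => by
    rw [← Fintype.card_units]; exact pow_card_eq_one
  have hmem : ∀ v : Fˣ, v ^ tupGcd (classTup A) ∈ H := by
    refine fun v => pow_gcd_mem H hN _ _ (fun k hk v => ?_) v
    have hdeg := (Finset.mem_filter.1 hk).2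
    obtain ⟨i, hi⟩ : ∃ i, classIdx A i = k := by
      by_contra hne
      push Not at hne
      apply hdeg
      simp [classTup, hne]
    obtain ⟨C, hC, hdet⟩ := exists_commute_det_pow (classDecomp A) i (v : F) v.ne_zero
    have hC0 : C.det ≠ 0 := hdet ▸ pow_ne_zero _ v.ne_zero
    refine ⟨Matrix.GeneralLinearGroup.mkOfDetNeZero C hC0, ?_, ?_⟩
    · refine Subgroup.mem_centralizer_singleton_iff.2 (Units.ext ?_)
      exact hC
    · apply Units.ext
      rw [Units.val_pow_eq_pow_val]
      show C.det = _
      rw [hdet, ← hi, one_add_classIdx]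
  have hle : (powMonoidHom (tupGcd (classTup A)) : Fˣ →* Fˣ).range ≤ H := by
    rintro _ ⟨v, rfl⟩
    exact hmem v
  have h := Subgroup.index_antitone hle
  rwa [IsCyclic.index_powMonoidHom_range, Nat.card_eq_fintype_card, Fintype.card_units,
    Nat.gcd_eq_right (tupGcd_dvd_card _)] at h

open scoped Classical in
/-- Counting classes of the special linear group through their tuples. -/
theorem card_sl_classes_le [NeZero n] (P : ConjClasses (Matrix.SpecialLinearGroup (Fin n) F) → Prop)
    {f m : ℕ} [Fintype (Tup F f 1 m)] (a : Fˣ)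
    (Φ : ∀ x : Matrix.SpecialLinearGroup (Fin n) F, P (ConjClasses.mk x) → Tup F f 1 m)
    (hconst : ∀ x hx, tupConst (Φ x hx) = a)
    (hinj : ∀ x hx y hy, Φ x hx = Φ y hy →
      IsConj (Matrix.SpecialLinearGroup.toGL x) (Matrix.SpecialLinearGroup.toGL y))
    (hidx : ∀ x hx, ((Subgroup.centralizer {Matrix.SpecialLinearGroup.toGL x}).map
        (Matrix.GeneralLinearGroup.det : GL (Fin n) F →* Fˣ)).index ≤ tupGcd (Φ x hx)) :
    Nat.card {C // P C} ≤
      ∑ g ∈ Finset.univ.filter (fun g : Tup F f 1 m => tupConst g = a), tupGcd g := by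
  haveI : Fintype {C // P C} := Fintype.ofFinite _
  rw [Nat.card_eq_fintype_card, ← Finset.card_univ]
  let up : ConjClasses (Matrix.SpecialLinearGroup (Fin n) F) → ConjClasses (GL (Fin n) F) :=
    ConjClasses.map Matrix.SpecialLinearGroup.toGL
  haveI : Fintype (ConjClasses (GL (Fin n) F)) := Fintype.ofFinite _
  rw [Finset.card_eq_sum_card_image (fun C : {C // P C} => up C.1)]
  have hex : ∀ b ∈ (Finset.univ : Finset {C // P C}).image (fun C => up C.1),
      ∃ x, P (ConjClasses.mk x) ∧ ConjClasses.mk (Matrix.SpecialLinearGroup.toGL x) = b := by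
    intro b hb
    obtain ⟨⟨C, hC⟩, -, rfl⟩ := Finset.mem_image.1 hb
    obtain ⟨x, rfl⟩ := ConjClasses.mk_surjective C
    exact ⟨x, hC, rfl⟩
  choose x hxP hxb using hex
  calc ∑ b ∈ (Finset.univ : Finset {C // P C}).image (fun C => up C.1),
        (Finset.univ.filter fun C : {C // P C} => up C.1 = b).card
      ≤ ∑ b ∈ ((Finset.univ : Finset {C // P C}).image (fun C => up C.1)).attach,
          tupGcd (Φ (x b.1 b.2) (hxP b.1 b.2)) := by
        rw [← Finset.sum_attach]
        refine Finset.sum_le_sum fun b _ => le_trans ?_ (hidx _ (hxP b.1 b.2))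
        rw [← card_sl_classes, ← Fintype.card_subtype, ← Nat.card_eq_fintype_card]
        refine Nat.card_le_card_of_injective (fun C => ⟨C.1.1, ?_⟩) ?_
        · obtain ⟨u, hu⟩ := ConjClasses.mk_surjective C.1.1
          refine ⟨u, hu, ConjClasses.mk_eq_mk_iff_isConj.1 ?_⟩
          rw [hxb b.1 b.2, ← C.2, ← hu]
          rfl
        · intro C D h
          exact Subtype.ext (Subtype.ext (congrArg Subtype.val h :))
    _ = ∑ g ∈ ((Finset.univ : Finset {C // P C}).image (fun C => up C.1)).attach.image
          (fun b => Φ (x b.1 b.2) (hxP b.1 b.2)), tupGcd g := by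
        refine (Finset.sum_image (f := fun g => tupGcd g) ?_).symm
        intro b _ c _ h
        exact Subtype.ext (by
          rw [← hxb b.1 b.2, ← hxb c.1 c.2]
          exact ConjClasses.mk_eq_mk_iff_isConj.2 (hinj _ _ _ _ h))
    _ ≤ _ := by
        refine Finset.sum_le_sum_of_subset fun g hg => ?_
        obtain ⟨b, -, rfl⟩ := Finset.mem_image.1 hg
        exact Finset.mem_filter.2 ⟨Finset.mem_univ _, hconst _ _⟩

end CfsgLib.GLClass
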