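import Cfsg.Agent.Lib.GLClass.Semisimple
import Cfsg.Agent.Lib.GLClass.SemisimpleCount

/-!
# Classes of elements of prime order in the general linear group
-/

set_option autoImplicit false

namespace CfsgLib.GLClass

open Polynomial UniqueFactorizationMonoid

theorem multiset_option_split {α : Type*} (m : Multiset (Option α)) :
    m = (m.filterMap id).map some + Multiset.replicate (Multiset.card m - Multiset.card (m.filterMap id)) none ∧
      Multiset.card (m.filterMap id) ≤ Multiset.card m := by
  induction m using Multiset.induction with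
  | empty => simp
  | cons a s ih =>
    obtain ⟨h1, h2⟩ := ih
    rcases a with _ | a
    · rw [Multiset.filterMap_cons_none none s (show id none = none from rfl), Multiset.card_cons,
        Nat.succ_sub h2, Multiset.replicate_succ, Multiset.add_cons, ← h1]
      exact ⟨rfl, h2.trans (Nat.le_succ _)⟩
    · rw [Multiset.filterMap_cons_some id (some a) s (show id (some a) = some a from rfl), Multiset.card_cons,
        Multiset.card_cons, Nat.succ_sub_succ, Multiset.map_cons, Multiset.cons_add, ← h1]
      exact ⟨rfl, Nat.succ_le_succ h2⟩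

variable {F : Type*} [Field F]

section killed

variable [DecidableEq F] {ι : Type*} [Fintype ι] [DecidableEq ι]

theorem exists_modDecomp_dvd {A : Matrix ι ι F} {g : F[X]} (hg : Squarefree g) (h : aeval A g = 0) :
    ∀ P ∈ normalizedFactors A.charpoly, P ∣ g := by
  classical
  obtain ⟨D⟩ := exists_modDecomp A
  intro P hP
  rw [← charpoly_mulX_mod, D.factors_eq (fun i => D.exp_eq_one hg (smul_eq_zero_of_aeval h) i)] at hP
  obtain ⟨i, -, rfl⟩ := Multiset.mem_map.1 hP
  have h2 := congrArg D.equiv (smul_eq_zero_of_aeval h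
    (D.equiv.symm (Pi.single i (Submodule.Quotient.mk 1))))
  rw [map_smul, map_zero, LinearEquiv.apply_symm_apply] at h2
  have h3 := congrFun h2 i
  rw [Pi.smul_apply, Pi.single_eq_same, ← Submodule.Quotient.mk_smul, Pi.zero_apply,
    Submodule.Quotient.mk_eq_zero, smul_eq_mul, mul_one, Ideal.mem_span_singleton,
    D.exp_eq_one hg (smul_eq_zero_of_aeval h) i, pow_one] at h3
  exact h3

theorem aeval_eq_zero_of_factors_dvd {A : Matrix ι ι F} {g : F[X]} (hA : IsSS A)
    (h : ∀ P ∈ normalizedFactors A.charpoly, P ∣ g) : aeval A g = 0 := by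
  classical
  obtain ⟨D⟩ := exists_modDecomp A
  obtain ⟨s, hs, hs0⟩ := hA
  have he := fun i => D.exp_eq_one hs (smul_eq_zero_of_aeval hs0) i
  refine aeval_eq_zero_of_smul fun x => D.equiv.injective ?_
  rw [map_smul, map_zero]
  funext i
  have hi : D.P i ∣ g := h _ (by
    rw [← charpoly_mulX_mod, D.factors_eq he]
    exact Multiset.mem_map.2 ⟨i, Finset.mem_univ_val i, rfl⟩)
  rw [Pi.smul_apply, Pi.zero_apply]
  obtain ⟨y, hy⟩ := Submodule.Quotient.mk_surjective _ (D.equiv x i)
  rw [← hy, ← Submodule.Quotient.mk_smul, Submodule.Quotient.mk_eq_zero, smul_eq_mul, Ideal.mem_span_singleton,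
    he i, pow_one]
  exact hi.mul_right y

end killed

variable [Fintype F]

theorem card_classes_prime_order {p q : ℕ} [Fact p.Prime] [CharP F p] (hF : Fintype.card F = q)
    (n r i t : ℕ) (hr : r.Prime) (hrp : r ≠ p) (hi : i = orderOf (q : ZMod r)) (ht : t * i = r - 1) :
    Nat.card {C : ConjClasses (GL (Fin n) F) // ∃ g : GL (Fin n) F, ConjClasses.mk g = C ∧ orderOf g = r} =
      Nat.choose (n / i + t) t - 1 := by
  classical
  haveI := Fact.mk hr
  obtain ⟨⟨f, hf⟩, -, hcard⟩ := FiniteField.card F p
  rw [hF] at hcard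
  simp only [PNat.mk_coe] at hcard
  have hcop : p.Coprime r := (Nat.coprime_primes Fact.out hr).2 (Ne.symm hrp)
  have hio : orderOf (ZMod.unitOfCoprime (p ^ f) (hcop.pow_left f)) = i := by
    rw [hi, hcard, ← orderOf_units, ZMod.coe_unitOfCoprime]
  have hi0 : 0 < i := hio ▸ orderOf_pos _
  set Fs : Finset F[X] := (normalizedFactors (cyclotomic r F)).toFinset with hFs
  have hFt : Fs.card = t := by
    rw [hFs, normalizedFactors_cyclotomic_card (hF.trans hcard) hcop, hio, Nat.totient_prime hr, ← ht,
      Nat.mul_div_cancel _ hi0]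
  have hFdeg : ∀ P ∈ Fs, P.natDegree = i := fun P hP => by
    rw [natDegree_of_mem_normalizedFactors_cyclotomic (hF.trans hcard) hcop (Multiset.mem_toFinset.1 hP), hio]
  have hFirr : ∀ P ∈ Fs, Irreducible P := fun P hP => irreducible_of_normalized_factor _ (Multiset.mem_toFinset.1 hP)
  have hFn : ∀ P ∈ Fs, normalize P = P := fun P hP => normalize_normalized_factor _ (Multiset.mem_toFinset.1 hP)
  have hFdvd : ∀ P ∈ Fs, P ∣ cyclotomic r F := fun P hP => dvd_of_mem_normalizedFactors (Multiset.mem_toFinset.1 hP)
  have hr0 : (r : F) ≠ 0 := by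
    rw [Ne, CharP.cast_eq_zero_iff F p]
    exact fun h => hrp ((Nat.prime_dvd_prime_iff_eq Fact.out hr).1 h).symm
  set L : F[X] := X - C 1 with hL
  have hLF : L ∉ Fs := fun h => hr0 (by
    have h1 := eval_dvd (x := (1 : F)) (hFdvd L h)
    rwa [hL, eval_sub, eval_X, eval_C, sub_self, eval_one_cyclotomic_prime, zero_dvd_iff] at h1)
  have hg : Squarefree (X ^ r - 1 : F[X]) := (X_pow_sub_one_separable_iff.2 hr0).squarefree
  have hgmul : (X ^ r - 1 : F[X]) = cyclotomic r F * L := by
    rw [hL, map_one, cyclotomic_prime_mul_X_sub_one F r]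
  set k := n / i
  have hk : k * i ≤ n := Nat.div_mul_le_self n i
  let T := Sym (Option {P // P ∈ Fs}) k
  let sm : T → Multiset F[X] := fun m => ((m : Multiset (Option {P // P ∈ Fs})).filterMap id).map Subtype.val
  have hsmF : ∀ m, ∀ P ∈ sm m, P ∈ Fs := fun m P hP => by
    obtain ⟨x, -, rfl⟩ := Multiset.mem_map.1 hP
    exact x.2
  have hsmc : ∀ m, Multiset.card (sm m) * i ≤ n := fun m => by
    refine le_trans (Nat.mul_le_mul_right i ?_) hk
    rw [Multiset.card_map]
    exact (multiset_option_split _).2.trans (le_of_eq m.2)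
  let fac : T → Multiset F[X] := fun m => Multiset.replicate (n - Multiset.card (sm m) * i) L + sm m
  have hfac : ∀ m, ∀ P ∈ fac m, Irreducible P ∧ normalize P = P ∧ P.eval 0 ≠ 0 ∧ P ∣ X ^ r - 1 := fun m P hP => by
    rcases Multiset.mem_add.1 hP with h | h
    · rw [Multiset.eq_of_mem_replicate h]
      exact ⟨irreducible_X_sub_C 1, (monic_X_sub_C 1).normalize_eq_self, by simp [hL], hgmul ▸ dvd_mul_left _ _⟩
    · have hP' := hsmF m P h
      refine ⟨hFirr P hP', hFn P hP', fun h0 => ?_, hgmul ▸ (hFdvd P hP').mul_right _⟩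
      have h1 := eval_dvd (x := (0 : F)) ((hgmul ▸ (hFdvd P hP').mul_right L : P ∣ X ^ r - 1))
      rw [h0, zero_dvd_iff, eval_sub, eval_pow, eval_X, eval_one, zero_pow hr.ne_zero] at h1
      simp at h1
  let pol : T → F[X] := fun m => (fac m).prod
  have hpm : ∀ m, ∀ P ∈ fac m, P.Monic := fun m P hP => by
    rw [← (hfac m P hP).2.1]
    exact monic_normalize (hfac m P hP).1.ne_zero
  have hpol : ∀ m, normalizedFactors (pol m) = fac m := fun m => by
    rw [normalizedFactors_prod_eq _ fun a ha => (hfac m a ha).1, Multiset.map_congr rfl fun a ha => (hfac m a ha).2.1,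
      Multiset.map_id']
  have hdeg : ∀ m, (pol m).natDegree = n := fun m => by
    rw [natDegree_multiset_prod_of_monic _ (hpm m), Multiset.map_add, Multiset.sum_add, Multiset.map_replicate,
      Multiset.sum_replicate, hL, natDegree_X_sub_C, smul_eq_mul, mul_one,
      Multiset.map_congr rfl fun P hP => hFdeg P (hsmF m P hP), Multiset.map_const', Multiset.sum_replicate, smul_eq_mul]
    exact Nat.sub_add_cancel (hsmc m)
  have hev : ∀ m, (pol m).eval 0 ≠ 0 := fun m h => by
    rw [eval_multiset_prod, Multiset.prod_eq_zero_iff] at h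
    obtain ⟨P, hP, h0⟩ := Multiset.mem_map.1 h
    exact (hfac m P hP).2.2.1 h0
  choose A hAc hAo using fun m => exists_ss_of_monic p (pol m) (show (pol m).Monic by simpa using monic_multiset_prod_of_monic (fac m) id (hpm m)) (hdeg m) (hev m)
  have hApow : ∀ m, A m ^ r = 1 := fun m => by
    have h := aeval_eq_zero_of_factors_dvd (g := X ^ r - 1) (isSS_of_coprime p (A m) (hAo m))
      (by rw [hAc, hpol]; exact fun P hP => (hfac m P hP).2.2.2)
    rw [map_sub, map_pow, aeval_X, map_one, sub_eq_zero] at h
    exact Units.ext (by rw [Units.val_pow_eq_pow_val, h, Units.val_one])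
  let S := {C : ConjClasses (GL (Fin n) F) // ∃ g : GL (Fin n) F, ConjClasses.mk g = C ∧ g ^ r = 1}
  let Φ : T → S := fun m => ⟨ConjClasses.mk (A m), A m, rfl, hApow m⟩
  have hΦ : Function.Bijective Φ := by
    constructor
    · intro m m' h
      have hc : IsConj (A m) (A m') := ConjClasses.mk_eq_mk_iff_isConj.1 (congrArg Subtype.val h)
      obtain ⟨c, hc⟩ := isConj_iff.1 hc
      have hcp : pol m = pol m' := by
        rw [← hAc, ← hAc, ← hc, Units.val_mul, Units.val_mul, Matrix.coe_units_inv, Matrix.charpoly_units_conj]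
      have hF' := congrArg (Multiset.filter (· ≠ L)) ((hpol m).symm.trans ((congrArg normalizedFactors hcp).trans (hpol m')))
      have hfl : ∀ m, (fac m).filter (· ≠ L) = sm m := fun m => by
        rw [Multiset.filter_add, Multiset.filter_eq_nil.2 (fun a ha => by simp [Multiset.eq_of_mem_replicate ha]),
          zero_add]
        exact Multiset.filter_eq_self.2 fun a ha (e : a = L) => hLF (by rw [← e]; exact hsmF m a ha)
      rw [hfl, hfl] at hF'
      have hs := Multiset.map_injective Subtype.val_injective hF'
      refine Sym.coe_injective ?_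
      have a1 := (multiset_option_split (m : Multiset (Option {P // P ∈ Fs}))).1
      have b1 := (multiset_option_split (m' : Multiset (Option {P // P ∈ Fs}))).1
      rw [Sym.card_coe] at a1 b1
      refine a1.trans (Eq.trans ?_ b1.symm)
      rw [hs]
    · rintro ⟨C, g, rfl, hgr⟩
      have hgo : (orderOf g).Coprime p := Nat.Coprime.coprime_dvd_left (orderOf_dvd_of_pow_eq_one hgr) hcop.symm
      have hall : ∀ P ∈ normalizedFactors g.1.charpoly, P = L ∨ P ∈ Fs := fun P hP => by
        have hi' := irreducible_of_normalized_factor P hP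
        have hn' := normalize_normalized_factor P hP
        have h := exists_modDecomp_dvd hg (A := g.1) (by
          rw [map_sub, map_pow, aeval_X, map_one, ← Units.val_pow_eq_pow_val, hgr, Units.val_one, sub_self]) P hP
        rw [hgmul] at h
        rcases hi'.prime.dvd_or_dvd h with h | h
        · refine Or.inr (Multiset.mem_toFinset.2 ?_)
          obtain ⟨Q, hQ, hPQ⟩ := exists_mem_normalizedFactors_of_dvd (cyclotomic_ne_zero r F) hi' h
          rwa [← hn', normalize_eq_normalize_iff_associated.2 hPQ, normalize_normalized_factor Q hQ]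
        · left
          rw [← hn', normalize_eq_normalize_iff_associated.2 (hi'.associated_of_dvd (irreducible_X_sub_C 1) h),
            (monic_X_sub_C 1).normalize_eq_self]
      set N := normalizedFactors g.1.charpoly
      let s : Multiset {P // P ∈ Fs} := (N.filter (· ∈ Fs)).pmap Subtype.mk fun a ha => (Multiset.mem_filter.1 ha).2
      have hs : s.map Subtype.val = N.filter (· ∈ Fs) := by rw [Multiset.map_pmap, Multiset.pmap_eq_map, Multiset.map_id']
      have hsum : (N.map natDegree).sum = n := by
        rw [← natDegree_multiset_prod _ (zero_notMem_normalizedFactors _)]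
        exact (natDegree_eq_of_degree_eq (degree_eq_degree_of_associated
          (prod_normalizedFactors (Matrix.charpoly_monic g.1).ne_zero))).trans
          ((Matrix.charpoly_natDegree_eq_dim g.1).trans (Fintype.card_fin n))
      have hN : N = Multiset.replicate (Multiset.card (N.filter (· ∉ Fs))) L + N.filter (· ∈ Fs) := by
        rw [← Multiset.eq_replicate_card.2 fun a ha => ?_, add_comm, Multiset.filter_add_not]
        exact (hall a (Multiset.mem_filter.1 ha).1).resolve_right (Multiset.mem_filter.1 ha).2
      rw [hN, Multiset.map_add, Multiset.sum_add, Multiset.map_replicate, Multiset.sum_replicate, hL, natDegree_X_sub_C,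
        smul_eq_mul, mul_one, Multiset.map_congr rfl fun P hP => hFdeg P (Multiset.mem_filter.1 hP).2,
        Multiset.map_const', Multiset.sum_replicate, smul_eq_mul] at hsum
      have hcs : Multiset.card s ≤ k := by
        rw [Nat.le_div_iff_mul_le hi0, Multiset.card_pmap]
        exact le_of_le_of_eq (Nat.le_add_left _ _) hsum
      let m : T := ⟨s.map some + Multiset.replicate (k - Multiset.card s) none, by
        rw [Multiset.card_add, Multiset.card_map, Multiset.card_replicate, Nat.add_sub_cancel' hcs]⟩
      have hsm : sm m = N.filter (· ∈ Fs) := by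
        rw [← hs]
        refine congrArg (Multiset.map Subtype.val) ?_
        show (s.map some + Multiset.replicate _ none).filterMap id = s
        rw [Multiset.filterMap_add, Multiset.filterMap_map]
        have e : ∀ c, (Multiset.replicate c (none : Option {P // P ∈ Fs})).filterMap id = 0 := fun c => by
          induction c with
          | zero => rfl
          | succ c ih => rw [Multiset.replicate_succ, Multiset.filterMap_cons_none none _ (show id none = none from rfl), ih]
        rw [e, add_zero]
        exact Multiset.filterMap_some s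
      refine ⟨m, Subtype.ext (ConjClasses.mk_eq_mk_iff_isConj.2 (isConj_units (isConj_of_charpoly_eq
        (isSS_of_coprime p (A m) (hAo m)) (isSS_of_coprime p g hgo) ?_)))⟩
      refine eq_of_monic_of_associated (Matrix.charpoly_monic _) (Matrix.charpoly_monic _) ?_
      rw [hAc]
      rw [show pol m = N.prod from congrArg Multiset.prod (?_ : fac m = N)]
      · exact prod_normalizedFactors (Matrix.charpoly_monic g.1).ne_zero
      show Multiset.replicate _ L + sm m = N
      rw [hsm]
      conv_rhs => rw [hN]
      congr 2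
      exact (Nat.eq_sub_of_add_eq hsum).symm
  have hS : Nat.card S = Nat.choose (k + t) t := by
    rw [← Nat.card_eq_of_bijective Φ hΦ, Nat.card_eq_fintype_card, Sym.card_sym_eq_choose, Fintype.card_option,
      Fintype.card_coe, hFt, show t + 1 + k - 1 = k + t by rw [Nat.add_right_comm, Nat.add_sub_cancel, Nat.add_comm]]
    exact Nat.choose_symm_add.symm ▸ rfl
  let one' : S := ⟨ConjClasses.mk 1, 1, rfl, one_pow r⟩
  let e : {C : ConjClasses (GL (Fin n) F) // ∃ g : GL (Fin n) F, ConjClasses.mk g = C ∧ orderOf g = r} ≃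
      {x : S // x ≠ one'} :=
    { toFun := fun C => ⟨⟨C.1, by obtain ⟨g, h1, h2⟩ := C.2; exact ⟨g, h1, h2 ▸ pow_orderOf_eq_one g⟩⟩, fun h => by
        obtain ⟨g, h1, h2⟩ := C.2
        have h' : ConjClasses.mk g = ConjClasses.mk 1 := h1.trans (congrArg Subtype.val h)
        rw [isConj_one_left.1 (ConjClasses.mk_eq_mk_iff_isConj.1 h'), orderOf_one] at h2
        exact hr.ne_one h2.symm⟩
      invFun := fun x => ⟨x.1.1, by
        obtain ⟨g, h1, h2⟩ := x.1.2
        exact ⟨g, h1, orderOf_eq_prime h2 fun h => x.2 (Subtype.ext (h1.symm.trans (congrArg ConjClasses.mk h)))⟩⟩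
      left_inv := fun _ => rfl
      right_inv := fun _ => rfl }
  haveI := Fintype.ofFinite S
  rw [Nat.card_congr e, Nat.card_eq_fintype_card, Fintype.card_subtype_compl, Fintype.card_subtype_eq,
    ← Nat.card_eq_fintype_card, hS]

end CfsgLib.GLClass
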