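import Cfsg.Agent.Lib.GLClass.CommChain

/-!
Special factorisations of quadratic blocks, used over the fields with two and three elements.
-/

set_option autoImplicit false

namespace CfsgLib.GLClass.CommSL

open Polynomial Matrix Module

variable {F : Type*} [Field F]

/-- A unipotent matrix. -/
def uni (x : F) : Matrix (Fin 2) (Fin 2) F := !![1, x; 0, 1]

/-- A reflection. -/
def refl2 (y : F) : Matrix (Fin 2) (Fin 2) F := !![1, 0; y, -1]

theorem sim_two {φ : F[X]} (hφ : φ.Monic) (h2 : φ.natDegree = 2) (M : Matrix (Fin 2) (Fin 2) F) (h01 : M 0 1 ≠ 0)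
    (h0 : φ.coeff 0 = M.det) (h1 : φ.coeff 1 = -M.trace) : Sim (comp φ) M := by
  have e : M.charpoly = φ := by
    rw [Matrix.charpoly_fin_two]
    refine Polynomial.ext fun i => ?_
    simp only [coeff_add, coeff_sub, coeff_X_pow, coeff_C_mul, coeff_X, coeff_C]
    rcases i with - | - | - | i
    · simp [h0]
    · simp [h1]
    · simp [← h2, hφ.coeff_natDegree]
    · rw [coeff_eq_zero_of_natDegree_lt (by omega)]; simp
  exact (cyc_comp hφ).sim (e ▸ cyc_two M h01)

theorem sim_uni {x : F} (hx : x ≠ 0) : Sim (uni x) (uni (1 : F)) := by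
  refine ⟨!![x, 0; 0, 1], !![x⁻¹, 0; 0, 1], ?_, ?_, ?_⟩ <;>
    (ext i j; fin_cases i <;> fin_cases j <;> simp [uni, Matrix.mul_apply, Fin.sum_univ_two, hx])

theorem sim_refl2 (h2 : (2 : F) ≠ 0) (y : F) : Sim (refl2 y) (refl2 (0 : F)) := by
  refine ⟨!![1, 0; y / 2, 1], !![1, 0; -(y / 2), 1], ?_, ?_, ?_⟩ <;>
    (ext i j; fin_cases i <;> fin_cases j <;> simp [refl2, Matrix.mul_apply, Fin.sum_univ_two] <;> field_simp <;> ring)

theorem charpoly_uni (x : F) : (uni x).charpoly = (X - Polynomial.C 1) * (X - Polynomial.C 1) := by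
  rw [Matrix.charpoly_fin_two]
  simp [uni, Matrix.trace_fin_two, Matrix.det_fin_two]
  norm_num [map_add, map_one]
  ring

theorem charpoly_refl2 (y : F) : (refl2 y).charpoly = (X - Polynomial.C 1) * (X - Polynomial.C (-1)) := by
  rw [Matrix.charpoly_fin_two]
  simp [refl2, Matrix.trace_fin_two, Matrix.det_fin_two, map_neg]
  ring

/-- The diagonal centralizing element. -/
theorem exists_z_blocks {κ : Type*} [Fintype κ] [DecidableEq κ] {D : Matrix (Fin 2) (Fin 2) F}
    (hD : D 0 1 = 0 ∧ D 1 0 = 0) (R : Matrix κ κ F) (δ : F) :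
    ∃ z, z * fromBlocks D 0 0 R = fromBlocks D 0 0 R * z ∧ z.det = δ := by
  refine ⟨fromBlocks !![δ, 0; 0, 1] 0 0 1, ?_, ?_⟩
  · have e : !![δ, 0; 0, 1] * D = D * !![δ, 0; 0, 1] := by
      ext i j; fin_cases i <;> fin_cases j <;> simp [Matrix.mul_apply, Fin.sum_univ_two, hD.1, hD.2, mul_comm]
    simp [fromBlocks_multiply, e]
  · rw [det_fromBlocks_zero₁₂, det_one, mul_one, Matrix.det_fin_two]; simp

/-- Pairs of equal blocks `(X - σ)²`. -/
theorem com_jpair {σ : F} (hσ : σ * σ = 1) {φ ψ : F[X]} (hφ : φ.Monic) (hd : φ.natDegree = 2) (h0 : φ.coeff 0 = 1)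
    (h1 : φ.coeff 1 = -(σ + σ)) (hψ : ψ.Monic) (hd' : ψ.natDegree = 2) (h0' : ψ.coeff 0 = 1)
    (h1' : ψ.coeff 1 = -(σ + σ)) : Com (CM [φ, ψ]) := by
  let M : Matrix (Fin 2) (Fin 2) F := !![σ, 1; 0, σ]
  let Mi : Matrix (Fin 2) (Fin 2) F := !![σ, -1; 0, σ]
  have hMi : Mi * M = 1 := by
    ext i j; fin_cases i <;> fin_cases j <;> simp [M, Mi, Matrix.mul_apply, Fin.sum_univ_two, hσ]
  have hdet : M.det = 1 := by simp [M, Matrix.det_fin_two, hσ]
  have f1 : Fac (comp φ) M (1 : Matrix (Fin 2) (Fin 2) F) :=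
    Fac.sim (sim_two hφ hd M (by simp [M]) (by rw [hdet, h0]) (by rw [h1, Matrix.trace_fin_two]; simp [M]))
      ⟨M, 1, Sim.refl _, Sim.refl _, mul_one M⟩
  have f2 : Fac (comp ψ) (1 : Matrix (Fin 2) (Fin 2) F) M :=
    Fac.sim (sim_two hψ hd' Mi (by simp [Mi]) (by simp [Mi, h0', Matrix.det_fin_two, hσ])
      (by rw [h1', Matrix.trace_fin_two]; simp [Mi]))
      ⟨1, M, Sim.refl _, Sim.refl _, hMi⟩
  have H : Fac (fromBlocks (comp φ) 0 0 (comp ψ)) (fromBlocks M 0 0 (1 : Matrix (Fin 2) (Fin 2) F))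
      (fromBlocks (1 : Matrix (Fin 2) (Fin 2) F) 0 0 M) := f1.blocks f2
  refine Com.sim ((Sim.refl _).blocks (cm_singleton ψ)) (Com.of_fac H (sim_blocks_comm _ _) ?_ fun δ _ => ?_)
  · rw [det_fromBlocks_zero₁₂, hdet, det_one, one_mul]
  · exact exists_z_blocks ⟨by simp, by simp⟩ _ δ

/-- In characteristic three a single block `(X - σ)²` is a loop. -/
theorem loop_j (h3 : (3 : F) = 0) {σ : F} (hσ : σ = 1 ∨ σ = -1) {φ : F[X]} (hφ : φ.Monic) (hd : φ.natDegree = 2)
    (h0 : φ.coeff 0 = 1) (h1 : φ.coeff 1 = -(σ + σ)) : LoopC (comp φ) := by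
  have h2 : (2 : F) = -1 := by linear_combination h3
  rcases hσ with rfl | rfl
  · refine LoopC.sim (sim_two hφ hd (uni 1) (by simp [uni]) (by simp [uni, h0, Matrix.det_fin_two])
      (by rw [h1, Matrix.trace_fin_two]; simp [uni])) ⟨!![-1, 0; 0, 1], uni 1, ?_, ?_, ?_⟩
    · simp [Matrix.det_fin_two]
    · simp [uni, Matrix.det_fin_two]
    · ext i j; fin_cases i <;> fin_cases j <;> simp [uni, Matrix.mul_apply, Fin.sum_univ_two, one_add_one_eq_two, h2]
  · refine LoopC.sim (sim_two hφ hd !![0, 1; -1, 1] (by simp) (by simp [h0, Matrix.det_fin_two])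
      (by rw [h1, Matrix.trace_fin_two]; simp; linear_combination h3)) ⟨!![0, 1; 1, 0], !![1, 0; 1, 1], ?_, ?_, ?_⟩
    · simp [Matrix.det_fin_two]
    · simp [Matrix.det_fin_two]
    · ext i j; fin_cases i <;> fin_cases j <;> simp [Matrix.mul_apply, Fin.sum_univ_two]

variable [Fintype F]

/-- Bordering with two by two blocks. -/
theorem fac_border_two {φ : F[X]} (hφ : φ.Monic) {k : ℕ} (hk : 3 ≤ k) (hd : φ.natDegree = k + 2)
    {s s' t t' d : F} (S S' Si S'i : Matrix (Fin 2) (Fin 2) F) (hS : S * Si = 1) (hS' : S' * S'i = 1)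
    (hs : s ≠ 0) (hs' : s' ≠ 0) (hd0 : d ≠ 0) (ht : t = s ∨ t = s') (ht' : t' = s ∨ t' = s')
    (hcS : S.charpoly = (X - Polynomial.C s) * (X - Polynomial.C t))
    (hcS' : S'.charpoly = (X - Polynomial.C s) * (X - Polynomial.C t'))
    (h01 : (S * S'i) 0 1 ≠ 0) (h0 : φ.coeff 0 = (-1) ^ k * (S * S'i).det)
    (h1 : φ.coeff (k + 1) = -(k : F) - (S * S'i).trace) :
    ∃ A : Matrix (Fin k) (Fin k) F, A.det = d ∧ Fac (comp φ) (fromBlocks A 0 0 S) (fromBlocks A 0 0 S') := by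
  obtain ⟨T, hTm, hTd, hT0, htri, hTdet, he, he'⟩ := exists_trinomial (show 2 ≤ k by omega) hs hs' hd0
  subst hTd
  obtain ⟨Q, hQA, htr⟩ := exists_src hTm (by omega) hT0 htri
  have hu : ∀ r r' : F, (r = s ∨ r = s') → (r' = s ∨ r' = s') →
      IsUnit (aeval Q.A ((X - Polynomial.C r) * (X - Polynomial.C r'))) := by
    have key : ∀ r : F, (r = s ∨ r = s') → IsUnit (aeval Q.A (X - Polynomial.C r)) := fun r hr => by
      rw [map_sub, aeval_X, aeval_C, Algebra.algebraMap_eq_smul_one, hQA]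
      exact isUnit_sub hTm (by rcases hr with rfl | rfl <;> assumption)
    intro r r' hr hr'
    rw [map_mul]; exact (key r hr).mul (key r' hr')
  obtain ⟨e, he2⟩ := (cyc_two (S * S'i) h01).spec
  refine ⟨Q.A, hQA ▸ hTdet, border Q S S' Si S'i hS hS' e (by simp) he2 (hcS ▸ hu s t (Or.inl rfl) ht)
    (hcS' ▸ hu s t' (Or.inl rfl) ht') hφ (by simpa using hd) ?_ ?_⟩
  · rw [h0, mul_coeff_zero, coeff_zero_eq, coeff_zero_eq, det_com, Fintype.card_fin, Fintype.card_fin, mul_one,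
      neg_one_sq, one_mul]
  · intro i hi
    rw [Fintype.card_fin] at hi
    have hm : (Q.com.charpoly * (S * S'i).charpoly).Monic := (Matrix.charpoly_monic _).mul (Matrix.charpoly_monic _)
    have hd' : (Q.com.charpoly * (S * S'i).charpoly).natDegree = T.natDegree + 2 := by
      rw [(Matrix.charpoly_monic _).natDegree_mul (Matrix.charpoly_monic _), Matrix.charpoly_natDegree_eq_dim,
        Matrix.charpoly_natDegree_eq_dim, Fintype.card_fin, Fintype.card_fin]
    rcases (show i = T.natDegree + 1 ∨ i = T.natDegree + 2 ∨ T.natDegree + 2 < i by omega) with rfl | rfl | h'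
    · have hn := (Matrix.charpoly_monic Q.com).nextCoeff_mul (Matrix.charpoly_monic (S * S'i))
      rw [nextCoeff_of_natDegree_pos (by omega), hd', show T.natDegree + 2 - 1 = T.natDegree + 1 by omega] at hn
      haveI : Nonempty (Fin T.natDegree) := ⟨⟨0, by omega⟩⟩
      have t1 := Matrix.trace_eq_neg_charpoly_nextCoeff Q.com
      have t2 := Matrix.trace_eq_neg_charpoly_nextCoeff (S * S'i)
      rw [hn, h1, t2]
      linear_combination htr hk - t1
    · conv_lhs => rw [← hd, hφ.coeff_natDegree]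
      rw [← hd', hm.coeff_natDegree]
    · rw [coeff_eq_zero_of_natDegree_lt (hd ▸ h'), coeff_eq_zero_of_natDegree_lt (hd' ▸ h')]

/-- A quadratic of determinant minus one next to a bigger block of determinant minus one. -/
theorem com_var_three (h2 : (2 : F) ≠ 0) {Q φ : F[X]} (hQ : Q.Monic) (hQd : Q.natDegree = 2) (hQ0 : Q.coeff 0 = -1)
    (hφ : φ.Monic) {k : ℕ} (hk : 3 ≤ k) (hd : φ.natDegree = k + 2) (h0 : φ.coeff 0 = (-1) ^ k * (-1)) :
    Com (CM [Q, φ]) := by
  set y := -φ.coeff (k + 1) - (k : F) with hy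
  set b := -Q.coeff 1 with hb
  have hR : refl2 y * refl2 y = 1 := by
    ext i j; fin_cases i <;> fin_cases j <;> simp [refl2, Matrix.mul_apply, Fin.sum_univ_two]
  have hU : uni (-1 : F) * uni 1 = 1 := by
    ext i j; fin_cases i <;> fin_cases j <;> simp [uni, Matrix.mul_apply, Fin.sum_univ_two]
  obtain ⟨A, hA, hF⟩ := fac_border_two hφ hk hd (s := (1 : F)) (s' := -1) (t := -1) (t' := 1) (d := -1) (refl2 y) (uni (-1))
    (refl2 y) (uni 1) hR hU one_ne_zero (neg_ne_zero.2 one_ne_zero) (neg_ne_zero.2 one_ne_zero) (Or.inr rfl) (Or.inl rfl)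
    (charpoly_refl2 y) (charpoly_uni _) (by simp [refl2, uni, Matrix.mul_apply, Fin.sum_univ_two])
    (by rw [h0, det_mul]; simp [refl2, uni, Matrix.det_fin_two])
    (by rw [Matrix.trace_fin_two]; simp [refl2, uni, Matrix.mul_apply, Fin.sum_univ_two, hy]; ring)
  have hF' := hF.congr ((Sim.refl A).blocks (sim_refl2 h2 y))
    ((Sim.refl A).blocks (sim_uni (neg_ne_zero.2 (one_ne_zero (α := F)))))
  have fQ : Fac (comp Q) (uni (1 : F)) (refl2 (0 : F)) := by
    refine Fac.sim (sim_two hQ hQd (uni 1 * refl2 b) ?_ ?_ ?_)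
      ⟨uni 1, refl2 b, Sim.refl _, sim_refl2 h2 b, ?_⟩
    · simp [refl2, uni, Matrix.mul_apply, Fin.sum_univ_two]
    · rw [hQ0, det_mul]; simp [refl2, uni, Matrix.det_fin_two]
    · rw [Matrix.trace_fin_two]; simp [refl2, uni, Matrix.mul_apply, Fin.sum_univ_two, hb]
    · rw [mul_assoc, show refl2 b * refl2 b = 1 from by
        ext i j; fin_cases i <;> fin_cases j <;> simp [refl2, Matrix.mul_apply, Fin.sum_univ_two], mul_one]
  have H := fQ.blocks hF'
  refine Com.sim ((Sim.refl _).blocks (cm_singleton φ)) (Com.of_fac H ?_ ?_ fun δ _ => ?_)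
  · exact ((sim_left_comm _ _ _).trans ((Sim.refl A).blocks (sim_blocks_comm _ _))).trans (sim_left_comm _ _ _)
  · rw [det_fromBlocks_zero₁₂, det_fromBlocks_zero₁₂, hA]; simp [refl2, uni, Matrix.det_fin_two]
  · exact exists_z_blocks (by simp [refl2]) _ δ

/-- In characteristic two, a block `(X - 1)²` next to a bigger one. -/
theorem com_var_two (h2 : (2 : F) = 0) {J φ : F[X]} (hJ : J.Monic) (hJd : J.natDegree = 2) (hJ0 : J.coeff 0 = 1)
    (hJ1 : J.coeff 1 = 0) (hφ : φ.Monic) {k : ℕ} (hk : 3 ≤ k) (hd : φ.natDegree = k + 2) (h0 : φ.coeff 0 = 1)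
    (h1 : φ.coeff (k + 1) = (k : F)) : Com (CM [J, φ]) := by
  have hn : (-1 : F) = 1 := by linear_combination -h2
  have hU : uni (1 : F) * uni 1 = 1 := by
    ext i j; fin_cases i <;> fin_cases j <;> simp [uni, Matrix.mul_apply, Fin.sum_univ_two, one_add_one_eq_two, h2]
  obtain ⟨A, hA, hF⟩ := fac_border_two hφ hk hd (s := (1 : F)) (s' := 1) (t := 1) (t' := 1) (d := 1) 1 (uni 1)
    1 (uni 1) (one_mul 1) hU one_ne_zero one_ne_zero one_ne_zero (Or.inl rfl) (Or.inl rfl)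
    (by rw [Matrix.charpoly_one]; simp [sq]) (charpoly_uni _) (by simp [uni])
    (by rw [h0, one_mul, hn]; simp [uni, Matrix.det_fin_two])
    (by rw [h1, one_mul, Matrix.trace_fin_two]; simp [uni]; linear_combination ((k : F) + 1) * h2)
  have fJ : Fac (comp J) (uni (1 : F)) (1 : Matrix (Fin 2) (Fin 2) F) := by
    refine Fac.sim (sim_two hJ hJd (uni 1) (by simp [uni]) ?_ ?_) ⟨uni 1, 1, Sim.refl _, Sim.refl _, mul_one _⟩
    · simp [hJ0, uni, Matrix.det_fin_two]
    · rw [Matrix.trace_fin_two]; simp [uni, hJ1, one_add_one_eq_two, h2]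
  have H := fJ.blocks hF
  refine Com.sim ((Sim.refl _).blocks (cm_singleton φ)) (Com.of_fac H ?_ ?_ fun δ _ => ?_)
  · exact ((sim_left_comm _ _ _).trans ((Sim.refl A).blocks (sim_blocks_comm _ _))).trans (sim_left_comm _ _ _)
  · rw [det_fromBlocks_zero₁₂, det_fromBlocks_zero₁₂, hA]; simp [uni, Matrix.det_fin_two]
  · exact exists_z_blocks (by simp) _ δ

end CfsgLib.GLClass.CommSL
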