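import Cfsg.Agent.Lib.GLClass.CommMono
import Cfsg.Agent.Lib.GLClass.CommSpecial

/-!
Every matrix of determinant one over a finite field is a commutator of such matrices,
apart from the two small exceptions.
-/

set_option autoImplicit false

namespace CfsgLib.GLClass.CommSL

open Polynomial Matrix Module

variable {F : Type*} [Field F]

/-- A block: a power of an irreducible polynomial, of nonzero determinant. -/
def PP (φ : F[X]) : Prop :=
  GoodB φ ∧ ∃ (P : F[X]) (e : ℕ), P.Monic ∧ Irreducible P ∧ 0 < e ∧ φ = P ^ e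

theorem coprime_or_same {φ ψ : F[X]} (hφ : PP φ) (hψ : PP ψ) :
    IsCoprime φ ψ ∨ ∃ (P : F[X]) (a b : ℕ), P.Monic ∧ Irreducible P ∧ 0 < a ∧ 0 < b ∧ φ = P ^ a ∧ ψ = P ^ b := by
  obtain ⟨-, P, a, hP, hPi, ha, rfl⟩ := hφ
  obtain ⟨-, R, b, hR, hRi, hb, rfl⟩ := hψ
  by_cases h : P = R
  · subst h; exact Or.inr ⟨P, a, b, hP, hPi, ha, hb, rfl, rfl⟩
  · refine Or.inl (IsCoprime.pow ?_)
    rw [hPi.coprime_iff_not_dvd]
    exact fun hd => h (eq_of_monic_of_associated hP hR (hPi.associated_of_dvd hRi hd))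

theorem coprime_or_eq {φ ψ : F[X]} (hφ : PP φ) (hψ : PP ψ) (hd : φ.natDegree = ψ.natDegree) :
    IsCoprime φ ψ ∨ φ = ψ := by
  rcases coprime_or_same hφ hψ with h | ⟨P, a, b, hP, hPi, ha, hb, rfl, rfl⟩
  · exact Or.inl h
  · rw [hP.natDegree_pow, hP.natDegree_pow] at hd
    exact Or.inr (by rw [Nat.eq_of_mul_eq_mul_right hPi.natDegree_pos hd])

theorem dd_eq_coeff_two {φ : F[X]} (h : φ.Monic) (h2 : φ.natDegree = 2) : dd φ = φ.coeff 0 := by
  rw [dd, det_comp h, h2]; ring

theorem dd_eq_coeff_one {φ : F[X]} (h : φ.Monic) (h1 : φ.natDegree = 1) : dd φ = -φ.coeff 0 := by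
  rw [dd, det_comp h, h1]; ring

theorem card_idx : ∀ l : List F[X], Fintype.card (Idx l) = (l.map natDegree).sum
  | [] => by rfl
  | φ :: l => by
    show Fintype.card (Fin φ.natDegree ⊕ Idx l) = _
    rw [Fintype.card_sum, Fintype.card_fin, card_idx l, List.map_cons, List.sum_cons]

theorem Sim.card_eq {ι κ : Type*} [Fintype ι] [DecidableEq ι] [Fintype κ] [DecidableEq κ] {g : Matrix ι ι F}
    {h : Matrix κ κ F} (H : Sim g h) : Fintype.card ι = Fintype.card κ := by
  obtain ⟨U, V, h1, h2, -⟩ := H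
  let e : (ι → F) ≃ₗ[F] (κ → F) := LinearEquiv.ofLinear (Matrix.toLin' V) (Matrix.toLin' U)
    (by rw [← Matrix.toLin'_mul, h2, Matrix.toLin'_one]) (by rw [← Matrix.toLin'_mul, h1, Matrix.toLin'_one])
  have := e.finrank_eq
  rw [Module.finrank_pi, Module.finrank_pi] at this
  exact this

theorem comm1_of_all : ∀ l : List F[X], (∀ φ ∈ l, Comm1 (comp φ)) → Comm1 (CM l)
  | [], _ => comm1_nil
  | φ :: l, h => (h φ List.mem_cons_self).blocks (comm1_of_all l fun ψ hψ => h ψ (List.mem_cons_of_mem _ hψ))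

theorem eq_map_lin (l : List F[X]) (h : ∀ φ ∈ l, φ.Monic ∧ φ.natDegree = 1) : l = (l.map dd).map lin := by
  rw [List.map_map]
  conv_lhs => rw [← List.map_id l]
  exact List.map_congr_left fun φ hφ => eq_X_sub_C (h φ hφ).1 (h φ hφ).2

variable [Fintype F]

theorem com_of_merge {φ ψ : F[X]} {l : List F[X]} (hφ : GoodB φ) (hψ : GoodB ψ) (hco : IsCoprime φ ψ)
    (h3 : 3 ≤ φ.natDegree + ψ.natDegree) (hl : ∀ x ∈ l, dd x ≠ 0 ∧ Semi x) (hp : ((φ :: ψ :: l).map dd).prod = 1) :
    Com (CM (φ :: ψ :: l)) := by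
  refine Com.sim (cm_merge hφ.1 hψ.1 hco l) (com_big (hφ.mul hψ) ?_ l hl ?_)
  · rwa [hφ.1.natDegree_mul hψ.1]
  · rw [← hp]; simp [dd_mul hφ.1 hψ.1, mul_assoc]

/-- At least four scalars. -/
theorem comm1_large (hq : 4 ≤ Fintype.card F) (l : List F[X]) (hl : ∀ φ ∈ l, PP φ) (hp : (l.map dd).prod = 1) :
    Comm1 (CM l) := by
  classical
  have hsemi : ∀ φ : F[X], GoodB φ → dd φ ≠ 0 ∧ Semi φ := fun φ h => ⟨h.2.1, semi_of h (Or.inr (Or.inl hq))⟩
  -- a big block
  by_cases hbig : ∃ φ ∈ l, 3 ≤ φ.natDegree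
  · obtain ⟨φ, hφ, h3⟩ := hbig
    have hperm := List.perm_cons_erase hφ
    exact Comm1.of_perm hperm (com_big (hl φ hφ).1 h3 _ (fun ψ hψ => hsemi ψ (hl ψ (List.mem_of_mem_erase hψ)).1)
      (by rw [← (hperm.map dd).prod_eq]; exact hp)).comm1
  push Not at hbig
  by_cases h2 : ∃ φ ∈ l, φ.natDegree = 2
  · obtain ⟨φ, hφ, hφ2⟩ := h2
    have hperm := List.perm_cons_erase hφ
    by_cases hco : ∃ ψ ∈ l.erase φ, IsCoprime φ ψ
    · obtain ⟨ψ, hψ, hco⟩ := hco
      have hperm' := hperm.trans ((List.perm_cons_erase hψ).cons φ)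
      have hψg := (hl ψ (List.mem_of_mem_erase hψ)).1
      refine Comm1.of_perm hperm' (com_of_merge (hl φ hφ).1 hψg hco (by have := hψg.2.2; omega)
        (fun x hx => hsemi x (hl x (List.mem_of_mem_erase (List.mem_of_mem_erase hx))).1) ?_).comm1
      rw [← (hperm'.map dd).prod_eq]; exact hp
    push Not at hco
    obtain ⟨P, a, hP, hPi, ha, hφP⟩ := (hl φ hφ).2
    have hall : ∀ ψ ∈ l, ∃ b, 0 < b ∧ ψ = P ^ b := by
      intro ψ hψ
      rcases List.mem_cons.1 (hperm.mem_iff.1 hψ) with rfl | hψ'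
      · exact ⟨a, ha, hφP⟩
      rcases coprime_or_same (hl φ hφ) (hl ψ hψ) with h | ⟨R, a', b, hR, hRi, ha', hb, hφR, hψR⟩
      · exact absurd h (hco ψ hψ')
      · refine ⟨b, hb, ?_⟩
        have hd : P ∣ R ^ a' := by rw [← hφR, hφP]; exact dvd_pow_self P ha.ne'
        rw [hψR, eq_of_monic_of_associated hP hR (hPi.associated_of_dvd hRi (hPi.prime.dvd_of_dvd_pow hd))]
    have hPd : P.natDegree = 1 ∨ P.natDegree = 2 := by
      rw [hφP, hP.natDegree_pow] at hφ2
      have := hPi.natDegree_pos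
      have : P.natDegree ≤ 2 := by nlinarith
      omega
    rcases hPd with hP1 | hP2
    · set c := dd P with hc
      have hdd : ∀ ψ ∈ l, dd ψ = c ^ ψ.natDegree := by
        intro ψ hψ
        obtain ⟨b, -, rfl⟩ := hall ψ hψ
        have hd := hbig _ hψ
        rw [hP.natDegree_pow, hP1, mul_one] at hd ⊢
        rcases (show b = 0 ∨ b = 1 ∨ b = 2 by omega) with rfl | rfl | rfl
        · exact absurd (hl _ hψ).1.2.2 (by simp)
        · simp [hc]
        · rw [sq, dd_mul hP hP, sq]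
      have hc0 : c ≠ 0 := fun h => (hl φ hφ).1.2.1 (by rw [hdd φ hφ, h, zero_pow (by omega)])
      by_cases hc2 : c ^ 2 = 1
      · have hl2 : ∀ ψ ∈ l, ψ.natDegree = 2 → dd ψ = 1 := fun ψ hψ h => by rw [hdd ψ hψ, h, hc2]
        set p : F[X] → Bool := fun ψ => decide (ψ.natDegree = 2)
        have hperm2 : l.Perm (l.filter p ++ l.filter (fun ψ => !p ψ)) := (List.filter_append_perm p l).symm
        refine Comm1.of_perm hperm2 (Comm1.append (comm1_of_all _ fun ψ hψ => ?_) ?_)
        · obtain ⟨hm, hd⟩ := List.mem_filter.1 hψ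
          exact (com_quad_one (hl ψ hm).1 (by simpa [p] using hd) (hl2 ψ hm (by simpa [p] using hd)) hq).comm1
        · have h1 : ∀ ψ ∈ l.filter (fun ψ => !p ψ), ψ.Monic ∧ ψ.natDegree = 1 := fun ψ hψ => by
            obtain ⟨hm, hd⟩ := List.mem_filter.1 hψ
            have := hbig ψ hm
            have := (hl ψ hm).1.2.2
            have : ψ.natDegree ≠ 2 := by simpa [p] using hd
            exact ⟨(hl ψ hm).1.1, by omega⟩
          have hp1 : ((l.filter (fun ψ => !p ψ)).map dd).prod = 1 := by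
            rw [(hperm2.map dd).prod_eq, List.map_append, List.prod_append, List.prod_eq_one (l := (l.filter p).map dd),
              one_mul] at hp
            · exact hp
            · intro x hx
              obtain ⟨ψ, hψ, rfl⟩ := List.mem_map.1 hx
              exact hl2 ψ (List.mem_filter.1 hψ).1 (by simpa [p] using (List.mem_filter.1 hψ).2)
          rw [eq_map_lin _ h1]
          refine comm1_two_values _ hc0 hc0 (fun x hx => ?_) hp1
          obtain ⟨ψ, hψ, rfl⟩ := List.mem_map.1 hx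
          rw [hdd ψ (List.mem_filter.1 hψ).1, (h1 ψ hψ).2, pow_one]; simp
      · refine Comm1.of_perm hperm (com_two hc0 hc2 φ _ ⟨(hl φ hφ).1, hφ2, hdd φ hφ⟩ (fun ψ hψ => ?_) ?_).comm1
        · have hm := List.mem_of_mem_erase hψ
          exact ⟨(hl ψ hm).1, by have := hbig ψ hm; omega, hdd ψ hm⟩
        · rw [← (hperm.map natDegree).sum_eq, ← hp]
          have key : ∀ m : List F[X], (∀ ψ ∈ m, dd ψ = c ^ ψ.natDegree) →
              c ^ (m.map natDegree).sum = (m.map dd).prod := by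
            intro m
            induction m with
            | nil => simp
            | cons x m ih =>
              intro h
              rw [List.map_cons, List.sum_cons, pow_add, List.map_cons, List.prod_cons,
                ih (fun ψ hψ => h ψ (List.mem_cons_of_mem _ hψ)), h x List.mem_cons_self]
          exact key l hdd
    · have heq : ∀ ψ ∈ l, ψ = P := by
        intro ψ hψ
        obtain ⟨b, hb, rfl⟩ := hall ψ hψ
        have hd := hbig _ hψ
        rw [hP.natDegree_pow, hP2] at hd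
        rw [show b = 1 by omega, pow_one]
      have hdd : ∀ ψ ∈ l, GoodB ψ ∧ ψ.natDegree = 2 ∧ dd ψ = dd P := fun ψ hψ =>
        ⟨(hl ψ hψ).1, by rw [heq ψ hψ, hP2], by rw [heq ψ hψ]⟩
      have hPg : GoodB P := heq φ hφ ▸ (hl φ hφ).1
      have hN : dd P ^ l.length = 1 := by
        rw [← hp, List.eq_replicate_iff.2 ⟨rfl, heq⟩]; simp
      by_cases h1 : dd P = 1
      · exact comm1_of_all _ fun ψ hψ => (com_quad_one (hdd ψ hψ).1 (hdd ψ hψ).2.1 ((hdd ψ hψ).2.2.trans h1) hq).comm1
      by_cases hm : dd P = -1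
      · have heven : Even l.length := by
          rw [hm] at hN h1
          rcases Nat.even_or_odd l.length with h | h
          · exact h
          · rw [h.neg_one_pow] at hN; exact absurd hN h1
        obtain ⟨u, hu⟩ := heven
        have key : ∀ v : ℕ, Comm1 (CM (List.replicate (v + v) P)) := by
          intro v
          induction v with
          | zero => exact comm1_nil
          | succ v ih =>
            rw [show v + 1 + (v + 1) = 2 + (v + v) by omega, List.replicate_add]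
            exact Comm1.append (com_quad_pair hPg hP2 hm hPg hP2 hm hq).comm1 ih
        rw [List.eq_replicate_iff.2 ⟨rfl, heq⟩, hu]
        exact key u
      · refine (com_quad hPg.2.1 (fun h => ?_) l (fun h => by simp [h] at hφ) hdd hN).comm1
        rcases sq_eq_one_iff.1 h with h | h
        · exact h1 h
        · exact hm h
  -- all blocks linear
  push Not at h2
  have h1 : ∀ ψ ∈ l, ψ.Monic ∧ ψ.natDegree = 1 := fun ψ hψ => by
    have := hbig ψ hψ; have := h2 ψ hψ; have := (hl ψ hψ).1.2.2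
    exact ⟨(hl ψ hψ).1.1, by omega⟩
  rcases l with - | ⟨φ, t⟩
  · exact comm1_nil
  set a := dd φ with haf
  by_cases hc : ∀ ψ ∈ t, dd ψ = a
  · rw [eq_map_lin _ h1]
    refine comm1_two_values _ (c := a) (a := a) (hl φ List.mem_cons_self).1.2.1 (hl φ List.mem_cons_self).1.2.1
      (fun x hx => ?_) hp
    obtain ⟨ψ, hψ, rfl⟩ := List.mem_map.1 hx
    rcases List.mem_cons.1 hψ with rfl | hψ
    · exact Or.inl rfl
    · exact Or.inl (hc ψ hψ)
  push Not at hc
  obtain ⟨ψ, hψ, hψa⟩ := hc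
  by_cases hthree : ∀ χ ∈ t, dd χ = a ∨ dd χ = dd ψ
  · rw [eq_map_lin _ h1]
    refine comm1_two_values _ (c := dd ψ) (a := a) (hl ψ (List.mem_cons_of_mem _ hψ)).1.2.1
      (hl φ List.mem_cons_self).1.2.1 (fun x hx => ?_) hp
    obtain ⟨χ, hχ, rfl⟩ := List.mem_map.1 hx
    rcases List.mem_cons.1 hχ with rfl | hχ
    · exact Or.inl rfl
    · exact hthree χ hχ
  push Not at hthree
  obtain ⟨χ, hχ, hχa, hχψ⟩ := hthree
  have hχ' : χ ∈ t.erase ψ := (List.mem_erase_of_ne (fun h => hχψ (by rw [h]))).2 hχ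
  have hperm : (φ :: t).Perm (φ :: ψ :: χ :: (t.erase ψ).erase χ) :=
    ((List.perm_cons_erase hψ).trans ((List.perm_cons_erase hχ').cons ψ)).cons φ
  have hφg := (hl φ List.mem_cons_self).1
  have hψm := List.mem_cons_of_mem φ hψ
  have hχm := List.mem_cons_of_mem φ hχ
  have hφl := eq_X_sub_C hφg.1 (h1 φ List.mem_cons_self).2
  have hψl := eq_X_sub_C (hl ψ hψm).1.1 (h1 ψ hψm).2
  have hχl := eq_X_sub_C (hl χ hχm).1.1 (h1 χ hχm).2
  have co : ∀ x y : F, x ≠ y → IsCoprime (X - Polynomial.C x) (X - Polynomial.C y) := fun x y h =>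
    isCoprime_X_sub_C_of_isUnit_sub (sub_ne_zero.2 h).isUnit
  have hco : IsCoprime φ ψ := by rw [hφl, hψl]; exact co _ _ (Ne.symm hψa)
  have hco' : IsCoprime (φ * ψ) χ := by
    rw [hφl, hψl, hχl]; exact (co _ _ (Ne.symm hχa)).mul_left (co _ _ (Ne.symm hχψ))
  refine Comm1.of_perm hperm (Com.sim (cm_merge hφg.1 (hl ψ hψm).1.1 hco _)
    (com_of_merge (hφg.mul (hl ψ hψm).1) (hl χ hχm).1 hco' ?_ (fun x hx => hsemi x
      (hl x (List.mem_cons_of_mem _ (List.mem_of_mem_erase (List.mem_of_mem_erase hx)))).1) ?_)).comm1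
  · rw [hφg.1.natDegree_mul (hl ψ hψm).1.1]
    have := hφg.2.2; have := (hl ψ hψm).1.2.2; have := (hl χ hχm).1.2.2
    omega
  · rw [(hperm.map dd).prod_eq] at hp
    rw [← hp]; simp [dd_mul hφg.1 (hl ψ hψm).1.1, mul_assoc]

/-! ### Three scalars -/

theorem three_facts (hq : Fintype.card F = 3) :
    (3 : F) = 0 ∧ (2 : F) ≠ 0 ∧ ∀ x : F, x ≠ 0 → x = 1 ∨ x = -1 := by
  haveI : Fact (Nat.Prime 3) := ⟨Nat.prime_three⟩
  haveI : CharP F 3 := charP_of_card_eq_prime hq
  refine ⟨by exact_mod_cast CharP.cast_eq_zero F 3, fun h => ?_, fun x hx => ?_⟩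
  · have h' : ((2 : ℕ) : F) = 0 := by exact_mod_cast h
    have := Nat.le_of_dvd (by norm_num) ((CharP.cast_eq_zero_iff F 3 2).1 h')
    omega
  · have h := FiniteField.pow_card_sub_one_eq_one x hx
    rw [hq] at h
    exact sq_eq_one_iff.1 h

theorem not_x_sq_sub_one (h2 : (2 : F) ≠ 0) {φ : F[X]} (hφ : PP φ) (hd : φ.natDegree = 2) (h0 : φ.coeff 0 = -1) :
    φ.coeff 1 ≠ 0 := by
  intro h1
  obtain ⟨⟨hm, -, -⟩, P, e, hP, hPi, he, rfl⟩ := hφ
  have hf : P ^ e = (X - Polynomial.C 1) * (X - Polynomial.C (-1)) := by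
    refine Polynomial.ext fun i => ?_
    rw [show (X - Polynomial.C 1) * (X - Polynomial.C (-1)) = (X : F[X]) ^ 2 - 1 by
      rw [map_neg, map_one]; ring]
    rw [coeff_sub, coeff_X_pow, coeff_one]
    rcases i with - | - | - | i
    · simp [h0]
    · simp [h1]
    · rw [show (0 : ℕ) + 1 + 1 = (P ^ e).natDegree from hd.symm, hm.coeff_natDegree]; simp [hd]
    · rw [coeff_eq_zero_of_natDegree_lt (by omega)]; simp
  have ha : ∀ c : F, (X - Polynomial.C c) ∣ P ^ e → X - Polynomial.C c = P := fun c hc =>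
    eq_of_monic_of_associated (monic_X_sub_C c) hP
      ((irreducible_X_sub_C c).associated_of_dvd hPi ((prime_X_sub_C c).dvd_of_dvd_pow hc))
  have := (ha 1 (hf ▸ dvd_mul_right _ _)).trans (ha (-1) (hf ▸ dvd_mul_left _ _)).symm
  refine h2 ?_
  have := congrArg (fun p => coeff p 0) this
  simp at this
  linear_combination -this

/-- Two blocks of determinant minus one. -/
theorem com_pair_three (hq : Fintype.card F = 3) {φ ψ : F[X]} (hφ : PP φ) (hψ : PP ψ) (hd : dd φ = -1)
    (hd' : dd ψ = -1) : Com (CM [φ, ψ]) := by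
  obtain ⟨h3, h2, hval⟩ := three_facts hq
  obtain ⟨f, hf⟩ := exists_primeField Nat.prime_three hq
  have hn : (2 : F) = -1 := by linear_combination h3
  have hsemi : ∀ x : F[X], GoodB x → x.natDegree ≠ 2 → dd x ≠ 0 ∧ Semi x := fun x h h' =>
    ⟨h.2.1, semi_of h (Or.inl h')⟩
  have hp : ∀ a b : F[X], dd a = -1 → dd b = -1 → ([a, b].map dd).prod = 1 := fun a b ha hb => by simp [ha, hb]
  -- the first one quadratic
  have main : ∀ a b : F[X], PP a → PP b → dd a = -1 → dd b = -1 → a.natDegree = 2 → Com (CM [a, b]) := by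
    intro a b ha hb hda hdb h2a
    have hge := hb.1.2.2
    have ha0 : a.coeff 0 = -1 := (dd_eq_coeff_two ha.1.1 h2a).symm.trans hda
    rcases coprime_or_same ha hb with hco | ⟨P, i, j, hP, hPi, hi, hj, hai, hbj⟩
    · exact com_of_merge ha.1 hb.1 hco (by omega) (fun x hx => absurd hx List.not_mem_nil) (hp a b hda hdb)
    rcases Nat.lt_or_ge b.natDegree 5 with hlt | hge5
    · -- then both blocks are the same quadratic
      have hi1 : i = 1 := by
        rw [hai, hP.natDegree_pow] at h2a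
        have := hPi.natDegree_pos
        have hi2 : i ≤ 2 := by nlinarith
        rcases (show i = 1 ∨ i = 2 by omega) with h | h
        · exact h
        · exfalso
          rw [hai, h, sq, dd_mul hP hP] at hda
          rcases hval (dd P) (fun h0 => by rw [h0] at hda; simp at hda) with h' | h' <;> rw [h'] at hda <;>
            exact h2 (by linear_combination hda)
      subst hi1
      rw [pow_one] at hai
      subst hai
      have hj1 : j = 1 := by
        rw [hbj, hP.natDegree_pow, h2a] at hlt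
        rcases (show j = 1 ∨ j = 2 by omega) with h | h
        · exact h
        · exfalso
          rw [hbj, h, sq, dd_mul hP hP, hda] at hdb
          exact h2 (by linear_combination hdb)
      subst hj1
      rw [pow_one] at hbj
      subst hbj
      have f2 : f 2 = -1 := by rw [map_ofNat]; exact hn
      rcases hval _ (not_x_sq_sub_one h2 ha h2a ha0) with h1 | h1
      · have hs := sim_lit f h2a (![2, 1] : Fin 2 → ZMod 3) fun i => by
          fin_cases i <;> simp [ha0, h1, f2, map_one]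
        refine Com.sim ((Sim.refl _).blocks (cm_singleton b)) (Com.sim (hs.blocks hs) ?_)
        have := witness_QQp hf
        rwa [map_blocks] at this
      · have hs := sim_lit f h2a (![2, 2] : Fin 2 → ZMod 3) fun i => by
          fin_cases i <;> simp [ha0, h1, f2]
        refine Com.sim ((Sim.refl _).blocks (cm_singleton b)) (Com.sim (hs.blocks hs) ?_)
        have := witness_QQm hf
        rwa [map_blocks] at this
    · obtain ⟨k, hk⟩ : ∃ k, b.natDegree = k + 2 := ⟨b.natDegree - 2, by omega⟩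
      refine com_var_three h2 ha.1.1 h2a ha0 hb.1.1 (show 3 ≤ k by omega) hk ?_
      rw [dd, det_comp hb.1.1, hk, pow_add, neg_one_sq, mul_one] at hdb
      have hh : ((-1 : F) ^ k) * (-1) ^ k = 1 := by rw [← mul_pow, neg_one_mul, neg_neg, one_pow]
      linear_combination (-1 : F) ^ k * hdb - b.coeff 0 * hh
  by_cases h2φ : φ.natDegree = 2
  · exact main φ ψ hφ hψ hd hd' h2φ
  by_cases h2ψ : ψ.natDegree = 2
  · exact (main ψ φ hψ hφ hd' hd h2ψ).of_perm (List.Perm.swap ψ φ [])
  by_cases hbφ : 3 ≤ φ.natDegree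
  · exact com_big hφ.1 hbφ [ψ] (fun x hx => List.mem_singleton.1 hx ▸ hsemi ψ hψ.1 h2ψ) (hp φ ψ hd hd')
  by_cases hbψ : 3 ≤ ψ.natDegree
  · exact (com_big hψ.1 hbψ [φ] (fun x hx => List.mem_singleton.1 hx ▸ hsemi φ hφ.1 h2φ) (hp ψ φ hd' hd)).of_perm
      (List.Perm.swap ψ φ [])
  have e1 : φ.natDegree = 1 := by have := hφ.1.2.2; omega
  have e2 : ψ.natDegree = 1 := by have := hψ.1.2.2; omega
  have hl : ∀ a : F[X], a.Monic → a.natDegree = 1 → dd a = -1 → Sim (comp a) ((lit (![1] : Fin 1 → ZMod 3)).map f) :=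
    fun a ha h1 hda => sim_lit f h1 _ fun i => by
      fin_cases i
      rw [dd_eq_coeff_one ha h1, neg_inj] at hda
      simp [hda]
  refine Com.sim ((Sim.refl _).blocks (cm_singleton ψ)) (Com.sim ((hl φ hφ.1.1 e1 hd).blocks (hl ψ hψ.1.1 e2 hd')) ?_)
  have := witness_M2 hf
  rwa [map_blocks] at this

theorem com_single {φ : F[X]} (h : GoodB φ) (h2 : φ.natDegree ≠ 2) (hd : dd φ = 1) : Com (CM [φ]) := by
  by_cases h3 : 3 ≤ φ.natDegree
  · exact com_big h h3 [] (fun x hx => absurd hx List.not_mem_nil) (by simp [hd])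
  · have h1 := ch_one h (show φ.natDegree = 1 by have := h.2.2; omega) (one_ne_zero (α := F))
    rw [hd, div_one] at h1
    exact h1.com.single

/-- Lists without `(X ± 1)²`. -/
theorem three_noJ (hq : Fintype.card F = 3) : ∀ (n : ℕ) (l : List F[X]), l.length ≤ n → (∀ φ ∈ l, PP φ) →
    (∀ φ ∈ l, φ.natDegree = 2 → dd φ = 1 → φ.coeff 1 = 0) → (l.map dd).prod = 1 →
    Comm1 (CM l) ∧ (Com (CM l) ∨ ∀ φ ∈ l, φ.natDegree = 2 ∧ dd φ = 1) := by
  intro n
  induction n with
  | zero =>
    intro l hn _ _ _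
    rw [Nat.le_zero, List.length_eq_zero_iff] at hn
    subst hn
    exact ⟨comm1_nil, Or.inr fun φ hφ => absurd hφ List.not_mem_nil⟩
  | succ n ih =>
    intro l hn hl hJ hp
    classical
    obtain ⟨h3, h2, hval⟩ := three_facts hq
    rcases l with - | ⟨φ, t⟩
    · exact ⟨comm1_nil, Or.inr fun φ hφ => absurd hφ List.not_mem_nil⟩
    rw [List.length_cons] at hn
    have hφ := hl φ List.mem_cons_self
    rw [List.map_cons, List.prod_cons] at hp
    rcases hval _ hφ.1.2.1 with hd | hd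
    · rw [hd, one_mul] at hp
      obtain ⟨hc, hc'⟩ := ih t (by omega) (fun x hx => hl x (List.mem_cons_of_mem _ hx))
        (fun x hx => hJ x (List.mem_cons_of_mem _ hx)) hp
      by_cases hd2 : φ.natDegree = 2
      · have hW : Comm1 (comp φ) := by
          obtain ⟨f, -⟩ := exists_primeField Nat.prime_three hq
          refine Comm1.sim (sim_lit f hd2 (![1, 0] : Fin 2 → ZMod 3) fun i => ?_) (witness_I f)
          have h0 := dd_eq_coeff_two hφ.1.1 hd2
          fin_cases i <;> simp [← h0, hd, hJ φ List.mem_cons_self hd2 hd]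
        refine ⟨hW.blocks hc, hc'.imp (fun h => Com.blocks' hW.loop h) fun h x hx => ?_⟩
        rcases List.mem_cons.1 hx with rfl | hx
        · exact ⟨hd2, hd⟩
        · exact h x hx
      · have h := Com.append (com_single hφ.1 hd2 hd) hc.loop
        exact ⟨h.comm1, Or.inl h⟩
    · obtain ⟨ψ, hψ, hψd⟩ : ∃ ψ ∈ t, dd ψ = -1 := by
        by_contra hno
        push Not at hno
        rw [hd, List.prod_eq_one (l := t.map dd) fun x hx => ?_] at hp
        · exact h2 (by linear_combination -hp)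
        · obtain ⟨y, hy, rfl⟩ := List.mem_map.1 hx
          exact (hval _ (hl y (List.mem_cons_of_mem _ hy)).1.2.1).resolve_right (hno y hy)
      have hperm : (φ :: t).Perm ([φ, ψ] ++ t.erase ψ) := (List.perm_cons_erase hψ).cons φ
      have hlen := List.length_erase_of_mem hψ
      have hmem : ∀ x ∈ t.erase ψ, x ∈ φ :: t := fun x hx => List.mem_cons_of_mem _ (List.mem_of_mem_erase hx)
      obtain ⟨hc, -⟩ := ih (t.erase ψ) (by omega) (fun x hx => hl x (hmem x hx)) (fun x hx => hJ x (hmem x hx)) (by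
        rw [((List.perm_cons_erase hψ).map dd).prod_eq, List.map_cons, List.prod_cons, hd, hψd] at hp
        linear_combination hp)
      have h := (Com.append (com_pair_three hq hφ (hl ψ (List.mem_cons_of_mem _ hψ)) hd hψd) hc.loop).of_perm hperm
      exact ⟨h.comm1, Or.inl h⟩

theorem com_jlist_three (hq : Fintype.card F = 3) : ∀ (n : ℕ) (l : List F[X]), l.length ≤ n → 2 ≤ l.length →
    (∀ φ ∈ l, PP φ ∧ φ.natDegree = 2 ∧ dd φ = 1 ∧ φ.coeff 1 ≠ 0) → Com (CM l) := by
  obtain ⟨h3, h2, hval⟩ := three_facts hq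
  have hpair : ∀ a b : F[X], (PP a ∧ a.natDegree = 2 ∧ dd a = 1 ∧ a.coeff 1 ≠ 0) →
      (PP b ∧ b.natDegree = 2 ∧ dd b = 1 ∧ b.coeff 1 ≠ 0) → Com (CM [a, b]) := by
    rintro a b ⟨ha, ha2, had, ha1⟩ ⟨hb, hb2, hbd, -⟩
    rcases coprime_or_eq ha hb (ha2.trans hb2.symm) with hco | heq
    · exact com_of_merge ha.1 hb.1 hco (by omega) (fun x hx => absurd hx List.not_mem_nil) (by simp [had, hbd])
    · subst heq
      have h0 : a.coeff 0 = 1 := (dd_eq_coeff_two ha.1.1 ha2).symm.trans had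
      have h1 : a.coeff 1 = -(a.coeff 1 + a.coeff 1) := by linear_combination a.coeff 1 * h3
      refine com_jpair (σ := a.coeff 1) ?_ ha.1.1 ha2 h0 h1 ha.1.1 ha2 h0 h1
      rcases hval _ ha1 with h | h <;> simp [h]
  intro n
  induction n with
  | zero => intro l hn h2l; omega
  | succ n ih =>
    intro l hn h2l hl
    rcases l with - | ⟨a, - | ⟨b, t⟩⟩
    · simp at h2l
    · simp at h2l
    have ha := hl a List.mem_cons_self
    have hb := hl b (List.mem_cons_of_mem _ List.mem_cons_self)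
    rcases t with - | ⟨c, - | ⟨d, u⟩⟩
    · exact hpair a b ha hb
    · refine Com.blocks' ?_ (hpair b c hb (hl c (by simp)))
      refine loop_j h3 (hval _ ha.2.2.2) ha.1.1.1 ha.2.1 ((dd_eq_coeff_two ha.1.1.1 ha.2.1).symm.trans ha.2.2.1) ?_
      linear_combination a.coeff 1 * h3
    · refine (Com.append (l := [a, b]) (m := c :: d :: u) (hpair a b ha hb) (ih _ ?_ (by simp) fun x hx => hl x ?_).loop)
      · simp only [List.length_cons] at hn ⊢; omega
      · exact List.mem_cons_of_mem _ (List.mem_cons_of_mem _ hx)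

/-- Three scalars. -/
theorem comm1_three (hq : Fintype.card F = 3) (l : List F[X]) (hl : ∀ φ ∈ l, PP φ) (hp : (l.map dd).prod = 1)
    (hn : 3 ≤ (l.map natDegree).sum) : Comm1 (CM l) := by
  classical
  obtain ⟨h3, h2, hval⟩ := three_facts hq
  let p : F[X] → Bool := fun φ => decide (φ.natDegree = 2 ∧ dd φ = 1 ∧ φ.coeff 1 ≠ 0)
  have hperm : l.Perm (l.filter p ++ l.filter (fun ψ => !p ψ)) := (List.filter_append_perm p l).symm
  set J := l.filter p with hJdef
  set R := l.filter (fun ψ => !p ψ) with hRdef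
  have hJ : ∀ φ ∈ J, PP φ ∧ φ.natDegree = 2 ∧ dd φ = 1 ∧ φ.coeff 1 ≠ 0 := fun φ hφ =>
    ⟨hl φ (List.mem_filter.1 hφ).1, by simpa [p] using (List.mem_filter.1 hφ).2⟩
  have hR : ∀ φ ∈ R, φ.natDegree = 2 → dd φ = 1 → φ.coeff 1 = 0 := fun φ hφ a b => by
    have := (List.mem_filter.1 hφ).2
    simpa [p, a, b] using this
  have hpJ : (J.map dd).prod = 1 := List.prod_eq_one fun x hx => by
    obtain ⟨y, hy, rfl⟩ := List.mem_map.1 hx
    exact (hJ y hy).2.2.1
  rw [(hperm.map dd).prod_eq, List.map_append, List.prod_append, hpJ, one_mul] at hp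
  obtain ⟨hc, hc'⟩ := three_noJ hq R.length R le_rfl (fun φ hφ => hl φ (List.mem_filter.1 hφ).1) hR hp
  refine Comm1.of_perm hperm ?_
  clear_value J R
  rcases J with - | ⟨a, - | ⟨b, t⟩⟩
  · exact hc
  · obtain ⟨ha, ha2, had, ha1⟩ := hJ a List.mem_cons_self
    rcases hc' with hcom | hall
    · refine (Com.blocks' ?_ hcom).comm1
      refine loop_j h3 (hval _ ha1) ha.1.1 ha2 ((dd_eq_coeff_two ha.1.1 ha2).symm.trans had) ?_
      linear_combination a.coeff 1 * h3
    · rw [(hperm.map natDegree).sum_eq] at hn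
      rcases R with - | ⟨b, t⟩
      · simp [ha2] at hn
      obtain ⟨hb2, hbd⟩ := hall b List.mem_cons_self
      have hbm : PP b := hl b (List.mem_filter.1 (hRdef ▸ List.mem_cons_self)).1
      rcases coprime_or_eq ha hbm (ha2.trans hb2.symm) with hco | heq
      · refine (com_of_merge ha.1 hbm.1 hco (by omega) (fun x hx => ?_) (by simp [had] at hp ⊢; exact hp)).comm1
        have hx' := hall x (List.mem_cons_of_mem _ hx)
        have hxm : PP x := hl x (List.mem_filter.1 (hRdef ▸ List.mem_cons_of_mem _ hx)).1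
        exact ⟨hxm.1.2.1, semi_of hxm.1 (Or.inr (Or.inr ⟨hx'.2, hq.ge⟩))⟩
      · exact absurd (hR b List.mem_cons_self hb2 hbd) (heq ▸ ha1)
  · exact (Com.append (com_jlist_three hq _ _ le_rfl (by simp) hJ) hc.loop).comm1

/-! ### Two scalars -/

theorem two_facts (hq : Fintype.card F = 2) : (2 : F) = 0 ∧ ∀ x : F, x ≠ 0 → x = 1 := by
  haveI : Fact (Nat.Prime 2) := ⟨Nat.prime_two⟩
  haveI : CharP F 2 := charP_of_card_eq_prime hq
  refine ⟨by exact_mod_cast CharP.cast_eq_zero F 2, fun x hx => ?_⟩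
  have h := FiniteField.pow_card_sub_one_eq_one x hx
  rwa [hq, pow_one] at h

/-- Two scalars. -/
theorem comm1_two (hq : Fintype.card F = 2) (l : List F[X]) (hl : ∀ φ ∈ l, PP φ)
    (hn : 3 ≤ (l.map natDegree).sum) : Comm1 (CM l) := by
  classical
  obtain ⟨h2, hval⟩ := two_facts hq
  obtain ⟨f, -⟩ := exists_primeField Nat.prime_two hq
  have hone : ∀ φ : F[X], PP φ → dd φ = 1 := fun φ h => hval _ h.1.2.1
  have hc0 : ∀ φ : F[X], PP φ → φ.coeff 0 = 1 := fun φ h => by
    refine hval _ fun h0 => h.1.2.1 ?_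
    rw [dd, det_comp h.1.1, h0, mul_zero]
  have hsingle : ∀ φ : F[X], PP φ → (φ.natDegree = 2 → φ.coeff 1 ≠ 0) → Comm1 (CM [φ]) := fun φ h h1 => by
    by_cases hd : φ.natDegree = 2
    · refine Comm1.sim (cm_singleton φ) (Comm1.sim (sim_lit f hd (![1, 1] : Fin 2 → ZMod 2) fun i => ?_) (witness_W f))
      fin_cases i <;> simp [hc0 φ h, hval _ (h1 hd)]
    · exact (com_single h.1 hd (hone φ h)).comm1
  let p : F[X] → Bool := fun φ => decide (φ.natDegree = 2 ∧ φ.coeff 1 = 0)
  have hperm : l.Perm (l.filter p ++ l.filter (fun ψ => !p ψ)) := (List.filter_append_perm p l).symm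
  set J := l.filter p with hJdef
  set R := l.filter (fun ψ => !p ψ) with hRdef
  have hJ : ∀ φ ∈ J, PP φ ∧ φ.natDegree = 2 ∧ φ.coeff 1 = 0 := fun φ hφ =>
    ⟨hl φ (List.mem_filter.1 hφ).1, by simpa [p] using (List.mem_filter.1 hφ).2⟩
  have hR : ∀ φ ∈ R, PP φ ∧ (φ.natDegree = 2 → φ.coeff 1 ≠ 0) := fun φ hφ => by
    refine ⟨hl φ (List.mem_filter.1 hφ).1, fun a => ?_⟩
    have := (List.mem_filter.1 hφ).2
    simpa [p, a] using this
  have hall : ∀ m : List F[X], (∀ φ ∈ m, PP φ ∧ (φ.natDegree = 2 → φ.coeff 1 ≠ 0)) → Comm1 (CM m) := by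
    intro m
    induction m with
    | nil => exact fun _ => comm1_nil
    | cons a m ih =>
      exact fun h => Comm1.append (l := [a]) (hsingle a (h a List.mem_cons_self).1 (h a List.mem_cons_self).2)
        (ih fun x hx => h x (List.mem_cons_of_mem _ hx))
  have hsJ : ∀ φ : F[X], PP φ ∧ φ.natDegree = 2 ∧ φ.coeff 1 = 0 →
      Sim (comp φ) ((lit (![1, 0] : Fin 2 → ZMod 2)).map f) := fun φ h => sim_lit f h.2.1 _ fun i => by
    fin_cases i <;> simp [hc0 φ h.1, h.2.2]
  have hpairs : ∀ (n : ℕ) (m : List F[X]), m.length ≤ n → 2 ≤ m.length →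
      (∀ φ ∈ m, PP φ ∧ φ.natDegree = 2 ∧ φ.coeff 1 = 0) → Comm1 (CM m) := by
    have hpair : ∀ a b : F[X], (PP a ∧ a.natDegree = 2 ∧ a.coeff 1 = 0) → (PP b ∧ b.natDegree = 2 ∧ b.coeff 1 = 0) →
        Comm1 (CM [a, b]) := fun a b ha hb => (com_jpair (σ := (1 : F)) (one_mul 1) ha.1.1.1 ha.2.1 (hc0 a ha.1)
          (by rw [ha.2.2]; linear_combination h2) hb.1.1.1 hb.2.1 (hc0 b hb.1) (by rw [hb.2.2]; linear_combination h2)).comm1
    intro n
    induction n with
    | zero => intro m hm h2m; omega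
    | succ n ih =>
      intro m hm h2m hmem
      rcases m with - | ⟨a, - | ⟨b, t⟩⟩
      · simp at h2m
      · simp at h2m
      have ha := hmem a List.mem_cons_self
      have hb := hmem b (List.mem_cons_of_mem _ List.mem_cons_self)
      rcases t with - | ⟨c, - | ⟨d, u⟩⟩
      · exact hpair a b ha hb
      · refine Comm1.sim ((hsJ a ha).blocks ((hsJ b hb).blocks
          ((cm_singleton c).trans (hsJ c (hmem c (by simp)))))) ?_
        have := witness_P222 f
        rwa [map_blocks, map_blocks] at this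
      · refine Comm1.append (l := [a, b]) (m := c :: d :: u) (hpair a b ha hb) (ih _ ?_ (by simp) fun x hx => hmem x ?_)
        · simp only [List.length_cons] at hm ⊢; omega
        · exact List.mem_cons_of_mem _ (List.mem_cons_of_mem _ hx)
  refine Comm1.of_perm hperm ?_
  clear_value J R
  rcases J with - | ⟨a, - | ⟨b, t⟩⟩
  · exact hall R hR
  · obtain ⟨ha, ha2, ha1⟩ := hJ a List.mem_cons_self
    rw [(hperm.map natDegree).sum_eq] at hn
    rcases R with - | ⟨b, t⟩
    · simp [ha2] at hn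
    obtain ⟨hb, hb1⟩ := hR b List.mem_cons_self
    refine Comm1.append (l := [a, b]) (m := t) ?_ (hall t fun x hx => hR x (List.mem_cons_of_mem _ hx))
    rcases coprime_or_same ha hb with hco | ⟨P, i, j, hP, hPi, hi, hj, hai, hbj⟩
    · exact (com_of_merge ha.1 hb.1 hco (by have := hb.1.2.2; omega) (fun x hx => absurd hx List.not_mem_nil)
        (by simp [hone a ha, hone b hb])).comm1
    have hsq : a = (X + 1) * (X + 1) := by
      refine Polynomial.ext fun i => ?_
      have h2' : (2 : F[X]) = 0 := by rw [← map_ofNat (Polynomial.C (R := F)) 2, h2, map_zero]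
      rw [show ((X : F[X]) + 1) * (X + 1) = X ^ 2 + 1 by linear_combination (X : F[X]) * h2', coeff_add, coeff_X_pow,
        coeff_one]
      rcases i with - | - | - | i
      · simp [hc0 a ha]
      · simp [ha1]
      · rw [show (0 : ℕ) + 1 + 1 = a.natDegree from ha2.symm, ha.1.1.coeff_natDegree]; simp [ha2]
      · rw [coeff_eq_zero_of_natDegree_lt (by omega)]; simp
    have hx1 : (X : F[X]) + 1 = X - Polynomial.C (-1) := by rw [map_neg, map_one, sub_neg_eq_add]
    have hPX : P = X + 1 := by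
      have hd : X - Polynomial.C (-1) ∣ P ^ i := by rw [← hai, ← hx1, hsq]; exact dvd_mul_right _ _
      rw [hx1]
      exact (eq_of_monic_of_associated (monic_X_sub_C _) hP
        ((irreducible_X_sub_C _).associated_of_dvd hPi ((prime_X_sub_C _).dvd_of_dvd_pow hd))).symm
    subst hPX
    have hbd : b.natDegree = j := by
      rw [hbj, show (X : F[X]) + 1 = X + Polynomial.C 1 by rw [map_one], (monic_X_add_C (1 : F)).natDegree_pow, natDegree_X_add_C, mul_one]
    have hbc : ∀ i, b.coeff i = (j.choose i : F) := fun i => by rw [hbj, coeff_X_add_one_pow]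
    rcases (show j = 1 ∨ j = 2 ∨ j = 3 ∨ j = 4 ∨ 5 ≤ j by omega) with rfl | rfl | rfl | rfl | h5
    · refine Comm1.sim ((hsJ a ⟨ha, ha2, ha1⟩).blocks
        ((cm_singleton b).trans (sim_lit f hbd (![1] : Fin 1 → ZMod 2) fun i => ?_))) ?_
      · fin_cases i; simp [hbc]
      · have := witness_T21 f
        rwa [map_blocks] at this
    · exact absurd (by rw [hbc]; simpa using h2) (hb1 hbd)
    · refine Comm1.sim ((hsJ a ⟨ha, ha2, ha1⟩).blocks
        ((cm_singleton b).trans (sim_lit f hbd (![1, 1, 1] : Fin 3 → ZMod 2) fun i => ?_))) ?_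
      · fin_cases i <;> simp [hbc, Nat.choose] <;> linear_combination h2
      · have := witness_P23 f
        rwa [map_blocks] at this
    · refine Comm1.sim ((hsJ a ⟨ha, ha2, ha1⟩).blocks
        ((cm_singleton b).trans (sim_lit f hbd (![1, 0, 0, 0] : Fin 4 → ZMod 2) fun i => ?_))) ?_
      · fin_cases i <;> simp [hbc, Nat.choose]
        · linear_combination 2 * h2
        · linear_combination 3 * h2
        · linear_combination 2 * h2
      · have := witness_P24 f
        rwa [map_blocks] at this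
    · obtain ⟨k, hk⟩ : ∃ k, j = k + 2 := ⟨j - 2, by omega⟩
      refine (com_var_two h2 ha.1.1 ha2 (hc0 a ha) ha1 hb.1.1 (show 3 ≤ k by omega) (hbd.trans hk) (hc0 b hb) ?_).comm1
      rw [hbc, hk, show (k + 2).choose (k + 1) = k + 2 from Nat.choose_succ_self_right (k + 1)]
      push_cast
      linear_combination h2
  · exact Comm1.append (hpairs _ _ le_rfl (by simp) hJ) (hall R hR)

/-- Every matrix of determinant one is a commutator. -/
theorem comm1_of_det {ι : Type*} [Fintype ι] [DecidableEq ι] (A : Matrix ι ι F) (hA : A.det = 1)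
    (hex : 4 ≤ Fintype.card F ∨ 3 ≤ Fintype.card ι) : Comm1 A := by
  obtain ⟨l, hl, hs⟩ := exists_cm A
  have hp : (l.map dd).prod = 1 := by rw [← prod_dd_cm, ← hs.det_eq, hA]
  have hpp : ∀ φ ∈ l, PP φ := fun φ hφ => by
    obtain ⟨P, e, hP, hPi, he, rfl⟩ := hl φ hφ
    refine ⟨⟨hP.pow e, fun h0 => ?_, ?_⟩, P, e, hP, hPi, he, rfl⟩
    · rw [List.prod_eq_zero (List.mem_map.2 ⟨_, hφ, h0⟩)] at hp
      exact zero_ne_one hp
    · rw [hP.natDegree_pow]
      exact Nat.one_le_iff_ne_zero.2 (Nat.mul_ne_zero he.ne' hPi.natDegree_pos.ne')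
  refine Comm1.sim hs ?_
  have h1 : 1 < Fintype.card F := Fintype.one_lt_card
  rcases (show Fintype.card F = 2 ∨ Fintype.card F = 3 ∨ 4 ≤ Fintype.card F by omega) with hq | hq | hq
  · refine comm1_two hq l hpp ?_
    rw [← card_idx, ← hs.card_eq]; omega
  · refine comm1_three hq l hpp hp ?_
    rw [← card_idx, ← hs.card_eq]; omega
  · exact comm1_large hq l hpp hp

end CfsgLib.GLClass.CommSL
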