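import Mathlib
import Cfsg.Agent.Lib.GLClass.Matrix
import Cfsg.Agent.Lib.GLClass.Charpoly

/-!
Similarity of square matrices on different index types, cyclic matrices, block lists, commutators.
-/

set_option autoImplicit false

namespace CfsgLib.GLClass.CommSL

open Polynomial Matrix Module

variable {F : Type*} [Field F] {ι κ μ ν : Type*} [Fintype ι] [DecidableEq ι] [Fintype κ] [DecidableEq κ]
  [Fintype μ] [DecidableEq μ] [Fintype ν] [DecidableEq ν]

/-- Similarity across index types. -/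
def Sim (g : Matrix ι ι F) (h : Matrix κ κ F) : Prop :=
  ∃ (U : Matrix ι κ F) (V : Matrix κ ι F), U * V = 1 ∧ V * U = 1 ∧ g = U * h * V

theorem Sim.refl (g : Matrix ι ι F) : Sim g g := ⟨1, 1, mul_one 1, mul_one 1, by simp⟩

theorem Sim.symm {g : Matrix ι ι F} {h : Matrix κ κ F} (H : Sim g h) : Sim h g := by
  obtain ⟨U, V, h1, h2, rfl⟩ := H
  exact ⟨V, U, h2, h1, by rw [← Matrix.mul_assoc, ← Matrix.mul_assoc, h2, Matrix.one_mul, Matrix.mul_assoc, h2, Matrix.mul_one]⟩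

theorem Sim.trans {g : Matrix ι ι F} {h : Matrix κ κ F} {k : Matrix μ μ F} (H : Sim g h) (K : Sim h k) : Sim g k := by
  obtain ⟨U, V, h1, h2, rfl⟩ := H
  obtain ⟨U', V', k1, k2, rfl⟩ := K
  refine ⟨U * U', V' * V, ?_, ?_, by simp only [Matrix.mul_assoc]⟩
  · rw [Matrix.mul_assoc, ← Matrix.mul_assoc U', k1, Matrix.one_mul, h1]
  · rw [Matrix.mul_assoc, ← Matrix.mul_assoc V, h2, Matrix.one_mul, k2]

theorem Sim.det_eq {g : Matrix ι ι F} {h : Matrix κ κ F} (H : Sim g h) : g.det = h.det := by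
  obtain ⟨U, V, h1, h2, rfl⟩ := H
  exact Matrix.det_conj_of_mul_eq_one h1 h2

theorem Sim.aeval {U : Matrix ι κ F} {V : Matrix κ ι F} (h1 : U * V = 1) (h2 : V * U = 1) (h : Matrix κ κ F) (p : F[X]) :
    aeval (U * h * V) p = U * Polynomial.aeval h p * V := by
  induction p using Polynomial.induction_on with
  | C a => simp [Algebra.algebraMap_eq_smul_one, h1]
  | add p q hp hq => simp [hp, hq, Matrix.mul_add, Matrix.add_mul]
  | monomial k a ih =>
    rw [pow_succ, ← mul_assoc, map_mul (Polynomial.aeval (U * h * V)), map_mul (Polynomial.aeval h) (C a * X ^ k),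
      aeval_X, aeval_X, ih]
    simp only [Matrix.mul_assoc]
    rw [← Matrix.mul_assoc V U, h2, Matrix.one_mul]

theorem sim_reindex (e : κ ≃ ι) (h : Matrix κ κ F) : Sim (Matrix.reindex e e h) h := by
  refine ⟨(1 : Matrix κ κ F).submatrix e.symm id, (1 : Matrix κ κ F).submatrix id e.symm, ?_, ?_, ?_⟩
  · ext i j; simp [Matrix.mul_apply, Matrix.one_apply, e.symm.injective.eq_iff]
  · rw [Matrix.submatrix_mul_equiv, Matrix.mul_one]; simp
  · ext i j; simp [Matrix.mul_apply, Matrix.one_apply]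

theorem sim_of_isConj {g h : Matrix ι ι F} (H : IsConj g h) : Sim g h := by
  obtain ⟨c, hc⟩ := H
  exact ⟨(c⁻¹ : (Matrix ι ι F)ˣ).1, c.1, Units.inv_mul c, Units.mul_inv c, by
    rw [mul_assoc, ← hc.eq, ← mul_assoc, Units.inv_mul, one_mul]⟩

theorem isConj_of_sim {g h : Matrix ι ι F} (H : Sim g h) : IsConj g h := by
  obtain ⟨U, V, h1, h2, rfl⟩ := H
  exact IsConj.symm ⟨⟨U, V, h1, h2⟩, show U * h = (U * h * V) * U by rw [mul_assoc, h2, mul_one]⟩

theorem sim_of_equiv {g : Matrix ι ι F} {h : Matrix κ κ F} (e : (κ → F) ≃ₗ[F] (ι → F))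
    (he : ∀ v, g *ᵥ e v = e (h *ᵥ v)) : Sim g h := by
  refine ⟨LinearMap.toMatrix' e.toLinearMap, LinearMap.toMatrix' e.symm.toLinearMap, ?_, ?_, ?_⟩
  · rw [← LinearMap.toMatrix'_comp, LinearEquiv.comp_symm, LinearMap.toMatrix'_id]
  · rw [← LinearMap.toMatrix'_comp, LinearEquiv.symm_comp, LinearMap.toMatrix'_id]
  · refine Matrix.ext_iff_mulVec.2 fun v => ?_
    rw [← Matrix.mulVec_mulVec, ← Matrix.mulVec_mulVec, LinearMap.toMatrix'_mulVec, LinearMap.toMatrix'_mulVec]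
    show g *ᵥ v = e (h *ᵥ e.symm v)
    rw [← he, e.apply_symm_apply]

theorem Sim.blocks {g : Matrix ι ι F} {g' : Matrix κ κ F} {h : Matrix μ μ F} {h' : Matrix ν ν F}
    (H : Sim g g') (K : Sim h h') : Sim (fromBlocks g 0 0 h) (fromBlocks g' 0 0 h') := by
  obtain ⟨U, V, h1, h2, rfl⟩ := H
  obtain ⟨U', V', k1, k2, rfl⟩ := K
  refine ⟨fromBlocks U 0 0 U', fromBlocks V 0 0 V', ?_, ?_, ?_⟩ <;> simp [fromBlocks_multiply, h1, h2, k1, k2, fromBlocks_one]

theorem sim_blocks_comm (g : Matrix ι ι F) (h : Matrix κ κ F) : Sim (fromBlocks g 0 0 h) (fromBlocks h 0 0 g) := by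
  refine ⟨fromBlocks 0 1 1 0, fromBlocks 0 1 1 0, ?_, ?_, ?_⟩ <;> simp [fromBlocks_multiply, fromBlocks_one]

theorem sim_blocks_assoc (g : Matrix ι ι F) (h : Matrix κ κ F) (k : Matrix μ μ F) :
    Sim (fromBlocks (fromBlocks g 0 0 h) 0 0 k) (fromBlocks g 0 0 (fromBlocks h 0 0 k)) := by
  have e : Matrix.reindex (Equiv.sumAssoc ι κ μ) (Equiv.sumAssoc ι κ μ) (fromBlocks (fromBlocks g 0 0 h) 0 0 k) =
      fromBlocks g 0 0 (fromBlocks h 0 0 k) := by
    ext (i | i | i) (j | j | j) <;> rfl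
  exact e ▸ (sim_reindex _ _).symm

theorem sim_blocks_empty [IsEmpty κ] (g : Matrix ι ι F) (h : Matrix κ κ F) : Sim (fromBlocks g 0 0 h) g := by
  have e : Matrix.reindex (Equiv.sumEmpty ι κ) (Equiv.sumEmpty ι κ) (fromBlocks g 0 0 h) = g := by
    ext i j; rfl
  exact e ▸ (sim_reindex (Equiv.sumEmpty ι κ) (fromBlocks g 0 0 h)).symm

/-- `g` is a commutator of matrices of determinant one. -/
def Comm1 (g : Matrix ι ι F) : Prop := ∃ a b : Matrix ι ι F, a.det = 1 ∧ b.det = 1 ∧ g * b * a = a * b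

theorem Comm1.sim {g : Matrix ι ι F} {h : Matrix κ κ F} (H : Sim g h) (K : Comm1 h) : Comm1 g := by
  obtain ⟨U, V, h1, h2, rfl⟩ := H
  obtain ⟨a, b, ha, hb, hab⟩ := K
  refine ⟨U * a * V, U * b * V, ?_, ?_, ?_⟩
  · rw [Matrix.det_conj_of_mul_eq_one h1 h2, ha]
  · rw [Matrix.det_conj_of_mul_eq_one h1 h2, hb]
  · calc U * h * V * (U * b * V) * (U * a * V) = U * (h * (V * U) * b * (V * U) * a) * V := by simp only [Matrix.mul_assoc]
      _ = U * (a * (V * U) * b) * V := by rw [h2]; simp only [Matrix.mul_one, hab]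
      _ = U * a * V * (U * b * V) := by simp only [Matrix.mul_assoc]

theorem Comm1.blocks {g : Matrix ι ι F} {h : Matrix κ κ F} (H : Comm1 g) (K : Comm1 h) : Comm1 (fromBlocks g 0 0 h) := by
  obtain ⟨a, b, ha, hb, hab⟩ := H
  obtain ⟨a', b', ha', hb', hab'⟩ := K
  refine ⟨fromBlocks a 0 0 a', fromBlocks b 0 0 b', ?_, ?_, ?_⟩
  · rw [det_fromBlocks_zero₁₂, ha, ha', one_mul]
  · rw [det_fromBlocks_zero₁₂, hb, hb', one_mul]
  · simp [fromBlocks_multiply, hab, hab']

theorem comm1_one : Comm1 (1 : Matrix ι ι F) := ⟨1, 1, det_one, det_one, by simp⟩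

/-- `M` is cyclic with characteristic polynomial `φ`. -/
def Cyc (φ : F[X]) (M : Matrix ι ι F) : Prop :=
  φ.Monic ∧ φ.natDegree = Fintype.card ι ∧ ∃ v : ι → F, ∀ p : F[X], aeval M p *ᵥ v = 0 ↔ φ ∣ p

theorem cyc_of_indep {φ : F[X]} (hφ : φ.Monic) (hd : φ.natDegree = Fintype.card ι) {M : Matrix ι ι F} {v : ι → F}
    (h0 : aeval M φ *ᵥ v = 0) (h : ∀ p : F[X], p.natDegree < φ.natDegree → aeval M p *ᵥ v = 0 → p = 0) : Cyc φ M := by
  refine ⟨hφ, hd, v, fun p => ⟨fun hp => ?_, ?_⟩⟩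
  · rcases Nat.eq_zero_or_pos φ.natDegree with h1 | h1
    · rw [eq_one_of_monic_natDegree_zero hφ h1]; exact one_dvd p
    refine (modByMonic_eq_zero_iff_dvd hφ).1 (h _ (natDegree_modByMonic_lt _ hφ fun he => by simp [he] at h1) ?_)
    conv_lhs at hp => rw [← modByMonic_add_div p φ, map_add, mul_comm φ, map_mul, Matrix.add_mulVec,
      ← Matrix.mulVec_mulVec, h0, Matrix.mulVec_zero, add_zero]
    exact hp
  · rintro ⟨c, rfl⟩
    rw [mul_comm, map_mul, ← Matrix.mulVec_mulVec, h0, Matrix.mulVec_zero]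

theorem Cyc.of_sim {φ : F[X]} {M : Matrix ι ι F} {N : Matrix κ κ F} (H : Sim M N) (hN : Cyc φ N) : Cyc φ M := by
  obtain ⟨hφ, hd, v, hv⟩ := hN
  obtain ⟨U, V, h1, h2, rfl⟩ := H
  refine ⟨hφ, ?_, U *ᵥ v, fun p => ?_⟩
  · let e : (ι → F) ≃ₗ[F] (κ → F) := LinearEquiv.ofLinear (Matrix.toLin' V) (Matrix.toLin' U)
      (by rw [← Matrix.toLin'_mul, h2, Matrix.toLin'_one]) (by rw [← Matrix.toLin'_mul, h1, Matrix.toLin'_one])
    have := e.finrank_eq
    rw [Module.finrank_pi, Module.finrank_pi] at this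
    omega
  · rw [Sim.aeval h1 h2, Matrix.mulVec_mulVec, Matrix.mul_assoc (U * _), h2, Matrix.mul_one, ← Matrix.mulVec_mulVec, ← hv]
    refine ⟨fun h => ?_, fun h => by rw [h, Matrix.mulVec_zero]⟩
    have := congrArg (V *ᵥ ·) h
    simpa only [Matrix.mulVec_mulVec, h2, Matrix.one_mulVec, Matrix.mulVec_zero, ← Matrix.mul_assoc, Matrix.one_mul] using this

/-- The companion matrix. -/
def comp (φ : F[X]) : Matrix (Fin φ.natDegree) (Fin φ.natDegree) F :=
  Matrix.of fun i j => if (j : ℕ) + 1 = φ.natDegree then -φ.coeff i else if (i : ℕ) = j + 1 then 1 else 0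

theorem comp_eq_leftMul {φ : F[X]} (hφ : φ.Monic) :
    comp φ = Algebra.leftMulMatrix (AdjoinRoot.powerBasis hφ.ne_zero).basis (AdjoinRoot.root φ) := by
  have h := PowerBasis.leftMulMatrix (AdjoinRoot.powerBasis hφ.ne_zero)
  rw [PowerBasis.minpolyGen_eq, AdjoinRoot.powerBasis_gen, AdjoinRoot.minpoly_root hφ.ne_zero, hφ.leadingCoeff,
    inv_one, map_one, mul_one] at h
  rw [h]
  rfl

theorem aeval_leftMul_repr {R : Type*} [CommRing R] [Algebra F R] {ρ : Type*} [Fintype ρ] [DecidableEq ρ]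
    (b : Basis ρ F R) (x : R) (p : F[X]) (y : R) :
    aeval (Algebra.leftMulMatrix b x) p *ᵥ b.equivFun y = b.equivFun (aeval x p * y) := by
  rw [Polynomial.aeval_algHom_apply]
  exact Algebra.leftMulMatrix_mulVec_repr b (aeval x p) y

theorem cyc_comp {φ : F[X]} (hφ : φ.Monic) : Cyc φ (comp φ) := by
  refine ⟨hφ, (Fintype.card_fin _).symm, (AdjoinRoot.powerBasis hφ.ne_zero).basis.equivFun 1, fun p => ?_⟩
  rw [comp_eq_leftMul hφ]
  have h1 := aeval_leftMul_repr (AdjoinRoot.powerBasis hφ.ne_zero).basis (AdjoinRoot.root φ) p 1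
  rw [mul_one, AdjoinRoot.aeval_eq] at h1
  refine (iff_of_eq (congrArg (· = 0) h1)).trans ?_
  rw [LinearEquiv.map_eq_zero_iff, AdjoinRoot.mk_eq_zero]

theorem sim_comp {ρ : Type*} [Fintype ρ] [DecidableEq ρ] {M : Matrix ρ ρ F} {φ : F[X]} (hφ : φ.Monic)
    (hd : φ.natDegree = Fintype.card ρ) (v : ρ → F) (hv : ∀ p : F[X], aeval M p *ᵥ v = 0 ↔ φ ∣ p) :
    Sim M (comp φ) := by
  classical
  let b := (AdjoinRoot.powerBasis hφ.ne_zero).basis
  let ev : F[X] →ₗ[F] (ρ → F) :=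
    (LinearMap.applyₗ v).comp ((Matrix.toLinAlgEquiv' : Matrix ρ ρ F ≃ₐ[F] _).toLinearMap.comp (aeval M).toLinearMap)
  have hev : ∀ p, ev p = aeval M p *ᵥ v := fun p => rfl
  let f : AdjoinRoot φ →ₗ[F] (ρ → F) :=
    { toFun := fun x => Quotient.liftOn' x ev fun p r h => by
        have h' : φ ∣ p - r := Ideal.mem_span_singleton.1 ((Submodule.quotientRel_def _).1 h)
        rw [← sub_eq_zero, ← map_sub, hev, hv]
        exact h'
      map_add' := fun x y => by
        induction x using Quotient.inductionOn' with | h p => ?_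
        induction y using Quotient.inductionOn' with | h r => ?_
        exact map_add ev p r
      map_smul' := fun c x => by
        induction x using Quotient.inductionOn' with | h p => ?_
        exact map_smul ev c p }
  have hf : ∀ p, f (AdjoinRoot.mk φ p) = aeval M p *ᵥ v := fun p => rfl
  have hinj : Function.Injective f := by
    refine (injective_iff_map_eq_zero f).2 fun x hx => ?_
    obtain ⟨p, rfl⟩ := AdjoinRoot.mk_surjective x
    rw [hf, hv] at hx
    exact AdjoinRoot.mk_eq_zero.2 hx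
  haveI : Module.Finite F (AdjoinRoot φ) := hφ.finite_adjoinRoot
  let f' := f.linearEquivOfInjective hinj (by
    rw [(AdjoinRoot.powerBasis hφ.ne_zero).finrank, AdjoinRoot.powerBasis_dim, Module.finrank_pi, hd])
  refine sim_of_equiv (b.equivFun.symm.trans f') fun x => ?_
  obtain ⟨y, rfl⟩ := b.equivFun.surjective x
  rw [comp_eq_leftMul hφ]
  have h1 : Algebra.leftMulMatrix b (AdjoinRoot.root φ) *ᵥ b.equivFun y = b.equivFun (AdjoinRoot.root φ * y) :=
    Algebra.leftMulMatrix_mulVec_repr b _ y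
  have h2 : ∀ z, (b.equivFun.symm.trans f') (b.equivFun z) = f z := fun z =>
    congrArg f' (b.equivFun.symm_apply_apply z)
  refine Eq.trans ?_ (congrArg (b.equivFun.symm.trans f') h1).symm
  refine (congrArg (M *ᵥ ·) (h2 _)).trans (Eq.trans ?_ (h2 _).symm)
  obtain ⟨p, rfl⟩ := AdjoinRoot.mk_surjective y
  show M *ᵥ f (AdjoinRoot.mk φ p) = f (AdjoinRoot.root φ * AdjoinRoot.mk φ p)
  rw [← AdjoinRoot.mk_X, ← map_mul, hf, hf, map_mul, aeval_X, Matrix.mulVec_mulVec]

theorem Cyc.sim {φ : F[X]} {M : Matrix ι ι F} {N : Matrix κ κ F} (hM : Cyc φ M) (hN : Cyc φ N) : Sim M N := by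
  obtain ⟨hφ, hd, v, hv⟩ := hM
  obtain ⟨-, hd', w, hw⟩ := hN
  exact (sim_comp hφ hd v hv).trans (sim_comp hφ hd' w hw).symm

theorem cyc_blocks {φ ψ : F[X]} (hco : IsCoprime φ ψ) {M : Matrix ι ι F} {N : Matrix κ κ F} (hM : Cyc φ M)
    (hN : Cyc ψ N) : Cyc (φ * ψ) (fromBlocks M 0 0 N) := by
  obtain ⟨hφ, hd, v, hv⟩ := hM
  obtain ⟨hψ, hd', w, hw⟩ := hN
  refine ⟨hφ.mul hψ, by rw [hφ.natDegree_mul hψ, hd, hd', Fintype.card_sum], Sum.elim v w, fun p => ?_⟩
  have h : aeval (fromBlocks M 0 0 N) p = fromBlocks (aeval M p) 0 0 (aeval N p) := by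
    induction p using Polynomial.induction_on with
    | C a => simp [Algebra.algebraMap_eq_smul_one, ← fromBlocks_one, fromBlocks_smul]
    | add p q hp hq => simp [hp, hq, fromBlocks_add]
    | monomial k a ih => rw [pow_succ, ← mul_assoc, map_mul (aeval (fromBlocks M 0 0 N)), map_mul (aeval M) (C a * X ^ k),
        map_mul (aeval N) (C a * X ^ k), aeval_X, aeval_X, aeval_X, ih, fromBlocks_multiply]; simp
  rw [h, fromBlocks_mulVec]
  refine ⟨fun he => hco.mul_dvd ((hv p).1 ?_) ((hw p).1 ?_), fun hd => ?_⟩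
  · exact funext fun i => by simpa using congrFun he (Sum.inl i)
  · exact funext fun i => by simpa using congrFun he (Sum.inr i)
  · have e1 := (hv p).2 ((dvd_mul_right φ ψ).trans hd)
    have e2 := (hw p).2 ((dvd_mul_left ψ φ).trans hd)
    simp only [Sum.elim_comp_inl, Sum.elim_comp_inr, Matrix.zero_mulVec, add_zero, zero_add, e1, e2]
    funext x; cases x <;> rfl

/-- Index type of a list of blocks. -/
def Idx : List F[X] → Type
  | [] => Fin 0
  | φ :: l => Fin φ.natDegree ⊕ Idx l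

instance idxFintype : ∀ l : List F[X], Fintype (Idx l)
  | [] => inferInstanceAs (Fintype (Fin 0))
  | φ :: l => @instFintypeSum _ _ _ (idxFintype l)

instance idxDecEq : ∀ l : List F[X], DecidableEq (Idx l)
  | [] => inferInstanceAs (DecidableEq (Fin 0))
  | φ :: l => @instDecidableEqSum _ _ _ (idxDecEq l)

/-- Block diagonal companion matrices. -/
def CM : ∀ l : List F[X], Matrix (Idx l) (Idx l) F
  | [] => fun i => i.elim0
  | φ :: l => fromBlocks (comp φ) 0 0 (CM l)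

theorem cm_cons (φ : F[X]) (l : List F[X]) : Sim (CM (φ :: l)) (fromBlocks (comp φ) 0 0 (CM l)) := Sim.refl _

theorem cm_nil_right (g : Matrix ι ι F) : Sim (fromBlocks g 0 0 (CM ([] : List F[X]))) g := by
  haveI : IsEmpty (Idx ([] : List F[X])) := inferInstanceAs (IsEmpty (Fin 0))
  exact sim_blocks_empty g _

theorem cm_singleton (φ : F[X]) : Sim (CM [φ]) (comp φ) := cm_nil_right _

theorem cm_append : ∀ l m : List F[X], Sim (CM (l ++ m)) (fromBlocks (CM l) 0 0 (CM m))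
  | [], m => by
    haveI : IsEmpty (Idx ([] : List F[X])) := inferInstanceAs (IsEmpty (Fin 0))
    exact ((sim_blocks_comm _ _).trans (sim_blocks_empty _ _)).symm
  | φ :: l, m => ((Sim.refl _).blocks (cm_append l m)).trans (sim_blocks_assoc _ _ _).symm

theorem cm_perm {l m : List F[X]} (h : l.Perm m) : Sim (CM l) (CM m) := by
  induction h with
  | nil => exact Sim.refl _
  | cons x _ ih => exact (Sim.refl _).blocks ih
  | swap x y l =>
    exact ((sim_blocks_assoc _ _ _).symm.trans ((sim_blocks_comm _ _).blocks (Sim.refl _))).trans (sim_blocks_assoc _ _ _)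
  | trans _ _ ih1 ih2 => exact ih1.trans ih2

theorem Comm1.append {l m : List F[X]} (hl : Comm1 (CM l)) (hm : Comm1 (CM m)) : Comm1 (CM (l ++ m)) :=
  (hl.blocks hm).sim (cm_append l m)

theorem cm_merge {φ ψ : F[X]} (hφ : φ.Monic) (hψ : ψ.Monic) (hco : IsCoprime φ ψ) (l : List F[X]) :
    Sim (CM (φ :: ψ :: l)) (CM ((φ * ψ) :: l)) :=
  (sim_blocks_assoc _ _ _).symm.trans
    (((cyc_blocks hco (cyc_comp hφ) (cyc_comp hψ)).sim (cyc_comp (hφ.mul hψ))).blocks (Sim.refl _))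

theorem det_comp {φ : F[X]} (hφ : φ.Monic) : (comp φ).det = (-1) ^ φ.natDegree * φ.coeff 0 := by
  have h := Algebra.PowerBasis.norm_gen_eq_coeff_zero_minpoly (AdjoinRoot.powerBasis hφ.ne_zero)
  rw [AdjoinRoot.powerBasis_gen, AdjoinRoot.powerBasis_dim, AdjoinRoot.minpoly_root hφ.ne_zero, hφ.leadingCoeff,
    inv_one, map_one, mul_one, Algebra.norm_eq_matrix_det (AdjoinRoot.powerBasis hφ.ne_zero).basis] at h
  rw [← h, comp_eq_leftMul hφ]
  rfl

theorem det_cm : ∀ l : List F[X], (CM l).det = (l.map fun φ => (comp φ).det).prod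
  | [] => by
    haveI : IsEmpty (Idx ([] : List F[X])) := inferInstanceAs (IsEmpty (Fin 0))
    simp
  | φ :: l => by
    rw [List.map_cons, List.prod_cons, ← det_cm l]
    exact det_fromBlocks_zero₁₂ _ _ _

theorem exists_equiv_ofFn : ∀ (n : ℕ) (φ : Fin n → F[X]), (∀ i, (φ i).Monic) →
    ∃ l, l = List.ofFn φ ∧ ∃ e : (Idx l → F) ≃ₗ[F] (∀ i, AdjoinRoot (φ i)),
      ∀ v i, e (CM l *ᵥ v) i = AdjoinRoot.root (φ i) * e v i := by
  intro n
  induction n with
  | zero =>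
    intro φ _
    haveI : IsEmpty (Idx ([] : List F[X])) := inferInstanceAs (IsEmpty (Fin 0))
    exact ⟨[], by simp, LinearEquiv.ofLinear 0 0 (LinearMap.ext fun _ => funext fun i => i.elim0)
      (LinearMap.ext fun _ => funext fun i => isEmptyElim i), fun _ i => i.elim0⟩
  | succ n ih =>
    intro φ hφ
    obtain ⟨l, hl, e, he⟩ := ih (fun i => φ i.succ) fun i => hφ _
    let b := (AdjoinRoot.powerBasis (hφ 0).ne_zero).basis
    let b' : (Fin (φ 0).natDegree → F) ≃ₗ[F] AdjoinRoot (φ 0) := b.equivFun.symm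
    refine ⟨φ 0 :: l, by rw [hl, List.ofFn_succ], (LinearEquiv.sumArrowLequivProdArrow _ _ F F).trans
      ((b'.prodCongr e).trans (Fin.consLinearEquiv F (fun i => AdjoinRoot (φ i)))), fun v i => ?_⟩
    have hv : CM (φ 0 :: l) *ᵥ v = Sum.elim (comp (φ 0) *ᵥ (v ∘ Sum.inl)) (CM l *ᵥ (v ∘ Sum.inr)) := by
      show fromBlocks (comp (φ 0)) 0 0 (CM l) *ᵥ v = _
      refine (fromBlocks_mulVec _ _ _ _ v).trans ?_
      simp only [Matrix.zero_mulVec, add_zero, zero_add]
      rfl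
    rw [hv]
    refine Fin.cases ?_ (fun j => ?_) i
    · show b' (comp (φ 0) *ᵥ (v ∘ Sum.inl)) = AdjoinRoot.root (φ 0) * b' (v ∘ Sum.inl)
      obtain ⟨y, hy⟩ := b'.surjective (b' (v ∘ Sum.inl))
      have h1 := aeval_leftMul_repr b (AdjoinRoot.root (φ 0)) X (b' (v ∘ Sum.inl))
      rw [aeval_X, aeval_X] at h1
      have h2 : b.equivFun (b' (v ∘ Sum.inl)) = v ∘ Sum.inl := b.equivFun.apply_symm_apply _
      have h3 : comp (φ 0) *ᵥ (v ∘ Sum.inl) = b.equivFun (AdjoinRoot.root (φ 0) * b' (v ∘ Sum.inl)) := by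
        rw [comp_eq_leftMul (hφ 0)]
        exact (congrArg (_ *ᵥ ·) h2.symm).trans h1
      rw [h3]
      exact b.equivFun.symm_apply_apply _
    · exact he (v ∘ Sum.inr) j

/-- Every matrix is a sum of companion blocks of prime powers. -/
theorem exists_cm (A : Matrix ι ι F) :
    ∃ l : List F[X], (∀ φ ∈ l, ∃ (P : F[X]) (e : ℕ), P.Monic ∧ Irreducible P ∧ 0 < e ∧ φ = P ^ e) ∧ Sim A (CM l) := by
  classical
  obtain ⟨D⟩ := exists_modDecomp A
  let en := (Fintype.equivFin D.ι).symm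
  let φ : Fin (Fintype.card D.ι) → F[X] := fun i => D.P (en i) ^ D.e (en i)
  have hφ : ∀ i, (φ i).Monic := fun i => (D.monic _).pow _
  obtain ⟨l, hl, e, he⟩ := exists_equiv_ofFn _ φ hφ
  refine ⟨l, fun ψ hψ => ?_, ?_⟩
  · subst hl
    obtain ⟨i, rfl⟩ := (List.mem_ofFn' _ _).1 hψ
    exact ⟨_, _, D.monic _, D.irred _, D.pos _, rfl⟩
  let o := Module.AEval'.of (Matrix.toLinAlgEquiv' A)
  let R : ((i : D.ι) → Quo (D.P i ^ D.e i)) ≃ₗ[F] (∀ i, AdjoinRoot (φ i)) :=
    (LinearEquiv.piCongrLeft' F (fun i => Quo (D.P i ^ D.e i)) en.symm)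
  let T : (ι → F) ≃ₗ[F] (Idx l → F) := o.trans ((D.equiv.restrictScalars F).trans (R.trans e.symm))
  refine Sim.symm (sim_of_equiv T fun v => ?_)
  refine e.injective (funext fun i => ?_)
  rw [he]
  simp only [T, LinearEquiv.trans_apply, LinearEquiv.apply_symm_apply, LinearEquiv.restrictScalars_apply]
  have hx : o (A *ᵥ v) = (X : F[X]) • o v := by
    simp only [o]
    rw [Module.AEval'.X_smul_of]
    rfl
  rw [hx, map_smul]
  obtain ⟨y, hy⟩ := Submodule.mkQ_surjective _ (D.equiv (o v) (en i))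
  show AdjoinRoot.root (φ i) * (show AdjoinRoot (φ i) from D.equiv (o v) (en i)) =
    (show AdjoinRoot (φ i) from ((X : F[X]) • D.equiv (o v)) (en i))
  rw [Pi.smul_apply, ← hy]
  rfl

end CfsgLib.GLClass.CommSL
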