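import Cfsg.Agent.Lib.GLClass.CommBorder

/-!
Commutators of trinomial companion matrices with elementary unipotent matrices, and chain blocks.
-/

set_option autoImplicit false

namespace CfsgLib.GLClass.CommSL

open Polynomial Matrix Module

variable {F : Type*} [Field F] {ι κ : Type*} [Fintype ι] [DecidableEq ι] [Fintype κ] [DecidableEq κ]

theorem Cyc.charpoly_eq {φ : F[X]} {M : Matrix ι ι F} (h : Cyc φ M) : M.charpoly = φ := by
  obtain ⟨hφ, hd, v, hv⟩ := h
  have h1 : φ ∣ M.charpoly := (hv _).1 (by rw [aeval_self_charpoly, Matrix.zero_mulVec])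
  exact Polynomial.eq_of_monic_of_dvd_of_natDegree_le hφ M.charpoly_monic h1
    (by rw [Matrix.charpoly_natDegree_eq_dim, hd])

theorem Cyc.spec {φ : F[X]} {M : Matrix ι ι F} (h : Cyc φ M) :
    ∃ v : ι → F, ∀ p : F[X], aeval M p *ᵥ v = 0 ↔ M.charpoly ∣ p := by
  have h' := h.charpoly_eq
  obtain ⟨-, -, v, hv⟩ := h
  exact ⟨v, h'.symm ▸ hv⟩

theorem charpoly_comp {φ : F[X]} (hφ : φ.Monic) : (comp φ).charpoly = φ := (cyc_comp hφ).charpoly_eq

theorem charpoly_unit (δ : F) : (δ • (1 : Matrix Unit Unit F)).charpoly = X - Polynomial.C δ := by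
  rw [Matrix.smul_one_eq_diagonal, Matrix.charpoly_diagonal]
  simp

theorem cyc_unit (δ : F) : Cyc (X - Polynomial.C δ) (δ • (1 : Matrix Unit Unit F)) := by
  refine cyc_of_indep (v := fun _ => 1) (monic_X_sub_C δ) (by rw [natDegree_X_sub_C, Fintype.card_unit]) ?_ ?_
  · rw [map_sub, aeval_X, aeval_C, Algebra.algebraMap_eq_smul_one, sub_self, Matrix.zero_mulVec]
  · intro p hp h
    rw [natDegree_X_sub_C, Nat.lt_one_iff] at hp
    rw [eq_C_of_natDegree_eq_zero hp] at h ⊢
    rw [aeval_C, Algebra.algebraMap_eq_smul_one, Matrix.smul_mulVec, Matrix.one_mulVec] at h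
    have := congrFun h ()
    simp at this
    rw [this, map_zero]

theorem cyc_two (M : Matrix (Fin 2) (Fin 2) F) (h : M 0 1 ≠ 0) : Cyc M.charpoly M := by
  refine cyc_of_indep (v := Pi.single 1 1) M.charpoly_monic (by rw [Matrix.charpoly_natDegree_eq_dim]) ?_ ?_
  · rw [aeval_self_charpoly, Matrix.zero_mulVec]
  · intro p hp hz
    rw [Matrix.charpoly_natDegree_eq_dim, Fintype.card_fin] at hp
    rw [eq_X_add_C_of_natDegree_le_one (p := p) (by omega), map_add, map_mul, aeval_C, aeval_C, aeval_X,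
      Algebra.algebraMap_eq_smul_one, Algebra.algebraMap_eq_smul_one, Matrix.smul_mul, Matrix.one_mul,
      Matrix.add_mulVec, Matrix.smul_mulVec, Matrix.smul_mulVec, Matrix.one_mulVec] at hz
    have e0 := congrFun hz 0
    have e1 := congrFun hz 1
    simp at e0 e1
    rcases e0 with e0 | e0
    · rw [eq_X_add_C_of_natDegree_le_one (p := p) (by omega)]
      simp [e0] at e1 ⊢
      simp [e1]
    · exact absurd e0 h

/-- `1 + E₀₁ + E₂₃ + ⋯` minus one. -/
def pairMat (k : ℕ) (F : Type*) [Field F] : Matrix (Fin k) (Fin k) F :=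
  Matrix.of fun i j => if Even (i : ℕ) ∧ (j : ℕ) = i + 1 then 1 else 0

theorem pairMat_sq (k : ℕ) : pairMat k F * pairMat k F = 0 := by
  ext i j
  rw [Matrix.mul_apply, Matrix.zero_apply]
  refine Finset.sum_eq_zero fun l _ => ?_
  simp only [pairMat, Matrix.of_apply]
  split_ifs with h1 h2 <;> simp
  exact (Nat.even_add_one.1 (h1.2 ▸ h2.1)) h1.1

theorem pairMat_mulVec {k : ℕ} (j : Fin k) :
    pairMat k F *ᵥ Pi.single j 1 =
      if h : Odd (j : ℕ) then Pi.single (⟨(j : ℕ) - 1, by omega⟩ : Fin k) 1 else 0 := by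
  funext i
  rw [Matrix.mulVec_single_one, Matrix.col_apply, pairMat, Matrix.of_apply]
  split_ifs with h1 h2 h2
  · rw [Pi.single_apply, if_pos (Fin.ext (by simp; omega))]
  · exact absurd (h1.2 ▸ h1.1.add_one) h2
  · rw [Pi.single_apply, if_neg]
    intro hi
    have hv : (i : ℕ) = j - 1 := congrArg Fin.val hi
    obtain ⟨c, hc⟩ := h2
    exact h1 ⟨⟨c, by omega⟩, by omega⟩
  · rfl

theorem comp_mulVec {T : F[X]} (j : Fin T.natDegree) :
    comp T *ᵥ Pi.single j 1 =
      if h : (j : ℕ) + 1 < T.natDegree then Pi.single (⟨j + 1, h⟩ : Fin T.natDegree) 1 else fun i : Fin T.natDegree => -T.coeff (i : ℕ) := by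
  funext i
  rw [Matrix.mulVec_single_one, Matrix.col_apply, comp, Matrix.of_apply]
  have := j.2
  split_ifs with h1 h2 h3 h4 h5
  · omega
  · rfl
  · rw [Pi.single_apply, if_pos (Fin.ext h3)]
  · omega
  · rw [Pi.single_apply, if_neg (fun hi => h3 (congrArg Fin.val hi))]
  · omega

/-- The source attached to a trinomial. -/
theorem exists_src {T : F[X]} (hT : T.Monic) (hk : 1 ≤ T.natDegree) (h0 : T.coeff 0 ≠ 0)
    (htri : ∀ i, 2 ≤ i → i < T.natDegree → T.coeff i = 0) :
    ∃ Q : Src F (Fin T.natDegree), Q.A = comp T ∧ (3 ≤ T.natDegree → Q.com.trace = (T.natDegree : F)) := by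
  classical
  set k := T.natDegree with hkdef
  set A := comp T with hA
  set N := pairMat k F with hN
  have hAd : IsUnit A.det := by
    rw [hA, det_comp hT]
    exact isUnit_iff_ne_zero.2 (mul_ne_zero (pow_ne_zero _ (neg_ne_zero.2 one_ne_zero)) h0)
  have hA1 : A * A⁻¹ = 1 := Matrix.mul_nonsing_inv A hAd
  have hA2 : A⁻¹ * A = 1 := Matrix.nonsing_inv_mul A hAd
  have hP1 : (1 + N) * (1 - N) = 1 := by rw [add_mul, mul_sub, mul_sub, pairMat_sq]; simp
  have hP2 : (1 - N) * (1 + N) = 1 := by rw [sub_mul, mul_add, mul_add, pairMat_sq]; simp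
  set Q := A * (1 + N) * A⁻¹ with hQ
  let e : ℕ → Fin k → F := fun j i => if (i : ℕ) = j then 1 else 0
  have he : ∀ j : Fin k, Pi.single j (1 : F) = e j := fun j => funext fun i => by
    simp only [e, Pi.single_apply, Fin.ext_iff]
  have hPe : ∀ j, j < k → (1 + N) *ᵥ e j = e j + if Odd j then e (j - 1) else 0 := fun j hj => by
    rw [← he ⟨j, hj⟩, Matrix.add_mulVec, Matrix.one_mulVec, hN, pairMat_mulVec]
    by_cases h : Odd j
    · rw [dif_pos (show Odd ((⟨j, hj⟩ : Fin k) : ℕ) from h), if_pos h, he, he]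
    · rw [dif_neg (show ¬ Odd ((⟨j, hj⟩ : Fin k) : ℕ) from h), if_neg h, he]
  have hPie : ∀ j, j < k → (1 - N) *ᵥ e j = e j - if Odd j then e (j - 1) else 0 := fun j hj => by
    rw [← he ⟨j, hj⟩, Matrix.sub_mulVec, Matrix.one_mulVec, hN, pairMat_mulVec]
    by_cases h : Odd j
    · rw [dif_pos (show Odd ((⟨j, hj⟩ : Fin k) : ℕ) from h), if_pos h, he, he]
    · rw [dif_neg (show ¬ Odd ((⟨j, hj⟩ : Fin k) : ℕ) from h), if_neg h, he]
  have hAe : ∀ j, j + 1 < k → A *ᵥ e j = e (j + 1) := fun j hj => by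
    rw [← he ⟨j, by omega⟩, hA, comp_mulVec, dif_pos (by exact hj), he]
  have hQs : ∀ j, j + 1 < k → Q *ᵥ e (j + 1) = e (j + 1) + if Odd j then e j else 0 := fun j hj => by
    rw [← hAe j hj, hQ, Matrix.mulVec_mulVec, Matrix.mul_assoc _ A⁻¹, hA2, Matrix.mul_one, ← Matrix.mulVec_mulVec,
      hPe j (by omega)]
    split_ifs with h
    · rw [Matrix.mulVec_add, hAe (j - 1) (by omega), show j - 1 + 1 = j by have := h.pos; omega]
    · rw [add_zero, add_zero]
  -- the first column of `Q`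
  have hQ0 : 2 ≤ k → ∀ i : Fin k, (i : ℕ) + 1 < k → (Q *ᵥ e 0) i = e 0 i := by
    intro h2 i hi
    have hlast : A *ᵥ e (k - 1) = -(T.coeff 0 • e 0 + T.coeff 1 • e 1) := by
      rw [← he ⟨k - 1, by omega⟩, hA, comp_mulVec, dif_neg (by simp; omega)]
      funext l
      simp only [e, Pi.neg_apply, Pi.add_apply, Pi.smul_apply, smul_eq_mul, neg_inj]
      have hl := l.2
      rcases Nat.lt_or_ge (l : ℕ) 2 with h | h
      · rcases (show (l : ℕ) = 0 ∨ (l : ℕ) = 1 by omega) with h' | h' <;> simp [h']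
      · rw [htri _ h hl]; simp [show (l : ℕ) ≠ 0 by omega, show (l : ℕ) ≠ 1 by omega]
    have h1 : Q *ᵥ (A *ᵥ e (k - 1)) = A *ᵥ ((1 + N) *ᵥ e (k - 1)) := by
      rw [hQ, Matrix.mulVec_mulVec, Matrix.mul_assoc _ A⁻¹, hA2, Matrix.mul_one, Matrix.mulVec_mulVec]
    have hz : (A *ᵥ (if Odd (k - 1) then e (k - 1 - 1) else 0)) i = 0 := by
      split_ifs with h
      · rw [hAe _ (by omega)]; simp only [e]; rw [if_neg]; omega
      · rw [Matrix.mulVec_zero]; rfl
    have hQ1 : Q *ᵥ e 1 = e 1 := by rw [hQs 0 (by omega), if_neg (by decide), add_zero]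
    have h2' := congrFun h1 i
    rw [hlast, Matrix.mulVec_neg, Matrix.mulVec_add, Matrix.mulVec_smul, Matrix.mulVec_smul, hQ1, hPe (k - 1) (by omega),
      Matrix.mulVec_add, hlast] at h2'
    simp only [Pi.neg_apply, Pi.add_apply, Pi.smul_apply, smul_eq_mul, hz, add_zero] at h2'
    exact mul_left_cancel₀ h0 (add_right_cancel (neg_injective h2'))
  set Xm := A * (1 + N) * A⁻¹ * (1 - N) with hX
  have hXe : ∀ j, j < k → Xm *ᵥ e j = Q *ᵥ e j - if Odd j then Q *ᵥ e (j - 1) else 0 := fun j hj => by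
    rw [hX, ← hQ, ← Matrix.mulVec_mulVec, hPie j hj, Matrix.mulVec_sub]
    split_ifs <;> simp
  have hQv : ∀ (j : ℕ) (i : Fin k), j < k → (i : ℕ) + 1 < k →
      (Q *ᵥ e j) i = e j i + if 1 ≤ j ∧ Odd (j - 1) ∧ (i : ℕ) = j - 1 then 1 else 0 := by
    intro j i hj hi
    rcases j with - | j
    · rw [hQ0 (by omega) i hi, if_neg (by omega), add_zero]
    · rw [hQs j hj, Pi.add_apply, Nat.add_sub_cancel]
      congr 1
      by_cases h : Odd j
      · simp only [if_pos h, e, h, true_and]
        simp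
      · simp [h]
  have hent : ∀ (i j : Fin k), (i : ℕ) + 1 < k →
      ((j : ℕ) ≤ i → Xm i j = if i = j then 1 else 0) ∧ ((j : ℕ) = i + 1 → Xm i j ≠ 0) := by
    intro i j hi
    have hj := j.2
    have hv : Xm i j = (Xm *ᵥ e j) i := by rw [← he, Matrix.mulVec_single_one]; rfl
    rw [hv, hXe _ hj, Pi.sub_apply]
    have hje : e (j : ℕ) i = if i = j then 1 else 0 := by simp [e, Fin.ext_iff]
    constructor
    · intro hji
      rw [hQv _ i hj hi, hje]
      have h2 : (if Odd (j : ℕ) then Q *ᵥ e ((j : ℕ) - 1) else 0) i = 0 := by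
        split_ifs with h
        · have := h.pos
          rw [hQv _ i (by omega) hi, if_neg (by omega), add_zero]
          simp only [e]; rw [if_neg]; omega
        · rfl
      rw [h2, sub_zero, if_neg (c := 1 ≤ (j : ℕ) ∧ Odd ((j : ℕ) - 1) ∧ (i : ℕ) = (j : ℕ) - 1) (by rintro ⟨a, -, b⟩; omega),
        add_zero]
    · intro hji
      rw [hQv _ i hj hi, hje, if_neg (fun h => by rw [h] at hji; omega), zero_add]
      by_cases h : Odd (j : ℕ)
      · have hje' : ¬ Odd ((j : ℕ) - 1) := by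
          rw [Nat.not_odd_iff_even]; obtain ⟨c, hc⟩ := h; exact ⟨c, by omega⟩
        rw [if_pos h, hQv _ i (by omega) hi, if_neg (fun h' => hje' h'.2.1), if_neg (by omega), add_zero]
        simp [e, show (i : ℕ) = (j : ℕ) - 1 by omega]
      · have hje' : Odd ((j : ℕ) - 1) := by
          obtain ⟨c, hc⟩ := Nat.not_odd_iff_even.1 h; exact ⟨c - 1, by omega⟩
        rw [if_neg h, if_pos ⟨by omega, hje', by omega⟩]
        simp
  -- cyclicity
  let v : Fin k → F := e (k - 1)
  let W : Submodule F (Fin k → F) := LinearMap.range ((Matrix.mulVecBilin F F |>.flip v).comp (aeval Xm).toLinearMap)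
  have hW : ∀ y, y ∈ W ↔ ∃ p : F[X], aeval Xm p *ᵥ v = y := fun y => Iff.rfl
  have hWX : ∀ y ∈ W, Xm *ᵥ y ∈ W := fun y hy => by
    obtain ⟨p, rfl⟩ := (hW y).1 hy
    exact (hW _).2 ⟨X * p, by rw [map_mul, aeval_X, ← Matrix.mulVec_mulVec]⟩
  have hvW : v ∈ W := (hW v).2 ⟨1, by rw [map_one, Matrix.one_mulVec]⟩
  have hu : ∀ l, l < k → ∃ y ∈ W, (∀ i : Fin k, k - 1 - l < i → y i = 0) ∧ ∀ i : Fin k, (i : ℕ) = k - 1 - l → y i ≠ 0 := by
    intro l
    induction l with
    | zero =>
      intro _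
      refine ⟨v, hvW, fun i hi => ?_, fun i hi => ?_⟩
      · have := i.2; omega
      · simp [v, e, show (i : ℕ) = k - 1 by omega]
    | succ l ih =>
      intro hl
      obtain ⟨y, hy, hy0, hy1⟩ := ih (by omega)
      refine ⟨(Xm *ᵥ y - y) - (Xm *ᵥ y - y) ⟨k - 1, by omega⟩ • v,
        W.sub_mem (W.sub_mem (hWX y hy) hy) (W.smul_mem _ hvW), fun i hi => ?_, fun i hi => ?_⟩
      · rcases Nat.lt_or_ge ((i : ℕ) + 1) k with h | h
        · have hv0 : v i = 0 := by simp only [v, e]; rw [if_neg]; omega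
          simp only [Pi.sub_apply, Pi.smul_apply, hv0, smul_zero, sub_zero]
          rw [sub_eq_zero, Matrix.mulVec, dotProduct, Finset.sum_eq_single i]
          · rw [((hent i i h).1 le_rfl), if_pos rfl, one_mul]
          · intro j _ hji
            rcases Nat.lt_or_ge (k - 1 - l) j with h' | h'
            · rw [hy0 j h', mul_zero]
            · rw [((hent i j h).1 (by omega)), if_neg (Ne.symm hji), zero_mul]
          · simp
        · have h2 := i.2
          have hik : (⟨k - 1, by omega⟩ : Fin k) = i := Fin.ext (by simp; omega)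
          rw [hik]
          simp [v, e, show (i : ℕ) = k - 1 by omega]
      · have h : (i : ℕ) + 1 < k := by omega
        have hv0 : v i = 0 := by simp only [v, e]; rw [if_neg]; omega
        simp only [Pi.sub_apply, Pi.smul_apply, hv0, smul_zero, sub_zero]
        rw [Matrix.mulVec, dotProduct, ← Finset.add_sum_erase _ _ (Finset.mem_univ i), ((hent i i h).1 le_rfl), if_pos rfl,
          one_mul, add_sub_cancel_left, Finset.sum_eq_single (⟨(i : ℕ) + 1, h⟩ : Fin k)]
        · exact mul_ne_zero ((hent i _ h).2 rfl) (hy1 _ (by simp; omega))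
        · intro j hj hji
          rcases Nat.lt_or_ge (k - 1 - l) j with h' | h'
          · rw [hy0 j h', mul_zero]
          · have hne : (j : ℕ) ≠ (i : ℕ) + 1 := fun e' => hji (Fin.ext e')
            rw [((hent i j h).1 (by omega)), if_neg (Ne.symm (Finset.ne_of_mem_erase hj)), zero_mul]
        · intro hni
          exact absurd (Finset.mem_erase.2 ⟨fun e' => by have := congrArg Fin.val e'; simp at this, Finset.mem_univ _⟩) hni
  have hWtop : W = ⊤ := by
    choose y hyW hy0 hy1 using hu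
    have hli : LinearIndependent F fun i : Fin k => y (k - 1 - i) (by omega) := by
      rw [Fintype.linearIndependent_iff]
      intro c hc
      by_contra hne
      push Not at hne
      obtain ⟨i0, hi0⟩ := hne
      obtain ⟨i, hi, hmax⟩ := (Finset.univ.filter fun i => c i ≠ 0).exists_maximal ⟨i0, by simp [hi0]⟩
      have h1 := congrFun hc i
      rw [Finset.sum_apply, Finset.sum_eq_single i] at h1
      · exact mul_ne_zero (Finset.mem_filter.1 hi).2 (hy1 _ _ i (by omega)) h1
      · intro j _ hji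
        rcases eq_or_ne (c j) 0 with h | h
        · simp [h]
        · have hlt : (j : ℕ) < i := by
            by_contra hge
            exact hji (le_antisymm (hmax (Finset.mem_filter.2 ⟨Finset.mem_univ j, h⟩) (Fin.le_def.2 (by omega)))
              (Fin.le_def.2 (by omega)))
          simp [hy0 _ _ i (by omega : k - 1 - (k - 1 - (j : ℕ)) < i)]
      · simp
    refine eq_top_iff.2 ?_
    rw [← hli.span_eq_top_of_card_eq_finrank' (by rw [Fintype.card_fin, Module.finrank_pi, Fintype.card_fin]),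
      Submodule.span_le]
    rintro _ ⟨i, rfl⟩
    exact hyW _ _
  have hindep : ∀ p : F[X], p.natDegree < k → aeval Xm p *ᵥ v = 0 → p = 0 := by
    intro p hp hp0
    let Φ : (Fin k → F) →ₗ[F] (Fin k → F) := Fintype.linearCombination F fun j : Fin k => (Xm ^ (j : ℕ)) *ᵥ v
    have hΦp : ∀ p : F[X], p.natDegree < k → Φ (fun j => p.coeff j) = aeval Xm p *ᵥ v := fun p hp => by
      rw [aeval_eq_sum_range' hp, Matrix.sum_mulVec, Fintype.linearCombination_apply,
        ← Fin.sum_univ_eq_sum_range (fun j => (p.coeff j • Xm ^ j) *ᵥ v)]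
      exact Finset.sum_congr rfl fun j _ => (Matrix.smul_mulVec _ _ _).symm
    have hd : Xm.charpoly.natDegree = k := by rw [Matrix.charpoly_natDegree_eq_dim, Fintype.card_fin]
    have hsurj : Function.Surjective Φ := fun y => by
      obtain ⟨q, rfl⟩ := (hW y).1 (hWtop ▸ Submodule.mem_top)
      refine ⟨fun j => (q %ₘ Xm.charpoly).coeff j, ?_⟩
      rw [hΦp _ (hd ▸ natDegree_modByMonic_lt q Xm.charpoly_monic (fun h => by rw [h, natDegree_one] at hd; omega))]
      conv_rhs => rw [← modByMonic_add_div q Xm.charpoly, map_add, map_mul, aeval_self_charpoly, zero_mul, add_zero]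
    have hinj : Function.Injective Φ := LinearMap.injective_iff_surjective.2 hsurj
    refine Polynomial.ext fun j => ?_
    rcases Nat.lt_or_ge j k with hj | hj
    · have := congrFun (hinj ((hΦp p hp).trans (hp0.trans (map_zero Φ).symm))) ⟨j, hj⟩
      simpa using this
    · rw [coeff_eq_zero_of_natDegree_lt (by omega), coeff_zero]
  have hcyc : ∀ p : F[X], aeval Xm p *ᵥ v = 0 ↔ Xm.charpoly ∣ p := by
    intro p
    constructor
    · intro h
      refine (modByMonic_eq_zero_iff_dvd Xm.charpoly_monic).1 (hindep _ ?_ ?_)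
      · have hd : Xm.charpoly.natDegree = k := by rw [Matrix.charpoly_natDegree_eq_dim, Fintype.card_fin]
        exact hd ▸ natDegree_modByMonic_lt p Xm.charpoly_monic (fun h => by rw [h, natDegree_one] at hd; omega)
      · conv_lhs at h => rw [← modByMonic_add_div p Xm.charpoly, map_add, map_mul, aeval_self_charpoly, zero_mul, add_zero]
        exact h
    · rintro ⟨c, rfl⟩
      rw [map_mul, aeval_self_charpoly, zero_mul, Matrix.zero_mulVec]
  refine ⟨⟨A, A⁻¹, 1 + N, 1 - N, v, hA1, hA2, hP1, hP2, hcyc⟩, rfl, fun h3 => ?_⟩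
  show Xm.trace = (k : F)
  rw [Matrix.trace, Finset.sum_congr rfl fun i _ => (show Xm.diag i = 1 from ?_), Finset.sum_const, Finset.card_univ,
    Fintype.card_fin, nsmul_one]
  rw [Matrix.diag_apply]
  rcases Nat.lt_or_ge ((i : ℕ) + 1) k with h | h
  · rw [(hent i i h).1 le_rfl, if_pos rfl]
  · have hi2 := i.2
    have hv : Xm i i = (Xm *ᵥ e i) i := by rw [← he, Matrix.mulVec_single_one]; rfl
    obtain ⟨l, hl⟩ : ∃ l, (i : ℕ) = l + 1 + 1 := ⟨(i : ℕ) - 2, by omega⟩
    rw [hv, hXe _ hi2, Pi.sub_apply, hl, Nat.add_sub_cancel, hQs (l + 1) (by omega), hQs l (by omega)]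
    split_ifs <;> simp [e, hl] <;> omega

theorem isUnit_sub {T : F[X]} (hT : T.Monic) {s : F} (h : T.eval s ≠ 0) :
    IsUnit (comp T - s • 1) := by
  rw [Matrix.isUnit_iff_isUnit_det, isUnit_iff_ne_zero]
  intro h0
  have h1 := Matrix.eval_charpoly (comp T) s
  rw [charpoly_comp hT, Matrix.scalar_apply, ← Matrix.smul_one_eq_diagonal (s), ← neg_sub (comp T), Matrix.det_neg, h0, mul_zero] at h1
  exact h h1

theorem det_com (Q : Src F κ) : Q.com.det = 1 := by
  have h1 : Q.A.det * Q.Ai.det = 1 := by rw [← det_mul, Q.hA, det_one]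
  have h2 : Q.P.det * Q.Pi.det = 1 := by rw [← det_mul, Q.hP, det_one]
  rw [Src.com, det_mul, det_mul, det_mul]
  linear_combination (Q.P.det * Q.Pi.det) * h1 + h2

theorem coeff_zero_eq (M : Matrix ι ι F) : M.charpoly.coeff 0 = (-1) ^ Fintype.card ι * M.det := by
  rw [Matrix.det_eq_sign_charpoly_coeff, ← mul_assoc, ← mul_pow, neg_one_mul, neg_neg, one_pow, one_mul]

/-- Chain blocks from trinomials. -/
theorem chain_block {φ : F[X]} (hφ : φ.Monic) {T : F[X]} (hT : T.Monic) (hdeg : φ.natDegree = T.natDegree + 1)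
    (hk : 1 ≤ T.natDegree) (h0 : T.coeff 0 ≠ 0) (htri : ∀ i, 2 ≤ i → i < T.natDegree → T.coeff i = 0) {s s' : F}
    (hs : s ≠ 0) (hs' : s' ≠ 0) (hss : (comp φ).det * s' = s) (hTs : T.eval s ≠ 0) (hTs' : T.eval s' ≠ 0) :
    Chain (comp φ) s s' (comp T).det := by
  obtain ⟨Q, hQA, -⟩ := exists_src hT hk h0 htri
  set δ := (comp φ).det
  have hZ : (s • (1 : Matrix Unit Unit F)) * (s'⁻¹ • 1) = δ • 1 := by
    rw [Matrix.smul_mul, Matrix.one_mul, smul_smul, ← hss, mul_assoc, mul_inv_cancel₀ hs', mul_one]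
  obtain ⟨e, he⟩ := (cyc_unit δ).spec
  have hu : ∀ x : F, T.eval x ≠ 0 → IsUnit (aeval Q.A (x • (1 : Matrix Unit Unit F)).charpoly) := fun x hx => by
    rw [charpoly_unit, map_sub, aeval_X, aeval_C, Algebra.algebraMap_eq_smul_one, hQA]
    exact isUnit_sub hT hx
  have hX0 : Q.com.charpoly.coeff 0 = (-1) ^ T.natDegree := by
    rw [coeff_zero_eq, det_com, mul_one, Fintype.card_fin]
  have h := border Q (s • (1 : Matrix Unit Unit F)) (s' • 1) (s⁻¹ • 1) (s'⁻¹ • 1)
    (by rw [Matrix.smul_mul, Matrix.one_mul, smul_smul, mul_inv_cancel₀ hs, one_smul])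
    (by rw [Matrix.smul_mul, Matrix.one_mul, smul_smul, mul_inv_cancel₀ hs', one_smul])
    e (by simp) (by rw [hZ]; exact he) (hu s hTs) (hu s' hTs') hφ (by rw [hdeg]; simp)
    (by
      rw [hZ, mul_coeff_zero, hX0, coeff_zero_eq, Fintype.card_unit, det_smul, det_one, Fintype.card_unit, pow_one,
        pow_one, mul_one, show δ = (-1) ^ φ.natDegree * φ.coeff 0 from det_comp hφ, hdeg, pow_succ]
      have : ((-1 : F) ^ T.natDegree) * (-1) ^ T.natDegree = 1 := by rw [← mul_pow, neg_one_mul, neg_neg, one_pow]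
      linear_combination (-φ.coeff 0) * this)
    (fun i hi => by
      rw [Fintype.card_fin] at hi
      have hm : (Q.com.charpoly * (s • (1 : Matrix Unit Unit F) * (s'⁻¹ • 1)).charpoly).Monic :=
        (Matrix.charpoly_monic _).mul (Matrix.charpoly_monic _)
      have hd : (Q.com.charpoly * (s • (1 : Matrix Unit Unit F) * (s'⁻¹ • 1)).charpoly).natDegree = φ.natDegree := by
        rw [(Matrix.charpoly_monic _).natDegree_mul (Matrix.charpoly_monic _), Matrix.charpoly_natDegree_eq_dim,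
          Matrix.charpoly_natDegree_eq_dim, Fintype.card_fin, Fintype.card_unit, hdeg]
      rcases (show i = φ.natDegree ∨ φ.natDegree < i by omega) with rfl | h'
      · rw [hφ.coeff_natDegree, ← hd, hm.coeff_natDegree]
      · rw [coeff_eq_zero_of_natDegree_lt h', coeff_eq_zero_of_natDegree_lt (hd ▸ h')])
  rw [hQA] at h
  exact Chain.mk' (h.congr (sim_blocks_comm _ _) (sim_blocks_comm _ _))

end CfsgLib.GLClass.CommSL
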