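import Mathlib
import Cfsg.Agent.Lib.GLClass.Unipotent
import Cfsg.Agent.Lib.GLClass.Special
import Cfsg.Agent.Lib.GLClass.Charpoly

/-!
Jordan types: the unipotent classes of `GL_n` correspond to the partitions of `n`.
-/

set_option autoImplicit false

namespace CfsgLib.GLClass

open Polynomial Module Matrix

variable {F : Type*} [Field F] {n : ℕ}

/-- `μ` is the Jordan type of the unipotent matrix `A`. -/
def HasType (A : Matrix (Fin n) (Fin n) F) (μ : n.Partition) : Prop :=
  ∃ D : Decomp (F := F) (Mod A), (∀ i, D.P i = X - C 1) ∧ μ.parts = Finset.univ.val.map D.e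

theorem card_filter_eq_count {ι : Type*} [Fintype ι] (e : ι → ℕ) (k : ℕ) :
    Nat.card {i // e i = k} = Multiset.count k (Finset.univ.val.map e) := by
  classical
  rw [Multiset.count_map, Nat.card_eq_fintype_card, Fintype.card_subtype]
  simp [Finset.card_def, Finset.filter_val, eq_comm]

theorem count_eq_parts {A : Matrix (Fin n) (Fin n) F} (D : Decomp (F := F) (Mod A))
    (h : ∀ i, D.P i = X - C 1) (k : ℕ) :
    D.count (X - C 1) k = Multiset.count k (Finset.univ.val.map D.e) := by
  rw [Decomp.count, ← card_filter_eq_count]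
  exact Nat.card_congr (Equiv.subtypeEquivRight fun i => and_iff_right (h i))

theorem HasType.isNilpotent {A : Matrix (Fin n) (Fin n) F} {μ : n.Partition} (h : HasType A μ) :
    IsNilpotent (A - 1) := by
  obtain ⟨D, hP, -⟩ := h
  refine ⟨∑ i, D.e i, ?_⟩
  rw [← aeval_X_sub_one A, ← map_pow]
  have hz : ∀ v : Mod A, (X - C (1 : F)) ^ (∑ i, D.e i) • v = 0 := fun v => by
    apply D.equiv.injective
    rw [map_smul, map_zero]
    funext i
    obtain ⟨w, hw⟩ := Submodule.mkQ_surjective _ (D.equiv v i)
    rw [Pi.smul_apply, Pi.zero_apply, ← hw, Submodule.mkQ_apply, ← Submodule.Quotient.mk_smul,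
      Submodule.Quotient.mk_eq_zero, smul_eq_mul, Ideal.mem_span_singleton, hP]
    exact (pow_dvd_pow _ (Finset.single_le_sum (fun _ _ => Nat.zero_le _)
      (Finset.mem_univ i))).mul_right _
  refine Matrix.ext_of_mulVec_single fun i => ?_
  have h1 := hz (Module.AEval'.of (Matrix.toLinAlgEquiv' A) (Pi.single i 1))
  rw [← Module.AEval.of_aeval_smul, Polynomial.aeval_algHom_apply,
    LinearEquiv.map_eq_zero_iff] at h1
  rw [Matrix.zero_mulVec]
  exact h1

theorem exists_hasType {A : Matrix (Fin n) (Fin n) F} (hA : IsNilpotent (A - 1)) :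
    ∃ μ : n.Partition, HasType A μ := by
  obtain ⟨a, ha⟩ := hA
  obtain ⟨D⟩ := exists_modDecomp A
  have hP : ∀ i, D.P i = X - C 1 :=
    D.eq_of_pow_smul_eq_zero monic_X_sub_one irreducible_X_sub_one
      (pow_smul_eq_zero_of_unipotent ha)
  refine ⟨⟨Finset.univ.val.map D.e, fun hi => ?_, ?_⟩, D, hP, rfl⟩
  · obtain ⟨i, -, rfl⟩ := Multiset.mem_map.1 hi
    exact D.pos i
  · have h := congrArg natDegree D.charpoly_eq
    rw [charpoly_mulX_mod, Matrix.charpoly_natDegree_eq_dim, Fintype.card_fin,
      natDegree_prod_of_monic _ _ fun i _ => (D.monic i).pow _] at h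
    simp only [hP, natDegree_pow, natDegree_X_sub_C, mul_one] at h
    exact h.symm

theorem HasType.isConj_iff {A B : Matrix (Fin n) (Fin n) F} {μ ν : n.Partition}
    (hA : HasType A μ) (hB : HasType B ν) : IsConj A B ↔ μ = ν := by
  obtain ⟨D, hP, hμ⟩ := hA
  obtain ⟨D', hP', hν⟩ := hB
  constructor
  · intro h
    refine Nat.Partition.ext ?_
    rw [hμ, hν]
    refine Multiset.ext.2 fun k => ?_
    rw [← count_eq_parts D hP, ← count_eq_parts D' hP']
    refine D.count_eq D' monic_X_sub_one irreducible_X_sub_one (fun j => ?_) k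
    rw [rk_mod, rk_mod, map_pow, map_pow]
    exact (isConj_iff_rank A B).1 h _ monic_X_sub_one irreducible_X_sub_one j
  · rintro rfl
    obtain ⟨f⟩ := nonempty_equiv_of_decomp D D' fun Q _ _ k => by
      by_cases hQ1 : Q = X - C 1
      · subst hQ1
        rw [count_eq_parts D hP, count_eq_parts D' hP', ← hμ, ← hν]
      · unfold Decomp.count
        haveI : IsEmpty {i // D.P i = Q ∧ D.e i = k} := ⟨fun i => hQ1 (i.2.1.symm.trans (hP i))⟩
        haveI : IsEmpty {i // D'.P i = Q ∧ D'.e i = k} :=
          ⟨fun i => hQ1 (i.2.1.symm.trans (hP' i))⟩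
        rw [Nat.card_of_isEmpty, Nat.card_of_isEmpty]
    exact isConj_of_modEquiv f

theorem exists_of_partition (μ : n.Partition) :
    ∃ A : Matrix (Fin n) (Fin n) F, HasType A μ := by
  classical
  let L := μ.parts.toList
  let e : Fin L.length → ℕ := fun i => L.get i
  have hparts : Finset.univ.val.map e = μ.parts := by
    rw [Fin.univ_val_map, List.ofFn_get]
    exact Multiset.coe_toList μ.parts
  haveI : ∀ i, Module.Finite F (Quo ((X - C (1 : F)) ^ e i)) := fun i =>
    finite_quo (monic_X_sub_one.pow _)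
  let V := (i : Fin L.length) → Quo ((X - C (1 : F)) ^ e i)
  have hdim : finrank F V = n := by
    rw [← LinearMap.charpoly_natDegree (mulX (F := F) V), charpoly_mulX_pi,
      Finset.prod_congr rfl fun i _ => charpoly_mulX_quo (monic_X_sub_one.pow _),
      natDegree_prod_of_monic _ _ fun i _ => monic_X_sub_one.pow _]
    simp only [natDegree_pow, natDegree_X_sub_C, mul_one]
    rw [← μ.parts_sum, ← hparts]
    rfl
  let b := Module.finBasisOfFinrankEq F V hdim
  let A := LinearMap.toMatrix b b (mulX (F := F) V)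
  let g : (Fin n → F) ≃ₗ[F] V := b.equivFun.symm
  have hg : ∀ m : Fin n → F, g (Matrix.toLinAlgEquiv' A • m) = (X : F[X]) • g m := by
    intro m
    apply b.equivFun.injective
    simp only [g, LinearEquiv.apply_symm_apply]
    have h := LinearMap.toMatrix_mulVec_repr b b (mulX (F := F) V) (b.equivFun.symm m)
    rw [show ⇑(b.repr (b.equivFun.symm m)) = m from b.equivFun.apply_symm_apply m] at h
    exact h
  refine ⟨A, { ι := Fin L.length
               P := fun _ => X - C 1
               e := e
               monic := fun _ => monic_X_sub_one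
               irred := fun _ => irreducible_X_sub_one
               pos := fun i => μ.parts_pos (Multiset.mem_toList.1 (List.get_mem L i))
               equiv := LinearEquiv.ofAEval _ g hg }, fun _ => rfl, hparts.symm⟩

theorem HasType.pow_eq_zero_iff {A : Matrix (Fin n) (Fin n) F} {μ : n.Partition}
    (h : HasType A μ) (j : ℕ) : (A - 1) ^ j = 0 ↔ ∀ a ∈ μ.parts, a ≤ j := by
  classical
  obtain ⟨D, hP, hμ⟩ := h
  have h1 := D.rk_add monic_X_sub_one irreducible_X_sub_one j
  have h0 : (A - 1) ^ j = 0 ↔ rk ((X - C (1 : F)) ^ j) (Mod A) = 0 := by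
    rw [rk_mod, map_pow, aeval_X_sub_one]
    refine ⟨fun h => by rw [h, Matrix.rank_zero], fun h => ?_⟩
    rw [Matrix.rank, Submodule.finrank_eq_zero, LinearMap.range_eq_bot] at h
    refine Matrix.ext_of_mulVec_single fun i => ?_
    rw [Matrix.zero_mulVec, ← Matrix.mulVecLin_apply, h, LinearMap.zero_apply]
  simp only [hP, if_pos, natDegree_X_sub_C, mul_one] at h1
  rw [h0, hμ]
  simp only [Multiset.mem_map, Finset.mem_val, Finset.mem_univ, true_and, forall_exists_index,
    forall_apply_eq_imp_iff]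
  constructor
  · intro hz i
    rw [hz, zero_add] at h1
    by_contra hlt
    have := Finset.sum_lt_sum (s := Finset.univ) (fun i _ => Nat.min_le_left (D.e i) j)
      ⟨i, Finset.mem_univ i, by omega⟩
    omega
  · intro hle
    rw [Finset.sum_congr rfl fun i _ => Nat.min_eq_left (hle i)] at h1
    exact Nat.add_eq_right.1 h1

/-- Counting conjugacy classes by their types. -/
theorem card_classes_of_type (S : Finset n.Partition) (P : GL (Fin n) F → Prop)
    (hP : ∀ g, P g ↔ ∃ μ ∈ S, HasType (g : Matrix (Fin n) (Fin n) F) μ) :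
    Nat.card {C : ConjClasses (GL (Fin n) F) // ∃ g, ConjClasses.mk g = C ∧ P g} = S.card := by
  classical
  choose ν hν using fun C : {C : ConjClasses (GL (Fin n) F) // ∃ g, ConjClasses.mk g = C ∧ P g} =>
    (hP _).1 C.2.choose_spec.2
  rw [← Nat.card_eq_finsetCard]
  refine Nat.card_eq_of_bijective (fun C => (⟨ν C, (hν C).1⟩ : S)) ⟨fun C D h => ?_, fun μ => ?_⟩
  · have h2 := congrArg Subtype.val h
    apply Subtype.ext
    rw [← C.2.choose_spec.1, ← D.2.choose_spec.1, ConjClasses.mk_eq_mk_iff_isConj]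
    exact isConj_units (((hν C).2.isConj_iff (hν D).2).2 h2)
  · obtain ⟨A, hA⟩ := exists_of_partition (F := F) μ.1
    have hu : IsUnit A := by
      have := hA.isNilpotent.isUnit_one_add
      rwa [add_sub_cancel] at this
    have hPu : P hu.unit := (hP _).2 ⟨μ.1, μ.2, by rwa [IsUnit.unit_spec]⟩
    let C : {C : ConjClasses (GL (Fin n) F) // ∃ g, ConjClasses.mk g = C ∧ P g} :=
      ⟨ConjClasses.mk hu.unit, hu.unit, rfl, hPu⟩
    refine ⟨C, Subtype.ext ?_⟩
    obtain ⟨c, hc⟩ := ConjClasses.mk_eq_mk_iff_isConj.1 C.2.choose_spec.1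
    refine ((hν C).2.isConj_iff hA).1 ?_
    obtain ⟨c', hc'⟩ := isConj_iff.1 (ConjClasses.mk_eq_mk_iff_isConj.1 C.2.choose_spec.1)
    refine ⟨c', ?_⟩
    have := congrArg Units.val (mul_inv_eq_iff_eq_mul.1 hc')
    simpa [SemiconjBy] using this

end CfsgLib.GLClass
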