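import Mathlib
import Cfsg.Agent.Lib.GLClass.Special
import Cfsg.Agent.Lib.GLClass.SLSplit

/-!
Regular unipotent matrices: invariant subspaces, centraliser and determinants of the centraliser.
-/

set_option autoImplicit false

namespace CfsgLib.GLClass

open Matrix Module

variable {F : Type*} [Field F] {n : ℕ} {N : Matrix (Fin n) (Fin n) F}

theorem finrank_ker_comp_le {V : Type*} [AddCommGroup V] [Module F V] [FiniteDimensional F V]
    (f g : V →ₗ[F] V) :
    finrank F (LinearMap.ker (f ∘ₗ g)) ≤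
      finrank F (LinearMap.ker f) + finrank F (LinearMap.ker g) := by
  rw [LinearMap.ker_comp]
  have h := LinearMap.finrank_range_add_finrank_ker (g.domRestrict ((LinearMap.ker f).comap g))
  rw [← h]
  refine add_le_add ?_ ?_
  · refine Submodule.finrank_mono ?_
    rintro _ ⟨⟨x, hx⟩, rfl⟩
    exact hx
  · rw [LinearMap.ker_domRestrict]
    refine le_of_eq ?_
    rw [← Submodule.finrank_map_subtype_eq, Submodule.map_comap_subtype, inf_eq_right.2]
    intro x hx
    simp [LinearMap.mem_ker.1 hx]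

/-- `N` is a single nilpotent Jordan block. -/
structure IsBlock (N : Matrix (Fin n) (Fin n) F) : Prop where
  nil : N ^ n = 0
  rank_eq : N.rank = n - 1

theorem IsBlock.finrank_ker_one (h : IsBlock N) : finrank F (LinearMap.ker N.mulVecLin) ≤ 1 := by
  have h1 := LinearMap.finrank_range_add_finrank_ker N.mulVecLin
  have h2 := h.rank_eq
  rw [Matrix.rank] at h2
  rw [Module.finrank_fin_fun] at h1
  omega

theorem IsBlock.finrank_ker_le (h : IsBlock N) :
    ∀ j, finrank F (LinearMap.ker (N ^ j).mulVecLin) ≤ j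
  | 0 => by simp [Matrix.mulVecLin_one]
  | j + 1 => by
    rw [pow_succ, Matrix.mulVecLin_mul]
    exact (finrank_ker_comp_le _ _).trans
      (Nat.add_le_add (IsBlock.finrank_ker_le h j) h.finrank_ker_one)

theorem IsBlock.finrank_ker (h : IsBlock N) {j : ℕ} (hj : j ≤ n) :
    finrank F (LinearMap.ker (N ^ j).mulVecLin) = j := by
  refine le_antisymm (h.finrank_ker_le j) ?_
  have h1 := finrank_ker_comp_le (N ^ (n - j)).mulVecLin (N ^ j).mulVecLin
  rw [← Matrix.mulVecLin_mul, ← pow_add, Nat.sub_add_cancel hj, h.nil, Matrix.mulVecLin_zero,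
    LinearMap.ker_zero, finrank_top, Module.finrank_fin_fun] at h1
  have h2 := h.finrank_ker_le (n - j)
  omega

theorem IsBlock.rank_pow (h : IsBlock N) (j : ℕ) : (N ^ j).rank = n - j := by
  rcases le_or_gt j n with hj | hj
  · have h1 := LinearMap.finrank_range_add_finrank_ker (N ^ j).mulVecLin
    rw [h.finrank_ker hj, Module.finrank_fin_fun] at h1
    rw [Matrix.rank]
    omega
  · rw [pow_eq_zero_of_le hj.le h.nil, Matrix.rank_zero]
    omega

theorem IsBlock.eq_ker (h : IsBlock N) (W : Submodule F (Fin n → F))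
    (hW : ∀ v ∈ W, N *ᵥ v ∈ W) :
    W = LinearMap.ker (N ^ finrank F W).mulVecLin := by
  let f : W →ₗ[F] W := N.mulVecLin.restrict hW
  have hpow : ∀ k (w : W), (((f ^ k) w : W) : Fin n → F) = (N ^ k) *ᵥ (w : Fin n → F) := by
    intro k
    induction k with
    | zero => simp
    | succ k ih =>
      intro w
      rw [pow_succ', pow_succ', Module.End.mul_apply, ← Matrix.mulVec_mulVec, ← ih]
      rfl
  have hnil : IsNilpotent f := ⟨n, LinearMap.ext fun w => Subtype.ext (by
    rw [hpow, h.nil, Matrix.zero_mulVec]; rfl)⟩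
  have hzero : f ^ finrank F W = 0 := by
    have h2 := LinearMap.aeval_self_charpoly f
    rwa [hnil.charpoly_eq_X_pow_finrank, map_pow, Polynomial.aeval_X] at h2
  refine Submodule.eq_of_le_of_finrank_eq (fun v hv => ?_) ?_
  · rw [LinearMap.mem_ker, Matrix.mulVecLin_apply, ← hpow _ ⟨v, hv⟩, hzero]
    rfl
  · rw [h.finrank_ker]
    exact W.finrank_le.trans_eq (Module.finrank_fin_fun F)

theorem IsBlock.exists_cyclic (h : IsBlock N) (hn : 1 ≤ n) :
    ∃ v, LinearIndependent F (fun i : Fin n => (N ^ (i : ℕ)) *ᵥ v) := by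
  have hne : N ^ (n - 1) ≠ 0 := by
    intro h0
    have := h.rank_pow (n - 1)
    rw [h0, Matrix.rank_zero] at this
    omega
  obtain ⟨v, hv⟩ : ∃ v, (N ^ (n - 1)) *ᵥ v ≠ 0 := by
    by_contra! h0
    exact hne (Matrix.ext_of_mulVec_single fun i => by rw [h0, Matrix.zero_mulVec])
  refine ⟨v, Fintype.linearIndependent_iff.2 fun a ha => ?_⟩
  by_contra! hne
  classical
  have hs : (Finset.univ.filter fun i : Fin n => a i ≠ 0).Nonempty := by
    obtain ⟨i, hi⟩ := hne
    exact ⟨i, by simpa using hi⟩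
  set i := (Finset.univ.filter fun i : Fin n => a i ≠ 0).min' hs with hi
  have hai : a i ≠ 0 := (Finset.mem_filter.1 (Finset.min'_mem _ hs)).2
  have h1 := congrArg (fun w => (N ^ (n - 1 - (i : ℕ))) *ᵥ w) ha
  simp only [Matrix.mulVec_sum, Matrix.mulVec_smul, Matrix.mulVec_mulVec, ← pow_add,
    Matrix.mulVec_zero] at h1
  rw [Finset.sum_eq_single i] at h1
  · rw [show n - 1 - (i : ℕ) + (i : ℕ) = n - 1 by omega] at h1
    exact hv ((smul_eq_zero.1 h1).resolve_left hai)
  · intro j _ hj
    by_cases haj : a j = 0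
    · rw [haj, zero_smul]
    · have hle : i ≤ j := Finset.min'_le _ _ (by simpa using haj)
      have hlt : (i : ℕ) < j := lt_of_le_of_ne hle fun e => hj (Fin.ext e.symm)
      rw [pow_eq_zero_of_le (show n ≤ n - 1 - (i : ℕ) + (j : ℕ) by omega) h.nil,
        Matrix.zero_mulVec, smul_zero]
  · simp

/-- The polynomial in `N` with coefficients `a`. -/
def blockPoly (N : Matrix (Fin n) (Fin n) F) (a : Fin n → F) : Matrix (Fin n) (Fin n) F :=
  ∑ i : Fin n, a i • N ^ (i : ℕ)

theorem commute_blockPoly (a : Fin n → F) : Commute N (blockPoly N a) :=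
  Commute.sum_right _ _ _ fun _ _ => ((Commute.refl N).pow_right _).smul_right _

theorem blockPoly_injective (h : IsBlock N) (hn : 1 ≤ n) :
    Function.Injective (blockPoly N) := by
  obtain ⟨v, hv⟩ := h.exists_cyclic hn
  intro a b hab
  have h1 := congrArg (fun M => M *ᵥ v) hab
  simp only [blockPoly, Matrix.sum_mulVec, Matrix.smul_mulVec] at h1
  funext i
  exact sub_eq_zero.1 (Fintype.linearIndependent_iff.1 hv (fun i => a i - b i)
    (by simp only [sub_smul, Finset.sum_sub_distrib, h1, sub_self]) i)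

theorem exists_blockPoly_of_commute (h : IsBlock N) (hn : 1 ≤ n) {M : Matrix (Fin n) (Fin n) F}
    (hM : Commute N M) : ∃ a, blockPoly N a = M := by
  obtain ⟨v, hv⟩ := h.exists_cyclic hn
  haveI : Nonempty (Fin n) := ⟨⟨0, hn⟩⟩
  let B := basisOfLinearIndependentOfCardEqFinrank hv (by simp)
  have hB : ⇑B = fun i : Fin n => (N ^ (i : ℕ)) *ᵥ v :=
    coe_basisOfLinearIndependentOfCardEqFinrank _ _
  refine ⟨fun i => B.repr (M *ᵥ v) i, ?_⟩
  apply Matrix.toLin'.injective
  refine B.ext fun j => ?_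
  rw [Matrix.toLin'_apply, Matrix.toLin'_apply, hB, Matrix.mulVec_mulVec, Matrix.mulVec_mulVec,
    (hM.pow_left (j : ℕ)).symm.eq, ((commute_blockPoly _).pow_left (j : ℕ)).symm.eq,
    ← Matrix.mulVec_mulVec, ← Matrix.mulVec_mulVec]
  congr 1
  simp only [blockPoly, Matrix.sum_mulVec, Matrix.smul_mulVec]
  have h1 := B.sum_repr (M *ᵥ v)
  rwa [hB] at h1

theorem IsBlock.det_eq_zero (h : IsBlock N) (hn : 1 ≤ n) : N.det = 0 := by
  haveI : Nonempty (Fin n) := ⟨⟨0, hn⟩⟩
  have h1 := congrArg Matrix.det h.nil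
  rw [Matrix.det_pow, Matrix.det_zero] at h1
  exact pow_eq_zero_iff (show n ≠ 0 by omega) |>.1 h1

theorem det_blockPoly (h : IsBlock N) (hn : 1 ≤ n) (a : Fin n → F) :
    (blockPoly N a).det = a ⟨0, hn⟩ ^ n := by
  classical
  let R : Matrix (Fin n) (Fin n) F :=
    ∑ i ∈ Finset.univ.erase ⟨0, hn⟩, a i • N ^ (i : ℕ)
  have hsplit : blockPoly N a = Matrix.scalar (Fin n) (a ⟨0, hn⟩) + R := by
    rw [blockPoly, ← Finset.add_sum_erase _ _ (Finset.mem_univ (⟨0, hn⟩ : Fin n))]
    simp [R, Matrix.smul_one_eq_diagonal]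
  have hR : IsNilpotent R := by
    refine Commute.isNilpotent_sum (fun i hi => ?_) fun i j _ _ =>
      (((Commute.refl N).pow_pow _ _).smul_right _).smul_left _
    obtain ⟨hne, -⟩ := Finset.mem_erase.1 hi
    refine IsNilpotent.smul ⟨n, ?_⟩ _
    rw [← pow_mul]
    refine pow_eq_zero_of_le (Nat.le_mul_of_pos_left n (Nat.pos_of_ne_zero fun h0 => hne ?_)) h.nil
    exact Fin.ext h0
  have hc := (Matrix.isNilpotent_charpoly_sub_pow_of_isNilpotent hR.neg).eq_zero
  rw [sub_eq_zero] at hc
  have h2 := Matrix.eval_charpoly (-R) (a ⟨0, hn⟩)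
  rw [hc, Polynomial.eval_pow, Polynomial.eval_X, Fintype.card_fin, sub_neg_eq_add] at h2
  rw [hsplit, h2]

theorem isUnit_blockPoly (h : IsBlock N) (hn : 1 ≤ n) (a : Fin n → F) :
    IsUnit (blockPoly N a) ↔ a ⟨0, hn⟩ ≠ 0 := by
  rw [Matrix.isUnit_iff_isUnit_det, isUnit_iff_ne_zero, det_blockPoly h hn,
    pow_ne_zero_iff (by omega)]

theorem mem_centralizer_iff_commute {g u : GL (Fin n) F}
    (hu : (u : Matrix (Fin n) (Fin n) F) - 1 = N) :
    g ∈ Subgroup.centralizer {u} ↔ Commute N (g : Matrix (Fin n) (Fin n) F) := by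
  rw [Subgroup.mem_centralizer_singleton_iff, ← hu, Units.ext_iff]
  simp only [Units.val_mul, Commute, SemiconjBy, sub_mul, mul_sub, one_mul, mul_one,
    sub_left_inj]
  exact eq_comm

theorem card_centralizer_block [Fintype F] (h : IsBlock N) (hn : 1 ≤ n) {u : GL (Fin n) F}
    (hu : (u : Matrix (Fin n) (Fin n) F) - 1 = N) :
    Nat.card (Subgroup.centralizer {u}) = (Fintype.card F - 1) * Fintype.card F ^ (n - 1) := by
  classical
  let f : {a : Fin n → F // a ⟨0, hn⟩ ≠ 0} → Subgroup.centralizer {u} := fun a =>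
    ⟨((isUnit_blockPoly h hn a.1).2 a.2).unit, (mem_centralizer_iff_commute hu).2
      (by rw [IsUnit.unit_spec]; exact commute_blockPoly _)⟩
  have hf : Function.Bijective f := by
    refine ⟨fun a b hab => Subtype.ext (blockPoly_injective h hn ?_), fun g => ?_⟩
    · have := congrArg (fun x : Subgroup.centralizer {u} =>
        ((x : GL (Fin n) F) : Matrix (Fin n) (Fin n) F)) hab
      simpa [f] using this
    · obtain ⟨a, ha⟩ := exists_blockPoly_of_commute h hn ((mem_centralizer_iff_commute hu).1 g.2)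
      refine ⟨⟨a, (isUnit_blockPoly h hn a).1 (ha ▸ (g : GL (Fin n) F).isUnit)⟩, ?_⟩
      exact Subtype.ext (Units.ext (by simp [f, ha]))
  rw [← Nat.card_eq_of_bijective f hf]
  obtain ⟨m, rfl⟩ : ∃ m, n = m + 1 := ⟨n - 1, by omega⟩
  let e : {a : Fin (m + 1) → F // a ⟨0, hn⟩ ≠ 0} ≃ {x : F // x ≠ 0} × (Fin m → F) :=
    { toFun := fun a => (⟨a.1 0, a.2⟩, Fin.tail a.1)
      invFun := fun p => ⟨Fin.cons p.1.1 p.2, p.1.2⟩
      left_inv := fun a => Subtype.ext (Fin.cons_self_tail a.1)
      right_inv := fun p => by ext <;> simp }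
  rw [Nat.card_congr e, Nat.card_prod]
  simp [Nat.card_eq_fintype_card, Fintype.card_subtype_compl]

theorem det_centralizer_block (h : IsBlock N) (hn : 1 ≤ n) {u : GL (Fin n) F}
    (hu : (u : Matrix (Fin n) (Fin n) F) - 1 = N) :
    (Subgroup.centralizer {u}).map (Matrix.GeneralLinearGroup.det : GL (Fin n) F →* Fˣ) =
      (powMonoidHom n : Fˣ →* Fˣ).range := by
  classical
  ext d
  constructor
  · rintro ⟨g, hg, rfl⟩
    obtain ⟨a, ha⟩ := exists_blockPoly_of_commute h hn ((mem_centralizer_iff_commute hu).1 hg)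
    have ha0 := (isUnit_blockPoly h hn a).1 (ha ▸ g.isUnit)
    refine ⟨Units.mk0 _ ha0, Units.ext ?_⟩
    simp [← ha, det_blockPoly h hn]
  · rintro ⟨c, rfl⟩
    let a : Fin n → F := Pi.single ⟨0, hn⟩ (c : F)
    have ha : a ⟨0, hn⟩ ≠ 0 := by simp [a]
    refine ⟨((isUnit_blockPoly h hn a).2 ha).unit, (mem_centralizer_iff_commute hu).2
      (by rw [IsUnit.unit_spec]; exact commute_blockPoly _), Units.ext ?_⟩
    simp [det_blockPoly h hn, a]

/-- The upper shift matrix. -/
def shiftMat (n : ℕ) (F : Type*) [Field F] : Matrix (Fin n) (Fin n) F :=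
  Matrix.of fun i j => if j.val = i.val + 1 then 1 else 0

theorem shiftMat_pow (k : ℕ) :
    shiftMat n F ^ k = Matrix.of fun i j => if j.val = i.val + k then 1 else 0 := by
  induction k with
  | zero =>
    ext i j
    simp [Matrix.one_apply, Fin.ext_iff, eq_comm]
  | succ k ih =>
    ext i j
    rw [pow_succ, ih, Matrix.mul_apply]
    simp only [shiftMat, Matrix.of_apply]
    by_cases hk : i.val + k < n
    · rw [Finset.sum_eq_single ⟨i.val + k, hk⟩]
      · simp [add_assoc]
      · intro l _ hl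
        rw [if_neg (fun h => hl (Fin.ext h)), zero_mul]
      · simp
    · rw [if_neg (by omega)]
      refine Finset.sum_eq_zero fun l _ => ?_
      rw [if_neg (by omega), zero_mul]

theorem isBlock_shiftMat : IsBlock (shiftMat n F) := by
  refine ⟨by rw [shiftMat_pow]; ext i j; simp; omega, le_antisymm ?_ ?_⟩
  · rcases Nat.eq_zero_or_pos n with rfl | hn
    · simpa using Matrix.rank_le_height (shiftMat 0 F)
    · have h0 : (shiftMat n F) *ᵥ Pi.single ⟨0, hn⟩ 1 = 0 := by
        ext i
        simp [shiftMat]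
      have h1 : LinearMap.ker (shiftMat n F).mulVecLin ≠ ⊥ := by
        intro hb
        have := (LinearMap.mem_ker.2 (show (shiftMat n F).mulVecLin (Pi.single ⟨0, hn⟩ 1) = 0
          from h0))
        rw [hb, Submodule.mem_bot] at this
        simpa using congrFun this ⟨0, hn⟩
      have h2 := LinearMap.finrank_range_add_finrank_ker (shiftMat n F).mulVecLin
      have h3 := Submodule.one_le_finrank_iff.2 h1
      rw [Module.finrank_fin_fun] at h2
      rw [Matrix.rank]
      omega
  · let r : Fin (n - 1) → Fin n := fun k => ⟨k.val, by omega⟩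
    let c : Fin (n - 1) → Fin n := fun k => ⟨k.val + 1, by omega⟩
    have h1 : (shiftMat n F).submatrix r c = 1 := by
      ext a b
      simp only [shiftMat, Matrix.submatrix_apply, Matrix.of_apply, Matrix.one_apply, r, c,
        Fin.ext_iff]
      split_ifs <;> first | rfl | omega
    have h2 := Matrix.rank_submatrix_le (shiftMat n F) r c
    rwa [h1, Matrix.rank_one, Fintype.card_fin] at h2

theorem isConj_of_isBlock {A B : Matrix (Fin n) (Fin n) F} (hA : IsBlock (A - 1))
    (hB : IsBlock (B - 1)) : IsConj A B :=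
  (isConj_iff_rank_of_unipotent ⟨n, hA.nil⟩ ⟨n, hB.nil⟩).2 fun j => by
    rw [hA.rank_pow, hB.rank_pow]

end CfsgLib.GLClass
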