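import Cfsg.Agent.Lib.GLClass.Unipotent
import Cfsg.Agent.Lib.GLClass.Regular

/-!
Element orders of `PSL_n(q)` against a prime `r` dividing `q - 1` and not `n`: an element either
commutes with an element of order `r`, or its order divides `|Singer| * p^⌈log_p n⌉`.
-/

set_option autoImplicit false

namespace CfsgLib.Absorb

open Matrix Polynomial

variable {F : Type*} [Field F] [Fintype F] {n : ℕ}

local notation "q" => Fintype.card F
local notation "SLn" => Matrix.SpecialLinearGroup (Fin n) F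
local notation "PSLn" => Matrix.ProjectiveSpecialLinearGroup (Fin n) F

/-- The order of a Singer element of `PSL_n(q)`. -/
def singer (c n : ℕ) : ℕ := (∑ i ∈ Finset.range n, c ^ i) / Nat.gcd n (c - 1)

theorem geo_modEq (hc : 1 ≤ Fintype.card F) :
    ∑ i ∈ Finset.range n, q ^ i ≡ n [MOD q - 1] := by
  have h : q ≡ 1 [MOD q - 1] := ((Nat.modEq_iff_dvd' hc).2 dvd_rfl).symm
  induction n with
  | zero => exact Nat.ModEq.rfl
  | succ n ih =>
    rw [Finset.sum_range_succ]
    exact ih.add (by simpa using h.pow n)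

theorem gcd_geo : Nat.gcd (∑ i ∈ Finset.range n, q ^ i) (q - 1) = Nat.gcd n (q - 1) :=
  Nat.ModEq.gcd_eq (geo_modEq Fintype.card_pos)

theorem gcd_dvd_geo : Nat.gcd n (q - 1) ∣ ∑ i ∈ Finset.range n, q ^ i :=
  gcd_geo (F := F) (n := n) ▸ Nat.gcd_dvd_left _ _

theorem mk_eq_one {A : SLn} : (QuotientGroup.mk A : PSLn) = 1 ↔ ∃ c : F, A.1 = c • 1 := by
  rw [QuotientGroup.eq_one_iff, Matrix.SpecialLinearGroup.mem_center_iff]
  constructor
  · rintro ⟨c, -, h⟩
    exact ⟨c, by rw [← h, scalar_apply, smul_one_eq_diagonal]⟩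
  · rintro ⟨c, h⟩
    refine ⟨c, ?_, by rw [h, scalar_apply, smul_one_eq_diagonal]⟩
    have := A.2
    rwa [h, det_smul, det_one, mul_one] at this

theorem pow_card_eq_self_mem {K : Type*} [Field K] [Algebra F K] {x : K} (h : x ^ q = x) :
    ∃ a : F, algebraMap F K a = x := by
  classical
  have h1 : ((X : F[X]) ^ q - X).Splits := by
    rw [splits_iff_card_roots, FiniteField.roots_X_pow_card_sub_X,
      FiniteField.X_pow_card_sub_X_natDegree_eq F Fintype.one_lt_card]
    rfl
  have h2 : (((X : F[X]) ^ q - X).map (algebraMap F K)).roots =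
      (Finset.univ.val).map (algebraMap F K) := by
    rw [Splits.roots_map h1, FiniteField.roots_X_pow_card_sub_X]
  have hx : x ∈ (((X : F[X]) ^ q - X).map (algebraMap F K)).roots := by
    rw [mem_roots (Polynomial.map_ne_zero (FiniteField.X_pow_card_sub_X_ne_zero F Fintype.one_lt_card))]
    simp [h]
  rw [h2, Multiset.mem_map] at hx
  obtain ⟨a, -, ha⟩ := hx
  exact ⟨a, ha⟩

/-- An element of determinant one with irreducible annihilating polynomial lies in a Singer torus. -/
theorem pow_singer_scalar (hn : 1 ≤ n) {B : Matrix (Fin n) (Fin n) F} (hd : B.det = 1) {P : F[X]}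
    (hP : Irreducible P) (hB : aeval B P = 0) : ∃ c : F, B ^ singer q n = c • 1 := by
  classical
  haveI : Fact (Irreducible P) := ⟨hP⟩
  let pb := AdjoinRoot.powerBasis hP.ne_zero
  haveI : Module.Finite F (AdjoinRoot P) := pb.finite
  haveI : Finite (AdjoinRoot P) := Module.finite_of_finite F
  let φ : AdjoinRoot P →ₐ[F] Module.End F (Fin n → F) :=
    Ideal.Quotient.liftₐ _ (Polynomial.aeval (toLinAlgEquiv' B)) fun g hg => by
      obtain ⟨w, rfl⟩ := Ideal.mem_span_singleton.1 hg
      rw [map_mul, aeval_algHom_apply, hB, map_zero, zero_mul]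
  letI : Module (AdjoinRoot P) (Fin n → F) := Module.compHom (Fin n → F) φ.toRingHom
  haveI : IsScalarTower F (AdjoinRoot P) (Fin n → F) := IsScalarTower.of_algebraMap_smul fun a v => by
    show φ (algebraMap F (AdjoinRoot P) a) v = a • v
    rw [φ.commutes]; rfl
  haveI : Module.Finite (AdjoinRoot P) (Fin n → F) := Module.Finite.of_restrictScalars_finite F _ _
  let β : AdjoinRoot P := AdjoinRoot.root P
  set l := Module.finrank (AdjoinRoot P) (Fin n → F) with hl
  set e := Module.finrank F (AdjoinRoot P) with he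
  have hel : e * l = n := by
    rw [he, hl, Module.finrank_mul_finrank, Module.finrank_fin_fun]
  have hφβ : φ β = toLinAlgEquiv' B := Polynomial.aeval_X _
  have hres : ((β • LinearMap.id : (Fin n → F) →ₗ[AdjoinRoot P] (Fin n → F)).restrictScalars F) =
      toLinAlgEquiv' B := by
    refine LinearMap.ext fun v => ?_
    show φ β v = _
    rw [hφβ]
  have hdet : Algebra.norm F (β ^ l) = 1 := by
    have h := LinearMap.det_restrictScalars (R := F)
      (f := (β • LinearMap.id : (Fin n → F) →ₗ[AdjoinRoot P] (Fin n → F)))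
    rw [hres, LinearMap.det_smul, LinearMap.det_id, mul_one] at h
    rw [← hl] at h
    rw [← h]
    show LinearMap.det (toLin' B) = 1
    rw [LinearMap.det_toLin', hd]
  have hN : β ^ (l * ∑ i ∈ Finset.range e, q ^ i) = 1 := by
    have h := congrArg (algebraMap F (AdjoinRoot P)) hdet
    rw [FiniteField.algebraMap_norm_eq_pow, map_one, ← pow_mul, Nat.card_eq_fintype_card (α := F), Module.natCard_eq_pow_finrank (K := F) (V := AdjoinRoot P), Nat.card_eq_fintype_card (α := F), ← he] at h
    rw [Nat.geomSum_eq Fintype.one_lt_card]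
    exact h
  -- hence `β ^ geo n = 1`
  set S := ∑ i ∈ Finset.range e, q ^ i with hS
  have he0 : 1 ≤ e := Nat.one_le_iff_ne_zero.2 fun h0 => by rw [h0, zero_mul] at hel; omega
  have hcard : β ^ q ^ e = β := by
    haveI : Fintype (AdjoinRoot P) := Fintype.ofFinite _
    have := FiniteField.pow_card β
    rwa [Module.card_eq_pow_finrank (K := F)] at this
  have hcfix : (β ^ S) ^ q = β ^ S := by
    rcases eq_or_ne β 0 with h0 | h0
    · rw [h0]
      rcases eq_or_ne S 0 with hS0 | hS0
      · simp [hS0]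
      · simp [hS0, Fintype.card_ne_zero]
    rw [← pow_mul]
    have h1 : S * q + 1 = S + q ^ e := by
      have := geom_sum_succ (x := q) (n := e)
      have h2 := Finset.sum_range_succ (fun i => q ^ i) e
      rw [hS, mul_comm]
      linarith
    refine mul_right_cancel₀ h0 ?_
    rw [← pow_succ, h1, pow_add, hcard]
  obtain ⟨c, hc⟩ := pow_card_eq_self_mem hcfix
  have hcl : c ^ l = 1 := by
    apply (algebraMap F (AdjoinRoot P)).injective
    rw [map_pow, hc, ← pow_mul, mul_comm, hN, map_one]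
  have hgeo : ∑ i ∈ Finset.range n, q ^ i = S * ∑ j ∈ Finset.range l, (q ^ e) ^ j := by
    have hq1 : 0 < q - 1 := Nat.sub_pos_of_lt Fintype.one_lt_card
    refine Nat.eq_of_mul_eq_mul_right hq1 ?_
    have key : ∀ (a k : ℕ), 1 ≤ a → (∑ i ∈ Finset.range k, a ^ i) * (a - 1) = a ^ k - 1 := by
      intro a k ha
      have := geom_sum_mul_add (a - 1) k
      rw [Nat.sub_add_cancel ha] at this
      omega
    rw [key q n Fintype.card_pos, mul_right_comm, key q e Fintype.card_pos, mul_comm,
      key (q ^ e) l (Nat.one_le_pow _ _ Fintype.card_pos), ← pow_mul, hel]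
  have h1 : β ^ (∑ i ∈ Finset.range n, q ^ i) = 1 := by
    have hc0 : c ≠ 0 := fun h0 => by
      rw [h0] at hcl
      rcases Nat.eq_zero_or_pos l with hl0 | hl0
      · rw [hl0, mul_zero] at hel; omega
      · rw [zero_pow hl0.ne'] at hcl; exact zero_ne_one hcl
    have hpe : ∀ j, c ^ (q ^ e) ^ j = c := fun j => by
      rw [← pow_mul, FiniteField.pow_card_pow]
    rw [hgeo, pow_mul, ← hc, ← map_pow, ← Finset.prod_pow_eq_pow_sum]
    simp only [hpe, Finset.prod_const, Finset.card_range, hcl, map_one]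
  -- so the Singer power is in `F`
  have hy : (β ^ singer q n) ^ (q - 1) = 1 := by
    obtain ⟨k, hk⟩ := Nat.gcd_dvd_right n (q - 1)
    rw [hk, ← pow_mul, ← mul_assoc, singer, Nat.div_mul_cancel gcd_dvd_geo, pow_mul, h1, one_pow]
  obtain ⟨a, ha⟩ := pow_card_eq_self_mem (F := F) (x := β ^ singer q n) (by
    calc (β ^ singer q n) ^ q = (β ^ singer q n) ^ (q - 1 + 1) := by
            rw [Nat.sub_add_cancel Fintype.card_pos]
      _ = β ^ singer q n := by rw [pow_succ, hy, one_mul])
  refine ⟨a, toLinAlgEquiv'.injective ?_⟩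
  rw [map_pow, ← hφβ, ← map_pow, ← ha, φ.commutes, map_smul, map_one, Algebra.algebraMap_eq_smul_one]

theorem aeval_pow_card_pow {A : Matrix (Fin n) (Fin n) F} {P : F[X]} :
    ∀ k, aeval (A ^ q ^ k) P = (aeval A P) ^ q ^ k
  | 0 => by simp
  | k + 1 => by
    rw [pow_succ, pow_mul, ← expand_aeval, FiniteField.expand_card, map_pow, aeval_pow_card_pow k,
      ← pow_mul]

theorem exists_commute_of_idem {r : ℕ} (hr : r.Prime) (hrq : r ∣ q - 1) (hrn : ¬ r ∣ n) (hn : 1 ≤ n)
    {A : SLn} {E : Matrix (Fin n) (Fin n) F} (hc : Commute A.1 E) (hE' : E * E = E) (hEne : E ≠ 0)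
    (hEne' : 1 - E ≠ 0) :
    ∃ y : PSLn, orderOf y = r ∧ Commute (QuotientGroup.mk A : PSLn) y := by
  classical
  haveI : Nonempty (Fin n) := ⟨⟨0, hn⟩⟩
  have hE2 : E * (1 - E) = 0 := by rw [mul_sub, mul_one, hE', sub_self]
  haveI : Fact r.Prime := ⟨hr⟩
  obtain ⟨z, hz⟩ := exists_prime_orderOf_dvd_card (G := Fˣ) r (by rwa [Fintype.card_units])
  set ζ : F := (z : F) with hζ
  have hζr : ζ ^ r = 1 := by
    rw [hζ, ← Units.val_pow_eq_pow_val, ← hz, pow_orderOf_eq_one, Units.val_one]
  have hζ1 : ζ ≠ 1 := fun h0 => hr.one_lt.ne' (by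
    rw [← hz, orderOf_eq_one_iff]; exact Units.ext h0)
  set R := ζ • E + (1 - E) with hR
  have hRpow : ∀ k : ℕ, R ^ k = ζ ^ k • E + (1 - E) := by
    intro k
    induction k with
    | zero => simp
    | succ k ih =>
      rw [pow_succ, ih, hR]
      simp only [add_mul, mul_add, smul_mul_assoc, mul_smul_comm, sub_mul, mul_sub, one_mul, mul_one,
        hE', smul_smul, pow_succ, sub_self, smul_zero, zero_add, add_zero, sub_zero]
      rw [mul_comm ζ]
      abel
  have hRr : R ^ r = 1 := by rw [hRpow, hζr, one_smul, add_sub_cancel]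
  have hdet : R.det ^ r = 1 := by rw [← det_pow, hRr, det_one]
  obtain ⟨t, ht⟩ : ∃ t, r ∣ n * t + 1 := by
    have h1 : Nat.Coprime n r := ((Nat.Prime.coprime_iff_not_dvd hr).2 hrn).symm
    obtain ⟨t, -, ht⟩ := Nat.exists_mul_mod_eq_one_of_coprime h1 hr.one_lt
    refine ⟨t * (r - 1), ?_⟩
    have e1 := Nat.div_add_mod (n * t) r
    rw [ht] at e1
    refine ⟨n * t / r * (r - 1) + 1, ?_⟩
    have e2 : r - 1 + 1 = r := Nat.sub_add_cancel hr.pos
    calc n * (t * (r - 1)) + 1 = (n * t) * (r - 1) + 1 := by ring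
      _ = (r * (n * t / r) + 1) * (r - 1) + 1 := by rw [e1]
      _ = r * (n * t / r * (r - 1)) + (r - 1 + 1) := by ring
      _ = _ := by rw [e2]; ring
  have hd1 : (R.det ^ t • R).det = 1 := by
    rw [det_smul, Fintype.card_fin, ← pow_mul, ← pow_succ, mul_comm]
    obtain ⟨w, hw⟩ := ht
    rw [hw, pow_mul, hdet, one_pow]
  obtain ⟨W, hW⟩ : ∃ W : SLn, W.1 = R.det ^ t • R := ⟨⟨_, hd1⟩, rfl⟩
  refine ⟨QuotientGroup.mk W, orderOf_eq_prime ?_ ?_, ?_⟩
  · rw [← QuotientGroup.mk_pow, mk_eq_one]
    exact ⟨1, by rw [Matrix.SpecialLinearGroup.coe_pow, hW, _root_.smul_pow, hRr, ← pow_mul, mul_comm,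
      pow_mul, hdet, one_pow]⟩
  · intro h1
    obtain ⟨c, hc⟩ := mk_eq_one.1 h1
    rw [hW] at hc
    have hdne : R.det ^ t ≠ 0 := fun h0 => by
      rw [h0, zero_smul, det_zero] at hd1; exact zero_ne_one hd1
    set d := R.det ^ t
    change d • R = c • 1 at hc
    have h2 : (d * ζ - c) • E = 0 := by
      have := congrArg (· * E) hc
      simp only [hR, smul_mul_assoc, add_mul, sub_mul, one_mul, hE', sub_self, add_zero,
        smul_smul] at this
      rw [sub_smul, this, sub_self]
    have h3 : (d - c) • (1 - E) = 0 := by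
      have e : R * (1 - E) = 1 - E := by
        rw [hR, add_mul, smul_mul_assoc, hE2, smul_zero, zero_add, sub_mul, one_mul, hE2, sub_zero]
      have := congrArg (· * (1 - E)) hc
      simp only [smul_mul_assoc, one_mul, e] at this
      rw [sub_smul, this, sub_self]
    have e2 := (smul_eq_zero.1 h2).resolve_right hEne
    have e3 := (smul_eq_zero.1 h3).resolve_right hEne'
    exact hζ1 (mul_left_cancel₀ hdne (by linear_combination e2 - e3))
  · refine (Commute.map (x := A) ?_ (QuotientGroup.mk' _))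
    refine Subtype.ext ?_
    show A.1 * W.1 = W.1 * A.1
    rw [hW]
    exact (((hc.smul_right ζ).add_right ((Commute.one_right _).sub_right hc)).smul_right _).eq

/-- The dichotomy. -/
theorem dichotomy (p : ℕ) [Fact p.Prime] [CharP F p] (hn : 1 ≤ n) {r : ℕ} (hr : r.Prime)
    (hrq : r ∣ q - 1) (hrn : ¬ r ∣ n) (x : PSLn) :
    (∃ y : PSLn, orderOf y = r ∧ Commute x y) ∨
      orderOf x ∣ singer q n * p ^ Nat.clog p n := by
  classical
  obtain ⟨A, rfl⟩ := QuotientGroup.mk_surjective x
  have hint : IsIntegral F A.1 := Matrix.isIntegral _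
  haveI : Nonempty (Fin n) := ⟨⟨0, hn⟩⟩
  obtain ⟨P, hPm, hP, hPμ⟩ : ∃ P : F[X], P.Monic ∧ Irreducible P ∧ P ∣ (minpoly F A.1) :=
    exists_monic_irreducible_factor (minpoly F A.1) (minpoly.not_isUnit F A.1)
  obtain ⟨j, h, hh, hμh⟩ := WfDvdMonoid.max_power_factor (minpoly.ne_zero hint) hP
  by_cases hu : IsUnit h
  · right
    have hA0 : (aeval A.1 P) ^ j = 0 := by
      have : aeval A.1 (minpoly F A.1) = 0 := minpoly.aeval F A.1
      rw [hμh, map_mul, map_pow] at this
      exact (hu.map (aeval A.1)).mul_left_eq_zero.1 this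
    have hjn : j ≤ q ^ n := by
      have h1 : (minpoly F A.1).natDegree ≤ n := by
        have := natDegree_le_of_dvd (Matrix.minpoly_dvd_charpoly A.1) (Matrix.charpoly_monic A.1).ne_zero
        rwa [Matrix.charpoly_natDegree_eq_dim, Fintype.card_fin] at this
      have h2 : (P ^ j).natDegree ≤ (minpoly F A.1).natDegree :=
        natDegree_le_of_dvd ⟨h, hμh⟩ (minpoly.ne_zero hint)
      rw [natDegree_pow] at h2
      have := Nat.le_mul_of_pos_right j hP.natDegree_pos
      have := (Nat.lt_pow_self (Fintype.one_lt_card (α := F)) (n := n))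
      omega
    obtain ⟨c, hc⟩ := pow_singer_scalar hn (B := A.1 ^ q ^ n) (by rw [det_pow, A.2, one_pow]) hP
      (by rw [aeval_pow_card_pow, pow_eq_zero_of_le hjn hA0])
    have h1 : orderOf (QuotientGroup.mk A : PSLn) ∣ q ^ n * singer q n := by
      refine orderOf_dvd_of_pow_eq_one ?_
      rw [← QuotientGroup.mk_pow, mk_eq_one]
      exact ⟨c, by rw [Matrix.SpecialLinearGroup.coe_pow, pow_mul]; exact hc⟩
    have h2 : orderOf (QuotientGroup.mk A : PSLn) ∣ (q - 1) * p ^ Nat.clog p n * singer q n := by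
      refine orderOf_dvd_of_pow_eq_one ?_
      rw [← QuotientGroup.mk_pow, mk_eq_one]
      refine ⟨1, ?_⟩
      have hc0 : c ≠ 0 := fun h0 => by
        have := congrArg Matrix.det hc
        rw [det_pow, det_pow, A.2, one_pow, one_pow, h0, zero_smul, det_zero] at this
        exact one_ne_zero this
      have hone : (A.1 ^ ((q - 1) * singer q n)) ^ q ^ n = 1 := by
        rw [← pow_mul, show (q - 1) * singer q n * q ^ n = q ^ n * singer q n * (q - 1) by ring,
          pow_mul, pow_mul, hc, _root_.smul_pow, one_pow, FiniteField.pow_card_sub_one_eq_one c hc0, one_smul]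
      obtain ⟨f, hp, hf⟩ := FiniteField.card F p
      have hnil : IsNilpotent (A.1 ^ ((q - 1) * singer q n) - 1) := by
        refine ⟨p ^ ((f : ℕ) * n), (CfsgLib.GLClass.pow_prime_pow_eq_one_iff p _ _).1 ?_⟩
        rw [pow_mul p, ← hf, hone]
      have hfin : (A.1 ^ ((q - 1) * singer q n)) ^ p ^ Nat.clog p n = 1 := by
        rw [CfsgLib.GLClass.pow_prime_pow_eq_one_iff p]
        refine pow_eq_zero_of_le ?_ (CfsgLib.GLClass.pow_eq_zero_of_isNilpotent hnil)
        rw [Fintype.card_fin]
        exact Nat.le_pow_clog (Fact.out : p.Prime).one_lt _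
      rw [Matrix.SpecialLinearGroup.coe_pow, one_smul,
        show (q - 1) * p ^ Nat.clog p n * singer q n = (q - 1) * singer q n * p ^ Nat.clog p n by ring,
        pow_mul, hfin]
    have h3 := Nat.dvd_gcd h1 h2
    rw [Nat.gcd_mul_right, mul_comm] at h3
    refine h3.trans (mul_dvd_mul_left _ ?_)
    refine Nat.Coprime.dvd_of_dvd_mul_left ?_ (Nat.gcd_dvd_right _ _)
    refine Nat.Coprime.coprime_dvd_left (Nat.gcd_dvd_left _ _) (Nat.Coprime.pow_left _ ?_)
    have hq := Fintype.card_pos (α := F)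
    obtain ⟨k, hk⟩ : ∃ k, q = k + 1 := ⟨q - 1, by omega⟩
    rw [hk, Nat.add_sub_cancel]
    simp
  · left
    have hco : IsCoprime (P ^ j) h := (hP.coprime_iff_not_dvd.2 hh).pow_left
    obtain ⟨u, v, huv⟩ := hco
    have hμ0 : aeval A.1 (P ^ j) * aeval A.1 h = 0 := by
      rw [← map_mul, ← hμh]; exact minpoly.aeval F A.1
    set E := aeval A.1 (u * P ^ j) with hE
    have hsum : E + aeval A.1 (v * h) = 1 := by rw [hE, ← map_add, huv, map_one]
    have hE2 : E * (1 - E) = 0 := by
      rw [show 1 - E = aeval A.1 (v * h) from sub_eq_iff_eq_add'.2 hsum.symm, hE, ← map_mul,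
        show u * P ^ j * (v * h) = u * v * (P ^ j * h) by ring, map_mul, map_mul _ (P ^ j), hμ0, mul_zero]
    have hdvd : ∀ g : F[X], aeval A.1 g = 0 → P ^ j * h ∣ g := fun g hg => hμh ▸ minpoly.dvd F A.1 hg
    have hne0 : P ^ j ≠ 0 := pow_ne_zero _ hP.ne_zero
    have hh0 : h ≠ 0 := fun h0 => minpoly.ne_zero hint (by rw [hμh, h0, mul_zero])
    have hj : j ≠ 0 := fun h0 => by
      subst h0
      rw [pow_zero, one_mul] at hμh
      exact hh (hμh ▸ hPμ)
    have hEne : E ≠ 0 := fun h0 => by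
      rw [h0, zero_add] at hsum
      have h1 : aeval A.1 (P ^ j) = 0 := by
        calc aeval A.1 (P ^ j) = aeval A.1 (P ^ j) * aeval A.1 (v * h) := by rw [hsum, mul_one]
          _ = aeval A.1 v * (aeval A.1 (P ^ j) * aeval A.1 h) := by
            rw [← map_mul, ← map_mul, ← map_mul]; congr 1; ring
          _ = 0 := by rw [hμ0, mul_zero]
      have h2 := hdvd _ h1
      exact hu (isUnit_of_dvd_one ((mul_dvd_mul_iff_left hne0).1 (h2.trans (by rw [mul_one]))))
    have hEne' : 1 - E ≠ 0 := fun h0 => by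
      rw [sub_eq_zero] at h0
      have h1 : aeval A.1 h = 0 := by
        calc aeval A.1 h = aeval A.1 h * E := by rw [← h0, mul_one]
          _ = aeval A.1 u * (aeval A.1 (P ^ j) * aeval A.1 h) := by
            rw [hE, ← map_mul, ← map_mul, ← map_mul]; congr 1; ring
          _ = 0 := by rw [hμ0, mul_zero]
      have h2 := hdvd _ h1
      have h3 : P ^ j ∣ 1 :=
        (mul_dvd_mul_iff_right hh0).1 (h2.trans (by rw [one_mul]))
      exact hP.not_isUnit (isUnit_of_dvd_one ((dvd_pow_self P hj).trans h3))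
    refine exists_commute_of_idem hr hrq hrn hn ?_ (by
      rw [mul_sub, mul_one, sub_eq_zero] at hE2; exact hE2.symm) hEne hEne'
    have := (Commute.all (X : F[X]) (u * P ^ j)).map (aeval A.1)
    rwa [aeval_X] at this

/-- Singer element of `PSL_n(q)`. -/
theorem exists_singer (hn : 1 ≤ n) : ∃ x : PSLn, orderOf x = singer q n := by
  classical
  obtain ⟨p, hp⟩ := CharP.exists F
  haveI : Fact p.Prime := ⟨CharP.char_is_prime F p⟩
  haveI : NeZero n := ⟨by omega⟩
  let K := FiniteField.Extension F p n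
  have hfin : Module.finrank F K = n := FiniteField.finrank_extension F p n
  let b := Module.finBasisOfFinrankEq F K hfin
  obtain ⟨u, hu⟩ := IsCyclic.exists_ofOrder_eq_natCard (α := Kˣ)
  rw [Nat.card_units, FiniteField.natCard_extension, Nat.card_eq_fintype_card] at hu
  set S := ∑ i ∈ Finset.range n, q ^ i with hS
  have hq1 : 0 < q - 1 := Nat.sub_pos_of_lt Fintype.one_lt_card
  have hSq : (q - 1) * S = q ^ n - 1 := by
    have := geom_sum_mul_add (q - 1) n
    rw [Nat.sub_add_cancel (show 1 ≤ q from Fintype.card_pos)] at this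
    rw [mul_comm, hS]
    omega
  set g : K := (u : K) ^ (q - 1) with hg
  have hdet : (Algebra.leftMulMatrix b g).det = 1 := by
    rw [← Algebra.norm_eq_matrix_det]
    apply (algebraMap F K).injective
    rw [FiniteField.algebraMap_norm_eq_pow, map_one, FiniteField.natCard_extension, Nat.card_eq_fintype_card,
      ← Nat.geomSum_eq Fintype.one_lt_card, hg, ← pow_mul, ← hS, hSq, ← Units.val_pow_eq_pow_val, ← hu,
      pow_orderOf_eq_one, Units.val_one]
  let A : SLn := ⟨Algebra.leftMulMatrix b g, hdet⟩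
  refine ⟨QuotientGroup.mk A, ?_⟩
  have key : ∀ k, (QuotientGroup.mk A : PSLn) ^ k = 1 ↔ singer q n ∣ k := by
    intro k
    rw [← QuotientGroup.mk_pow, mk_eq_one]
    have hA : ∀ c : F, (A ^ k : SLn).1 = c • 1 ↔ g ^ k = algebraMap F K c := fun c => by
      rw [Matrix.SpecialLinearGroup.coe_pow, ← (Algebra.leftMulMatrix_injective b).eq_iff, map_pow,
        AlgHom.commutes, Algebra.algebraMap_eq_smul_one]
    simp only [hA]
    have hfix : (∃ c : F, g ^ k = algebraMap F K c) ↔ (u : K) ^ ((q - 1) * k * (q - 1)) = 1 := by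
      constructor
      · rintro ⟨c, hc⟩
        rw [pow_mul, pow_mul, ← hg, hc, ← map_pow, FiniteField.pow_card_sub_one_eq_one c, map_one]
        intro h0
        rw [h0, map_zero, hg] at hc
        exact pow_ne_zero _ (pow_ne_zero _ u.ne_zero) hc
      · intro h
        rw [pow_mul, pow_mul, ← hg] at h
        obtain ⟨c, hc⟩ := pow_card_eq_self_mem (F := F) (x := g ^ k) (by
          calc (g ^ k) ^ q = (g ^ k) ^ (q - 1 + 1) := by rw [Nat.sub_add_cancel Fintype.card_pos]
            _ = g ^ k := by rw [pow_succ, h, one_mul])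
        exact ⟨c, hc.symm⟩
    rw [hfix, ← Units.val_pow_eq_pow_val, Units.val_eq_one, ← orderOf_dvd_iff_pow_eq_one, hu, ← hSq,
      mul_assoc, Nat.mul_dvd_mul_iff_left hq1]
    have hd0 : 0 < Nat.gcd n (q - 1) := Nat.gcd_pos_of_pos_left _ hn
    have e : singer q n = S / Nat.gcd S (q - 1) := by rw [hS, gcd_geo]; rfl
    have hpos : 0 < Nat.gcd S (q - 1) := by rw [hS, gcd_geo]; exact hd0
    obtain ⟨a, ha⟩ := Nat.gcd_dvd_left S (q - 1)
    obtain ⟨c, hc⟩ := Nat.gcd_dvd_right S (q - 1)
    have ea : S / Nat.gcd S (q - 1) = a := Nat.div_eq_of_eq_mul_right hpos ha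
    have hcop : Nat.Coprime a c := by
      have h1 := Nat.coprime_div_gcd_div_gcd hpos
      rwa [ea, Nat.div_eq_of_eq_mul_right hpos hc] at h1
    rw [e, ea]
    constructor
    · intro h
      have h' : Nat.gcd S (q - 1) * a ∣ Nat.gcd S (q - 1) * (k * c) := by
        rw [mul_left_comm, ← ha, ← hc]; exact h
      exact hcop.dvd_of_dvd_mul_right ((Nat.mul_dvd_mul_iff_left hpos).1 h')
    · intro h
      have h' : Nat.gcd S (q - 1) * a ∣ Nat.gcd S (q - 1) * (k * c) :=
        (Nat.mul_dvd_mul_iff_left hpos).2 (h.mul_right _)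
      rwa [mul_left_comm, ← ha, ← hc] at h'
  exact Nat.dvd_antisymm (orderOf_dvd_iff_pow_eq_one.2 ((key _).2 dvd_rfl)) ((key _).1 (pow_orderOf_eq_one _))

/-- Powers of a unipotent are scalar only if trivial. -/
theorem orderOf_mk_unipotent (p : ℕ) [Fact p.Prime] [CharP F p] (hn : 1 ≤ n) {U : SLn} {t : ℕ}
    (hU : orderOf U = p ^ t) : orderOf (QuotientGroup.mk U : PSLn) = p ^ t := by
  refine Nat.dvd_antisymm (hU ▸ orderOf_map_dvd (QuotientGroup.mk' _) U) ?_
  rw [← hU]
  refine orderOf_dvd_of_pow_eq_one ?_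
  set k := orderOf (QuotientGroup.mk U : PSLn)
  obtain ⟨c, hc⟩ := mk_eq_one.1 (show (QuotientGroup.mk (U ^ k) : PSLn) = 1 by
    rw [QuotientGroup.mk_pow, pow_orderOf_eq_one])
  haveI : Nonempty (Fin n) := ⟨⟨0, hn⟩⟩
  have h1 : c ^ p ^ t = 1 := by
    have h2 : ((U ^ k) ^ p ^ t : SLn) = 1 := by rw [← pow_mul, mul_comm, pow_mul, ← hU, pow_orderOf_eq_one, one_pow]
    have h3 := congrArg (fun B : SLn => B.1 ⟨0, hn⟩ ⟨0, hn⟩) h2
    simpa [Matrix.SpecialLinearGroup.coe_pow (A := U ^ k), hc, _root_.smul_pow] using h3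
  have h4 : c = 1 := by
    have h5 : (c - 1) ^ p ^ t = 0 := by rw [sub_pow_char_pow, h1, one_pow, sub_self]
    exact sub_eq_zero.1 (eq_zero_of_pow_eq_zero h5)
  refine Subtype.ext ?_
  rw [hc, h4, one_smul]
  rfl

theorem exists_unipotent (p : ℕ) [Fact p.Prime] [CharP F p] {m : ℕ} (hm : 1 ≤ m) (hmn : m ≤ n) :
    ∃ U : SLn, orderOf U = p ^ Nat.clog p m ∧
      ∀ l : Fin n, m ≤ l.val → Commute U.1 (Matrix.single l l (1 : F)) := by
  classical
  let N : Matrix (Fin n) (Fin n) F :=
    Matrix.of fun i j => if j.val = i.val + 1 ∧ j.val < m then 1 else 0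
  have hpow : ∀ k, N ^ (k + 1) = Matrix.of fun i j : Fin n =>
      if j.val = i.val + (k + 1) ∧ j.val < m then (1 : F) else 0 := by
    intro k
    induction k with
    | zero => simp [N]
    | succ k ih =>
      ext i j
      rw [pow_succ, ih, Matrix.mul_apply]
      simp only [N, Matrix.of_apply]
      by_cases hk : i.val + (k + 1) < m
      · rw [Finset.sum_eq_single ⟨i.val + (k + 1), by omega⟩]
        · simp [hk, add_assoc]
        · intro l _ hl
          rw [if_neg (fun h => hl (Fin.ext h.1)), zero_mul]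
        · simp
      · rw [if_neg (by omega)]
        refine Finset.sum_eq_zero fun l _ => ?_
        rw [if_neg (by omega), zero_mul]
  have hzero : N ^ m = 0 := by
    obtain ⟨k, rfl⟩ : ∃ k, m = k + 1 := ⟨m - 1, by omega⟩
    rw [hpow]
    ext i j
    simp only [Matrix.of_apply, Matrix.zero_apply]
    rw [if_neg (by omega)]
  have hne : ∀ k, k < m → N ^ k ≠ 0 := by
    intro k hk h0
    rcases k with _ | k
    · have := congrFun (congrFun h0 ⟨0, by omega⟩) ⟨0, by omega⟩
      simp at this
    · have := congrFun (congrFun h0 ⟨0, by omega⟩) ⟨k + 1, by omega⟩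
      rw [hpow] at this
      simp [hk] at this
  have hdet : (1 + N).det = 1 := by
    rw [Matrix.det_of_upperTriangular]
    · simp [N]
    · intro i j hij
      simp only [Fin.lt_def, id_eq] at hij
      rw [Matrix.add_apply, Matrix.one_apply_ne (by intro h; subst h; omega)]
      simp only [N, Matrix.of_apply, zero_add]
      rw [if_neg (by omega)]
  obtain ⟨U, hU⟩ : ∃ U : SLn, U.1 = 1 + N := ⟨⟨_, hdet⟩, rfl⟩
  have hUp : ∀ k, U ^ p ^ k = 1 ↔ m ≤ p ^ k := by
    intro k
    haveI : Nonempty (Fin n) := ⟨⟨0, by omega⟩⟩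
    rw [show (U ^ p ^ k = 1 ↔ (U ^ p ^ k).1 = (1 : SLn).1) from ⟨fun h => by rw [h], fun h => Subtype.ext h⟩, Matrix.SpecialLinearGroup.coe_pow, hU, Matrix.SpecialLinearGroup.coe_one,
      CfsgLib.GLClass.pow_prime_pow_eq_one_iff, add_sub_cancel_left]
    constructor
    · intro h
      by_contra hlt
      exact hne _ (by omega) h
    · intro h
      exact pow_eq_zero_of_le h hzero
  refine ⟨U, ?_, fun l hl => ?_⟩
  · have hp := (Fact.out : p.Prime)
    rcases hc : Nat.clog p m with _ | t
    · rw [pow_zero, orderOf_eq_one_iff]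
      simpa using (hUp 0).2 ((Nat.le_pow_clog hp.one_lt m).trans_eq (by rw [hc]))
    · refine orderOf_eq_prime_pow ?_ ((hUp _).2 (hc ▸ Nat.le_pow_clog hp.one_lt m))
      rw [hUp]
      intro h
      have := (Nat.clog_le_iff_le_pow hp.one_lt).2 h
      omega
  · rw [hU]
    refine (Commute.one_left _).add_left ?_
    have h1 : N * Matrix.single l l (1 : F) = 0 := by
      ext i j
      by_cases hj : j = l
      · subst hj; simp [N]; omega
      · simp [Matrix.mul_single_apply_of_ne _ _ _ _ _ hj]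
    have h2 : Matrix.single l l (1 : F) * N = 0 := by
      ext i j
      by_cases hi : i = l
      · subst hi; simp [N]; omega
      · simp [Matrix.single_mul_apply_of_ne _ _ _ _ _ hi]
    exact h1.trans h2.symm

end CfsgLib.Absorb
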