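import Mathlib
import Cfsg.Agent.Lib.GLClass.Semisimple

/-!
Matrices with irreducible characteristic polynomial: the centraliser is a field's unit group.
-/

set_option autoImplicit false

namespace CfsgLib.GLClass

open Polynomial Matrix Module

variable {F : Type*} [Field F] {n : ℕ}

theorem centralizer_of_irreducible [Fintype F] (hn : 1 ≤ n) (x : GL (Fin n) F)
    (hirr : Irreducible (x : Matrix (Fin n) (Fin n) F).charpoly) :
    IsCyclic (Subgroup.centralizer ({x} : Set (GL (Fin n) F))) ∧
      Nat.card (Subgroup.centralizer ({x} : Set (GL (Fin n) F))) = Fintype.card F ^ n - 1 := by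
  classical
  set A : Matrix (Fin n) (Fin n) F := (x : Matrix (Fin n) (Fin n) F)
  haveI : Fact (Irreducible A.charpoly) := ⟨hirr⟩
  haveI : Nonempty (Fin n) := ⟨⟨0, hn⟩⟩
  let φ : AdjoinRoot A.charpoly →ₐ[F] Matrix (Fin n) (Fin n) F :=
    Ideal.Quotient.liftₐ _ (aeval A) fun a ha => by
      obtain ⟨c, rfl⟩ := Ideal.mem_span_singleton'.1 ha
      rw [map_mul, Matrix.aeval_self_charpoly, mul_zero]
  have hroot : φ (AdjoinRoot.root A.charpoly) = A := by
    change aeval A X = A
    simp
  have hinj : Function.Injective φ := φ.toRingHom.injective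
  haveI : Module.Finite F (AdjoinRoot A.charpoly) := A.charpoly_monic.finite_adjoinRoot
  haveI : Finite (AdjoinRoot A.charpoly) := Module.finite_of_finite F
  have hcard : Nat.card (AdjoinRoot A.charpoly) = Fintype.card F ^ n := by
    rw [Module.natCard_eq_pow_finrank (K := F), Nat.card_eq_fintype_card]
    congr 1
    have := finrank_quotient_span_eq_natDegree (K := F) (f := A.charpoly)
    rw [Matrix.charpoly_natDegree_eq_dim, Fintype.card_fin] at this
    exact this
  let v : Fin n → F := Pi.single ⟨0, hn⟩ 1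
  have hv : v ≠ 0 := fun h => by simpa [v] using congrFun h ⟨0, hn⟩
  have hsurj : ∀ w : Fin n → F, ∃ c, φ c *ᵥ v = w := by
    have hi : Function.Injective fun c : AdjoinRoot A.charpoly => φ c *ᵥ v := by
      intro b c hbc
      by_contra hne
      have hu : IsUnit (φ (b - c)) := (isUnit_iff_ne_zero.2 (sub_ne_zero.2 hne)).map φ
      refine hv (Matrix.mulVec_injective_iff_isUnit.2 hu ?_)
      change φ (b - c) *ᵥ v = φ (b - c) *ᵥ 0
      rw [map_sub, Matrix.sub_mulVec, Matrix.mulVec_zero]
      exact sub_eq_zero.2 hbc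
    have h2 : Nat.card (AdjoinRoot A.charpoly) = Nat.card (Fin n → F) := by
      rw [hcard, Nat.card_fun, Nat.card_fin, Nat.card_eq_fintype_card]
    exact ((Nat.bijective_iff_injective_and_card _).2 ⟨hi, h2⟩).2
  let f : (AdjoinRoot A.charpoly)ˣ →* GL (Fin n) F := Units.map φ.toRingHom.toMonoidHom
  have hf : Function.Injective f := Units.map_injective hinj
  have hrange : f.range = Subgroup.centralizer {x} := by
    ext M
    rw [Subgroup.mem_centralizer_singleton_iff]
    constructor
    · rintro ⟨c, rfl⟩
      apply Units.ext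
      change φ c * A = A * φ c
      conv_lhs => arg 2; rw [← hroot]
      conv_rhs => arg 1; rw [← hroot]
      rw [← map_mul, ← map_mul, mul_comm]
    · intro hM
      have hMA : Commute (M : Matrix (Fin n) (Fin n) F) A := congrArg Units.val hM
      have hcomm : ∀ b, Commute (M : Matrix (Fin n) (Fin n) F) (φ b) := by
        intro b
        obtain ⟨g, rfl⟩ := AdjoinRoot.mk_surjective b
        change Commute _ (aeval A g)
        induction g using Polynomial.induction_on' with
        | add p q hp hq => rw [map_add]; exact hp.add_right hq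
        | monomial k a =>
          rw [aeval_monomial]
          exact (Algebra.commute_algebraMap_right a _).mul_right (hMA.pow_right k)
      obtain ⟨c, hc⟩ := hsurj ((M : Matrix (Fin n) (Fin n) F) *ᵥ v)
      have hMc : φ c = (M : Matrix (Fin n) (Fin n) F) := by
        refine Matrix.ext_of_mulVec_single fun i => ?_
        obtain ⟨b, hb⟩ := hsurj (Pi.single i 1)
        rw [← hb, Matrix.mulVec_mulVec, Matrix.mulVec_mulVec, (hcomm b).eq, ← map_mul, mul_comm,
          map_mul, ← Matrix.mulVec_mulVec, ← Matrix.mulVec_mulVec, hc]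
      have hc0 : c ≠ 0 := by
        rintro rfl
        rw [map_zero] at hMc
        exact M.isUnit.ne_zero hMc.symm
      exact ⟨Units.mk0 c hc0, Units.ext hMc⟩
  rw [← hrange]
  refine ⟨isCyclic_of_surjective f.rangeRestrict f.rangeRestrict_surjective, ?_⟩
  rw [← Nat.card_congr (MonoidHom.ofInjective hf).toEquiv, Nat.card_units, hcard]

theorem irreducible_charpoly_of_primitive [Fintype F] {p : ℕ} [Fact p.Prime] [CharP F p]
    {r : ℕ} (hr : r.Prime) (hrp : r ≠ p) (hn : orderOf (Fintype.card F : ZMod r) = n)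
    (x : GL (Fin n) F) (hx : orderOf x = r) :
    Irreducible (x : Matrix (Fin n) (Fin n) F).charpoly := by
  classical
  set A : Matrix (Fin n) (Fin n) F := (x : Matrix (Fin n) (Fin n) F)
  obtain ⟨g, hg, hg0⟩ := isSS_of_coprime p x (by
    rw [hx]; exact (Nat.coprime_primes hr Fact.out).2 hrp)
  obtain ⟨D⟩ := exists_modDecomp A
  have he := D.exp_eq_one hg (smul_eq_zero_of_aeval hg0)
  have hAr : aeval A (X ^ r - 1 : F[X]) = 0 := by
    rw [map_sub, map_pow, aeval_X, map_one, ← Units.val_pow_eq_pow_val, ← hx, pow_orderOf_eq_one,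
      Units.val_one, sub_self]
  have hdvd : ∀ i, D.P i ∣ X ^ r - 1 := by
    intro i
    have h1 := congrFun (congrArg D.equiv (smul_eq_zero_of_aeval hAr (D.equiv.symm
      (Pi.single i (Submodule.Quotient.mk 1))))) i
    rw [map_smul, map_zero, LinearEquiv.apply_symm_apply, Pi.smul_apply, Pi.single_eq_same,
      ← Submodule.Quotient.mk_smul, Pi.zero_apply, Submodule.Quotient.mk_eq_zero, smul_eq_mul,
      mul_one, Ideal.mem_span_singleton, he, pow_one] at h1
    exact h1
  obtain ⟨i, hi⟩ : ∃ i, D.P i ≠ X - C 1 := by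
    by_contra! h
    have hz : aeval A (X - C (1 : F)) = 0 := aeval_eq_zero_of_smul fun v => by
      apply D.equiv.injective
      rw [map_smul, map_zero]
      funext i
      obtain ⟨w, hw⟩ := Submodule.mkQ_surjective _ (D.equiv v i)
      rw [Pi.smul_apply, Pi.zero_apply, ← hw, Submodule.mkQ_apply, ← Submodule.Quotient.mk_smul,
        Submodule.Quotient.mk_eq_zero, smul_eq_mul, Ideal.mem_span_singleton, he, pow_one, h]
      exact dvd_mul_right _ _
    rw [map_sub, aeval_X, aeval_C, map_one, sub_eq_zero] at hz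
    refine hr.one_lt.ne' ?_
    have hx1 : x = 1 := Units.ext hz
    rw [← hx, hx1, orderOf_one]
  haveI : Fact (Irreducible (D.P i)) := ⟨D.irred i⟩
  haveI : Module.Finite F (AdjoinRoot (D.P i)) := (D.monic i).finite_adjoinRoot
  haveI : Finite (AdjoinRoot (D.P i)) := Module.finite_of_finite F
  set z := AdjoinRoot.root (D.P i)
  have hzr : z ^ r = 1 := by
    obtain ⟨c, hc⟩ := hdvd i
    have h2 := congrArg (AdjoinRoot.mk (D.P i)) hc
    rwa [map_mul, AdjoinRoot.mk_self, zero_mul, map_sub, map_pow, AdjoinRoot.mk_X, map_one,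
      sub_eq_zero] at h2
  have hz1 : z ≠ 1 := by
    intro h
    have h2 : AdjoinRoot.mk (D.P i) (X - C 1) = 0 := by
      rw [map_sub, AdjoinRoot.mk_X, map_one, map_one]
      exact sub_eq_zero.2 h
    exact hi (eq_of_monic_of_associated (D.monic i) (monic_X_sub_C 1)
      ((D.irred i).associated_of_dvd (irreducible_X_sub_C 1) (AdjoinRoot.mk_eq_zero.1 h2)))
  haveI : Fact r.Prime := ⟨hr⟩
  have hz0 : z ≠ 0 := by
    intro h
    rw [h, zero_pow hr.ne_zero] at hzr
    exact zero_ne_one hzr
  have hord : orderOf z = r := orderOf_eq_prime hzr hz1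
  have hcard : Nat.card (AdjoinRoot (D.P i)) = Fintype.card F ^ (D.P i).natDegree := by
    rw [Module.natCard_eq_pow_finrank (K := F), Nat.card_eq_fintype_card]
    exact congrArg _ (finrank_quotient_span_eq_natDegree (K := F) (f := D.P i))
  have hdiv : r ∣ Fintype.card F ^ (D.P i).natDegree - 1 := by
    rw [← hord, ← hcard, ← Nat.card_units, ← Units.val_mk0 hz0, orderOf_units]
    exact orderOf_dvd_natCard _
  have hge : n ∣ (D.P i).natDegree := by
    refine (dvd_of_eq hn.symm).trans (orderOf_dvd_of_pow_eq_one ?_)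
    have h3 := (ZMod.natCast_eq_natCast_iff' _ _ r).2
      (((Nat.modEq_iff_dvd' (Nat.one_le_pow _ _ Fintype.card_pos)).2 hdiv).symm)
    simpa using h3
  have hdeg : ∑ j, (D.P j).natDegree = n := by
    have h4 := congrArg natDegree D.charpoly_eq
    rw [charpoly_mulX_mod, Matrix.charpoly_natDegree_eq_dim, Fintype.card_fin,
      natDegree_prod_of_monic _ _ fun j _ => (D.monic j).pow _] at h4
    simp only [he, pow_one] at h4
    exact h4.symm
  have hsub : (D.P i).natDegree + ∑ j ∈ Finset.univ.erase i, (D.P j).natDegree = n :=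
    (Finset.add_sum_erase _ (fun j => (D.P j).natDegree) (Finset.mem_univ i)).trans hdeg
  have hle : n ≤ (D.P i).natDegree := Nat.le_of_dvd (D.irred i).natDegree_pos hge
  have huniv : (Finset.univ : Finset D.ι) = {i} := by
    refine Finset.eq_singleton_iff_unique_mem.2 ⟨Finset.mem_univ i, fun j _ => ?_⟩
    by_contra hj
    have h5 := Finset.single_le_sum (f := fun j => (D.P j).natDegree) (fun _ _ => Nat.zero_le _)
      (Finset.mem_erase.2 ⟨hj, Finset.mem_univ j⟩)
    have := (D.irred j).natDegree_pos
    omega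
  rw [← charpoly_mulX_mod, D.charpoly_eq, huniv, Finset.prod_singleton, he, pow_one]
  exact D.irred i

end CfsgLib.GLClass
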