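import Mathlib

/-!
Products of two conjugacy classes in `PSL_2`.
-/

set_option autoImplicit false

namespace CfsgLib.GLClass.TwoProd

open Matrix

variable {F : Type*} [Field F]

local notation "SL2" => Matrix.SpecialLinearGroup (Fin 2) F

/-- Normal form `!![0, -1/d; d, σ]`. -/
def nf (d : Fˣ) (σ : F) : SL2 := ⟨!![0, -(d⁻¹ : Fˣ); (d : F), σ], by simp [det_fin_two]⟩

theorem nf_trace (d : Fˣ) (σ : F) : (nf d σ).1.trace = σ := by simp [nf, trace_fin_two]

theorem exists_nf (A : SL2) (hA : ¬ ∃ c : F, A.1 = c • 1) :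
    ∃ (u : SL2) (d : Fˣ), A = u * nf d A.1.trace * u⁻¹ := by
  obtain ⟨v, hv⟩ : ∃ v : Fin 2 → F, LinearIndependent F ![v, A.1 *ᵥ v] := by
    by_contra hne
    simp only [not_exists] at hne
    obtain ⟨c, hc⟩ := LinearMap.exists_eq_smul_id_of_forall_notLinearIndependent
      (f := Matrix.toLin' A.1) (fun v => by simpa [Matrix.toLin'_apply] using hne v)
    refine hA ⟨c, ?_⟩
    apply Matrix.toLin'.injective
    rw [hc, map_smul, Matrix.toLin'_one]
    rfl
  set w := A.1 *ᵥ v with hw
  set δ := v 0 * w 1 - v 1 * w 0 with hδ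
  have hδ0 : δ ≠ 0 := by
    intro h
    have hu : IsUnit (Matrix.of ![v, w]) :=
      linearIndependent_rows_iff_isUnit.1 hv
    rw [isUnit_iff_isUnit_det] at hu
    apply hu.ne_zero
    simp [det_fin_two]
    linear_combination h
  let u : SL2 := ⟨!![v 0, w 0 / δ; v 1, w 1 / δ], by
    simp [det_fin_two]; field_simp; linear_combination -hδ⟩
  refine ⟨u, Units.mk0 δ hδ0, ?_⟩
  rw [eq_mul_inv_iff_mul_eq]
  have hdet : A.1 0 0 * A.1 1 1 - A.1 0 1 * A.1 1 0 = 1 := by rw [← det_fin_two]; exact A.2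
  have w0 : w 0 = A.1 0 0 * v 0 + A.1 0 1 * v 1 := by simp [hw, mulVec, dotProduct, Fin.sum_univ_two]
  have w1 : w 1 = A.1 1 0 * v 0 + A.1 1 1 * v 1 := by simp [hw, mulVec, dotProduct, Fin.sum_univ_two]
  apply Subtype.ext
  rw [Matrix.SpecialLinearGroup.coe_mul, Matrix.SpecialLinearGroup.coe_mul]
  ext i j
  fin_cases i <;> fin_cases j <;>
    simp [u, nf, Matrix.mul_apply, Fin.sum_univ_two, trace_fin_two] <;> field_simp <;>
    first
      | linear_combination -w0
      | linear_combination -w1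
      | linear_combination (A.1 0 1) * w1 - (A.1 1 1) * w0 - (v 0) * hdet
      | linear_combination -(A.1 0 1) * w1 + (A.1 1 1) * w0 + (v 0) * hdet
      | linear_combination (A.1 1 0) * w0 - (A.1 0 0) * w1 - (v 1) * hdet
      | linear_combination -(A.1 1 0) * w0 + (A.1 0 0) * w1 + (v 1) * hdet

theorem exists_rep [Finite F] {τ : F} (hτ : τ ^ 2 ≠ 4) {e : F} (he : e ≠ 0) :
    ∃ x y : F, x ^ 2 + τ * x * y + y ^ 2 = e := by
  classical
  haveI : Fintype F := Fintype.ofFinite F
  by_cases h2 : ringChar F = 2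
  · obtain ⟨x, hx⟩ := FiniteField.isSquare_of_char_two h2 e
    exact ⟨x, 0, by rw [hx]; ring⟩
  · haveI h2' : NeZero (2 : F) := ⟨Ring.two_ne_zero h2⟩
    have h4 : (4 : F) ≠ 0 := by
      have := mul_ne_zero h2'.out h2'.out
      norm_num at this
      exact this
    have hc : (4 - τ ^ 2) / 4 ≠ 0 := div_ne_zero (sub_ne_zero.2 hτ.symm) h4
    open Polynomial in
    obtain ⟨a, b, hab⟩ := FiniteField.exists_root_sum_quadratic
      (f := (X ^ 2 : Polynomial F)) (g := C ((4 - τ ^ 2) / 4) * X ^ 2 - C e)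
      (by simp) (by
        rw [Polynomial.degree_sub_C (by rw [Polynomial.degree_C_mul_X_pow _ hc]; norm_num),
          Polynomial.degree_C_mul_X_pow _ hc]; rfl)
      (FiniteField.odd_card_of_char_ne_two h2)
    simp at hab
    refine ⟨a - τ * b / 2, b, ?_⟩
    linear_combination hab + (by field_simp; ring : (a - τ * b / 2) ^ 2 + τ * (a - τ * b / 2) * b
      + b ^ 2 - (a ^ 2 + (4 - τ ^ 2) / 4 * b ^ 2) = 0)

theorem conj_of_trace [Finite F] {A B : SL2} (h : A.1.trace = B.1.trace)
    (hτ : A.1.trace ^ 2 ≠ 4) : ∃ u : SL2, B = u * A * u⁻¹ := by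
  have hns : ∀ {C : SL2}, C.1.trace ^ 2 ≠ 4 → ¬ ∃ c : F, C.1 = c • 1 := by
    rintro C hC ⟨c, hc⟩
    have hd := C.2
    rw [hc, det_smul, det_one, Fintype.card_fin, mul_one] at hd
    apply hC
    rw [hc, trace_fin_two]
    simp
    linear_combination (4 : F) * hd
  obtain ⟨u, d, hu⟩ := exists_nf A (hns hτ)
  obtain ⟨v, d', hv⟩ := exists_nf B (hns (h ▸ hτ))
  rw [← h] at hv
  set τ := A.1.trace
  set r : Fˣ := d' * d⁻¹ with hr
  obtain ⟨x, y, hxy⟩ := exists_rep hτ (e := ((r⁻¹ : Fˣ) : F)) (Units.ne_zero _)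
  let M : SL2 := ⟨!![x, y * -(d⁻¹ : Fˣ); r * (y * d), r * (x + τ * y)], by
    simp [det_fin_two]
    have h1 : ((d : F))⁻¹ * d = 1 := inv_mul_cancel₀ d.ne_zero
    have h2 : (r : F) * (r : F)⁻¹ = 1 := mul_inv_cancel₀ r.ne_zero
    rw [Units.val_inv_eq_inv_val] at hxy
    linear_combination (r : F) * hxy + h2 + y ^ 2 * r * h1⟩
  have hM : M * nf d τ = nf d' τ * M := by
    have hd' : (d' : F) = r * d := by
      rw [hr, Units.val_mul, mul_assoc, ← Units.val_mul, inv_mul_cancel, Units.val_one, mul_one]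
    apply Subtype.ext
    rw [Matrix.SpecialLinearGroup.coe_mul, Matrix.SpecialLinearGroup.coe_mul]
    ext i j
    fin_cases i <;> fin_cases j <;>
      simp [M, nf, Matrix.mul_apply, Fin.sum_univ_two, hd'] <;> field_simp <;> ring
  refine ⟨v * M * u⁻¹, ?_⟩
  rw [hv, hu, show nf d' τ = M * nf d τ * M⁻¹ by rw [hM]; group]
  group

theorem trace_sq_ne_four {p : ℕ} [Fact p.Prime] [CharP F p] (X : SL2)
    (h : ¬ ∃ m : ℕ, m ∣ 2 * p ∧ 0 < m ∧ X ^ m = 1) : X.1.trace ^ 2 ≠ 4 := by
  intro hτ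
  apply h
  obtain ⟨c, hc, hcc⟩ : ∃ c : F, X.1.trace = 2 * c ∧ c * c = 1 := by
    have h0 : (X.1.trace - 2) * (X.1.trace + 2) = 0 := by linear_combination hτ
    rcases mul_eq_zero.1 h0 with h1 | h1
    · exact ⟨1, by linear_combination h1, one_mul 1⟩
    · exact ⟨-1, by linear_combination h1, by ring⟩
  have hd : X.1 0 0 * X.1 1 1 - X.1 0 1 * X.1 1 0 = 1 := by rw [← det_fin_two]; exact X.2
  rw [trace_fin_two] at hc
  set N := X.1 - c • (1 : Matrix (Fin 2) (Fin 2) F) with hN
  have hN2 : N ^ 2 = 0 := by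
    rw [pow_two]
    ext i j
    fin_cases i <;> fin_cases j <;>
      simp [hN, Matrix.mul_apply, Fin.sum_univ_two] <;>
      first
        | linear_combination (X.1 0 0) * hc - hd + hcc
        | linear_combination (X.1 1 1) * hc - hd + hcc
        | linear_combination (X.1 0 1) * hc
        | linear_combination (X.1 1 0) * hc
  have hp2 : 2 ≤ p := (Fact.out : p.Prime).two_le
  have hNp : N ^ p = 0 := pow_eq_zero_of_le hp2 hN2
  haveI : CharP (Matrix (Fin 2) (Fin 2) F) p := inferInstance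
  have hX : X.1 ^ p = (c ^ p) • 1 := by
    have h1 : X.1 = c • 1 + N := by rw [hN]; abel
    rw [h1, add_pow_char_of_commute p ((Commute.one_left N).smul_left c), hNp, add_zero, smul_pow,
      one_pow]
  refine ⟨2 * p, dvd_rfl, by omega, Subtype.ext ?_⟩
  rw [Matrix.SpecialLinearGroup.coe_pow, mul_comm, pow_mul, hX, smul_pow, one_pow, ← pow_mul,
    mul_comm, pow_mul, pow_two, hcc, one_pow, one_smul]
  rfl

local notation "PSL2" => Matrix.ProjectiveSpecialLinearGroup (Fin 2) F

/-- The projection to `PSL_2`. -/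
abbrev pr : SL2 →* PSL2 := QuotientGroup.mk' (Subgroup.center SL2)

theorem pr_eq_one_of_scalar {A : SL2} (h : ∃ c : F, A.1 = c • 1) : pr A = 1 := by
  obtain ⟨c, hc⟩ := h
  refine (QuotientGroup.eq_one_iff A).2 (Subgroup.mem_center_iff.2 fun B => Subtype.ext ?_)
  show B.1 * A.1 = A.1 * B.1
  rw [hc]
  simp

theorem not_scalar {A : SL2} (h : pr A ≠ 1) : ¬ ∃ c : F, A.1 = c • 1 :=
  fun hc => h (pr_eq_one_of_scalar hc)

theorem pr_neg (A : SL2) : pr (-A) = pr A := by
  have h1 : pr (-1 : SL2) = 1 :=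
    pr_eq_one_of_scalar ⟨-1, by rw [Matrix.SpecialLinearGroup.coe_neg,
      Matrix.SpecialLinearGroup.coe_one, neg_one_smul]⟩
  rw [← neg_one_mul, map_mul, h1, one_mul]

theorem trace_neg' (A : SL2) : (-A).1.trace = -A.1.trace := by
  rw [Matrix.SpecialLinearGroup.coe_neg, Matrix.trace_neg]

theorem trace_conj (u A : SL2) : (u * A * u⁻¹).1.trace = A.1.trace := by
  rw [Matrix.SpecialLinearGroup.coe_mul, Matrix.trace_mul_comm,
    ← Matrix.SpecialLinearGroup.coe_mul, ← mul_assoc, inv_mul_cancel, one_mul]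

theorem exists_two [Finite F] {X G : SL2} (hτ : X.1.trace ^ 2 ≠ 4) (hG : pr G ≠ 1)
    (h : ∃ x y : F, y ^ 2 - G.1.trace * x * y + x ^ 2 - X.1.trace * x + X.1.trace * y + 1 = 0) :
    ∃ u v : PSL2, pr G = u * pr X * u⁻¹ * (v * pr X * v⁻¹) := by
  obtain ⟨u0, d, hu⟩ := exists_nf G (not_scalar hG)
  set σ := G.1.trace
  set τ := X.1.trace
  obtain ⟨x, y, hxy⟩ := h
  set z := τ + y - σ * x with hz
  have hd : (d : F) ≠ 0 := d.ne_zero
  let Y : SL2 := ⟨!![x, y * (d : F)⁻¹; z * d, τ - x], by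
    simp [det_fin_two]
    field_simp
    linear_combination -hxy - y * hz⟩
  have hY1 : Y.1.trace = τ := by simp [Y, trace_fin_two]
  have hY2 : (Y⁻¹ * nf d σ).1.trace = τ := by
    rw [Matrix.SpecialLinearGroup.coe_mul, Matrix.SpecialLinearGroup.coe_inv]
    simp [Y, nf, trace_fin_two, Matrix.mul_apply, Fin.sum_univ_two, adjugate_fin_two]
    field_simp
    linear_combination hz
  obtain ⟨a, ha⟩ := conj_of_trace hY1.symm hτ
  obtain ⟨b, hb⟩ := conj_of_trace hY2.symm hτ
  refine ⟨pr (u0 * a), pr (u0 * b), ?_⟩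
  have hn : nf d σ = Y * (Y⁻¹ * nf d σ) := by group
  simp only [← map_mul, ← map_inv]
  congr 1
  rw [hu, hn, hb, ha]
  group

theorem trace_sq_ne_four' {p : ℕ} [Fact p.Prime] [CharP F p] [Finite F] {X : SL2}
    (h2 : 2 < orderOf (pr X)) (hp : ¬ p ∣ orderOf (pr X)) : X.1.trace ^ 2 ≠ 4 := by
  refine trace_sq_ne_four (p := p) X ?_
  rintro ⟨m, hm, hm0, hX⟩
  have h1 : orderOf (pr X) ∣ 2 * p :=
    (orderOf_dvd_of_pow_eq_one (by rw [← map_pow, hX, map_one])).trans hm
  have h3 : orderOf (pr X) ∣ 2 :=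
    Nat.Coprime.dvd_of_dvd_mul_right (((Fact.out : p.Prime).coprime_iff_not_dvd.2 hp).symm) h1
  have := Nat.le_of_dvd two_pos h3
  omega

theorem trace_ne_zero {X : SL2} (h2 : 2 < orderOf (pr X)) : X.1.trace ≠ 0 := by
  intro h
  rw [trace_fin_two] at h
  have hd : X.1 0 0 * X.1 1 1 - X.1 0 1 * X.1 1 0 = 1 := by rw [← det_fin_two]; exact X.2
  have hX : X * X = -1 := by
    apply Subtype.ext
    rw [Matrix.SpecialLinearGroup.coe_mul, Matrix.SpecialLinearGroup.coe_neg,
      Matrix.SpecialLinearGroup.coe_one]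
    ext i j
    fin_cases i <;> fin_cases j <;> simp [Matrix.mul_apply, Fin.sum_univ_two] <;>
      first
        | linear_combination (X.1 0 0) * h - hd
        | linear_combination (X.1 1 1) * h - hd
        | linear_combination (X.1 0 1) * h
        | linear_combination (X.1 1 0) * h
  have h1 : (pr X) ^ 2 = 1 := by rw [pow_two, ← map_mul, hX, pr_neg, map_one]
  have := orderOf_le_of_pow_eq_one two_pos h1
  omega

theorem exists_root_of_not_dvd [Fintype F] {X : SL2}
    (hX : ¬ orderOf (pr X) ∣ Fintype.card F + 1) :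
    ∃ x : F, x ^ 2 - X.1.trace * x + 1 = 0 := by
  classical
  by_contra hne
  simp only [not_exists] at hne
  apply hX
  set τ := X.1.trace with hτ
  set f : Polynomial F := Polynomial.X ^ 2 - Polynomial.C τ * Polynomial.X + 1 with hf
  have hdeg : f.natDegree = 2 := by rw [hf]; compute_degree!
  have hmon : f.Monic := by rw [hf]; monicity!
  have hirr : Irreducible f := by
    rw [Polynomial.irreducible_iff_roots_eq_zero_of_degree_le_three (by omega) (by omega)]
    rw [Multiset.eq_zero_iff_forall_notMem]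
    intro x hx
    rw [Polynomial.mem_roots hmon.ne_zero, hf] at hx
    exact hne x (by simpa using hx)
  haveI := Fact.mk hirr
  set r := AdjoinRoot.root f
  set t := algebraMap F (AdjoinRoot f) τ
  set q := Fintype.card F with hq
  have hr : r ^ 2 - t * r + 1 = 0 := by
    have h := AdjoinRoot.eval₂_root f
    simp [hf] at h
    exact h
  have hrq : (r ^ q) ^ 2 - t * r ^ q + 1 = 0 := by
    have h := congrArg (FiniteField.frobeniusAlgHom F (AdjoinRoot f)) hr
    simp only [map_add, map_sub, map_mul, map_one, map_zero, map_pow, t, AlgHom.commutes] at h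
    simpa [t, FiniteField.coe_frobeniusAlgHom, hq] using h
  have hne' : r ^ q ≠ r := by
    intro h
    have hmem : r ∈ (⊥ : Subalgebra F (AdjoinRoot f)) := by
      have hsub : (Finset.univ.image (algebraMap F (AdjoinRoot f))) ⊆
          ((Polynomial.X ^ q - Polynomial.X : Polynomial (AdjoinRoot f))).roots.toFinset := by
        intro a ha
        obtain ⟨b, -, rfl⟩ := Finset.mem_image.1 ha
        rw [Multiset.mem_toFinset, Polynomial.mem_roots
          (FiniteField.X_pow_card_sub_X_ne_zero _ Fintype.one_lt_card)]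
        simp [← map_pow, FiniteField.pow_card, hq]
      have hcard : ((Polynomial.X ^ q - Polynomial.X :
          Polynomial (AdjoinRoot f))).roots.toFinset.card ≤ q :=
        ((Multiset.toFinset_card_le _).trans (Polynomial.card_roots' _)).trans
          (FiniteField.X_pow_card_sub_X_natDegree_eq _ Fintype.one_lt_card).le
      have heq := Finset.eq_of_subset_of_card_le hsub (by
        rw [Finset.card_image_of_injective _ (algebraMap F (AdjoinRoot f)).injective,
          Finset.card_univ, ← hq]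
        exact hcard)
      have hrm : r ∈ ((Polynomial.X ^ q - Polynomial.X :
          Polynomial (AdjoinRoot f))).roots.toFinset := by
        rw [Multiset.mem_toFinset, Polynomial.mem_roots
          (FiniteField.X_pow_card_sub_X_ne_zero _ Fintype.one_lt_card)]
        simp [Polynomial.IsRoot]
        exact sub_eq_zero.2 h
      rw [← heq, Finset.mem_image] at hrm
      obtain ⟨b, -, hb⟩ := hrm
      exact Algebra.mem_bot.2 ⟨b, hb⟩
    obtain ⟨b, hb⟩ := Algebra.mem_bot.1 hmem
    refine hne b ((algebraMap F (AdjoinRoot f)).injective ?_)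
    simp only [map_add, map_sub, map_mul, map_pow, map_one, map_zero, hb]
    exact hr
  have hsum : r ^ q = t - r := by
    have h : (r ^ q - r) * (r ^ q + r - t) = 0 := by linear_combination hrq - hr
    rcases mul_eq_zero.1 h with h' | h'
    · exact absurd (sub_eq_zero.1 h') hne'
    · linear_combination h'
  have hpow : r ^ (q + 1) = 1 := by
    rw [pow_succ, hsum]; linear_combination -hr
  have hdvd : f ∣ Polynomial.X ^ (q + 1) - 1 := by
    rw [← AdjoinRoot.mk_eq_zero]
    simp [r, hpow]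
  have hCH : Polynomial.aeval X.1 f = 0 := by
    have hd : X.1 0 0 * X.1 1 1 - X.1 0 1 * X.1 1 0 = 1 := by rw [← det_fin_two]; exact X.2
    simp only [hf, map_add, map_sub, map_mul, map_pow, map_one, Polynomial.aeval_X,
      Polynomial.aeval_C, Algebra.algebraMap_eq_smul_one, smul_mul_assoc, one_mul, pow_two]
    ext i j
    fin_cases i <;> fin_cases j <;>
      simp [hτ, trace_fin_two, Matrix.mul_apply, Fin.sum_univ_two] <;>
      first | linear_combination -hd | ring
  obtain ⟨g, hg⟩ := hdvd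
  have h := congrArg (Polynomial.aeval X.1) hg
  rw [map_mul, hCH, zero_mul, map_sub, map_pow, Polynomial.aeval_X, map_one, sub_eq_zero] at h
  refine orderOf_dvd_of_pow_eq_one ?_
  rw [← map_pow, ← map_one pr]
  congr 1
  exact Subtype.ext (by rw [Matrix.SpecialLinearGroup.coe_pow]; exact h)

theorem exists_conic [Finite F] {σ τ : F} (h2 : ringChar F ≠ 2) (hτ0 : τ ≠ 0) (hσ : σ ≠ 2) :
    ∃ x y : F, y ^ 2 - σ * x * y + x ^ 2 - τ * x + τ * y + 1 = 0 := by
  classical
  haveI : Fintype F := Fintype.ofFinite F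
  haveI h2' : NeZero (2 : F) := ⟨Ring.two_ne_zero h2⟩
  have h4 : (4 : F) ≠ 0 := by
    have := mul_ne_zero h2'.out h2'.out
    norm_num at this
    exact this
  suffices ∃ x s : F, (σ ^ 2 - 4) * x ^ 2 + (4 * τ - 2 * σ * τ) * x + (τ ^ 2 - 4) = s ^ 2 by
    obtain ⟨x, s, hs⟩ := this
    refine ⟨x, (σ * x - τ + s) / 2, ?_⟩
    field_simp
    linear_combination -hs
  by_cases hA : σ ^ 2 - 4 = 0
  · have hB : 4 * τ - 2 * σ * τ ≠ 0 := by
      intro h
      have h' : (2 * τ) * (2 - σ) = 0 := by linear_combination h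
      rcases mul_eq_zero.1 h' with h'' | h''
      · exact mul_ne_zero h2'.out hτ0 h''
      · exact hσ (sub_eq_zero.1 h'').symm
    refine ⟨(0 - (τ ^ 2 - 4)) / (4 * τ - 2 * σ * τ), 0, ?_⟩
    rw [hA, mul_div_cancel₀ _ hB]
    ring
  · open Polynomial in
    obtain ⟨a, b, hab⟩ := FiniteField.exists_root_sum_quadratic
      (f := C (σ ^ 2 - 4) * X ^ 2 + C (4 * τ - 2 * σ * τ) * X + C (τ ^ 2 - 4))
      (g := -(X ^ 2 : Polynomial F)) (Polynomial.degree_quadratic hA) (by simp)
      (FiniteField.odd_card_of_char_ne_two h2)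
    simp at hab
    exact ⟨a, b, by linear_combination hab⟩

end CfsgLib.GLClass.TwoProd
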