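import Mathlib

/-!
Direct powers of a finite group absorbing a factor of exponent `r` in their sets of element orders.
-/

set_option autoImplicit false

namespace CfsgLib.Absorb

variable {G V : Type*} [Group G] [Finite G] [Group V] {r M P : ℕ}

theorem exists_order_lcm_of_commute (hr : r.Prime) {x y : G} (hy : orderOf y = r) (h : Commute x y) :
    ∃ z : G, orderOf z = Nat.lcm (orderOf x) r := by
  by_cases hdvd : r ∣ orderOf x
  · exact ⟨x, (Nat.lcm_eq_left hdvd).symm⟩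
  · have hco : (orderOf x).Coprime (orderOf y) := by
      rw [hy]; exact (hr.coprime_iff_not_dvd.2 hdvd).symm
    exact ⟨x * y, by rw [h.orderOf_mul_eq_mul_orderOf_of_coprime hco, hy, Nat.Coprime.lcm_eq_mul (hy ▸ hco)]⟩

theorem exists_order_of_dvd {x : G} {d : ℕ} (hd : d ∣ orderOf x) : ∃ z : G, orderOf z = d :=
  ⟨x ^ (orderOf x / d), orderOf_pow_orderOf_div (orderOf_pos x).ne' hd⟩

theorem eq_gcd_mul_gcd {L : ℕ} (hcop : M.Coprime P) (hL : L ∣ M * P) :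
    L = Nat.lcm (Nat.gcd L M) (Nat.gcd L P) := by
  rw [Nat.Coprime.lcm_eq_mul (hcop.gcd_both L L), ← Nat.Coprime.gcd_mul L hcop, Nat.gcd_eq_left hL]

theorem range_cube_prod (hr : r.Prime) (hv : ∀ v : V, orderOf v ∣ r)
    (hdi : ∀ x : G, (∃ y, orderOf y = r ∧ Commute x y) ∨ orderOf x ∣ M * P) (hcop : M.Coprime P)
    (hM : ∃ x : G, orderOf x = M) (hP : ∃ x : G, orderOf x = P) (hR : ∃ x : G, orderOf x = r) :
    Set.range (orderOf : G × G × G × V → ℕ) = Set.range (orderOf : G × G × G → ℕ) := by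
  apply Set.Subset.antisymm
  swap
  · rintro _ ⟨⟨a, b, c⟩, rfl⟩
    exact ⟨⟨a, b, c, 1⟩, by simp [Prod.orderOf]⟩
  rintro _ ⟨⟨a, b, c, v⟩, rfl⟩
  simp only [Set.mem_range, Prod.exists, Prod.orderOf]
  rcases (Nat.dvd_prime hr).1 (hv v) with h | h
  · exact ⟨a, b, c, by simp [h]⟩
  rw [h]
  rcases hdi a with ⟨y, hy, hc⟩ | ha
  · obtain ⟨z, hz⟩ := exists_order_lcm_of_commute hr hy hc
    exact ⟨z, b, c, by simp only [hz]; ac_rfl⟩
  rcases hdi b with ⟨y, hy, hc⟩ | hb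
  · obtain ⟨z, hz⟩ := exists_order_lcm_of_commute hr hy hc
    exact ⟨a, z, c, by simp only [hz]; ac_rfl⟩
  rcases hdi c with ⟨y, hy, hc'⟩ | hc
  · obtain ⟨z, hz⟩ := exists_order_lcm_of_commute hr hy hc'
    exact ⟨a, b, z, by simp only [hz]⟩
  obtain ⟨xM, hxM⟩ := hM
  obtain ⟨xP, hxP⟩ := hP
  obtain ⟨xR, hxR⟩ := hR
  set L := Nat.lcm (orderOf a) (Nat.lcm (orderOf b) (orderOf c)) with hL
  have hLd : L ∣ M * P := Nat.lcm_dvd ha (Nat.lcm_dvd hb hc)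
  obtain ⟨u, hu⟩ := exists_order_of_dvd (G := G) (show Nat.gcd L M ∣ orderOf xM by rw [hxM]; exact Nat.gcd_dvd_right L M)
  obtain ⟨w, hw⟩ := exists_order_of_dvd (G := G) (show Nat.gcd L P ∣ orderOf xP by rw [hxP]; exact Nat.gcd_dvd_right L P)
  refine ⟨u, w, xR, ?_⟩
  rw [hu, hw, hxR, ← Nat.lcm_assoc, ← eq_gcd_mul_gcd hcop hLd, hL]
  ac_rfl

theorem range_square_prod (hr : r.Prime) (hv : ∀ v : V, orderOf v ∣ r)
    (hdi : ∀ x : G, (∃ y, orderOf y = r ∧ Commute x y) ∨ orderOf x ∣ M * P) (hcop : M.Coprime P)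
    (hM : ∃ x : G, orderOf x = M) (hP : ∃ x y : G, orderOf x = P ∧ orderOf y = r ∧ Commute x y) :
    Set.range (orderOf : G × G × V → ℕ) = Set.range (orderOf : G × G → ℕ) := by
  apply Set.Subset.antisymm
  swap
  · rintro _ ⟨⟨a, b⟩, rfl⟩
    exact ⟨⟨a, b, 1⟩, by simp [Prod.orderOf]⟩
  rintro _ ⟨⟨a, b, v⟩, rfl⟩
  simp only [Set.mem_range, Prod.exists, Prod.orderOf]
  rcases (Nat.dvd_prime hr).1 (hv v) with h | h
  · exact ⟨a, b, by simp [h]⟩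
  rw [h]
  rcases hdi a with ⟨y, hy, hc⟩ | ha
  · obtain ⟨z, hz⟩ := exists_order_lcm_of_commute hr hy hc
    exact ⟨z, b, by simp only [hz]; ac_rfl⟩
  rcases hdi b with ⟨y, hy, hc⟩ | hb
  · obtain ⟨z, hz⟩ := exists_order_lcm_of_commute hr hy hc
    exact ⟨a, z, by simp only [hz]⟩
  obtain ⟨xM, hxM⟩ := hM
  obtain ⟨xP, y, hxP, hy, hcm⟩ := hP
  set L := Nat.lcm (orderOf a) (orderOf b) with hL
  obtain ⟨u, hu⟩ := exists_order_of_dvd (G := G) (show Nat.gcd L M ∣ orderOf xM by rw [hxM]; exact Nat.gcd_dvd_right L M)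
  obtain ⟨k, hk⟩ : ∃ k, orderOf (xP ^ k) = Nat.gcd L P :=
    ⟨_, orderOf_pow_orderOf_div (orderOf_pos xP).ne' (hxP ▸ Nat.gcd_dvd_right L P)⟩
  obtain ⟨w, hw⟩ := exists_order_lcm_of_commute hr hy (hcm.pow_left k)
  refine ⟨u, w, ?_⟩
  rw [hu, hw, hk, ← Nat.lcm_assoc, ← eq_gcd_mul_gcd hcop (Nat.lcm_dvd ha hb), Nat.lcm_assoc]

end CfsgLib.Absorb
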