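import Mathlib
import Cfsg.Agent.Lib.GLClass.ClassTuples

/-!
The tuple of a matrix similar to its multiple by a root of unity of order `e` consists of
polynomials in `X ^ e`.
-/

set_option autoImplicit false

namespace CfsgLib.GLClass

open Polynomial Module Matrix UniqueFactorizationMonoid
open scoped Classical

variable {F : Type*} [Field F] {n : ℕ}

/-- The rank invariants determine the counts, also for two different polynomials of one degree. -/
theorem count_eq_of_rk {M : Type*} [AddCommGroup M] [Module F M] [Module F[X] M]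
    [IsScalarTower F F[X] M] (D : Decomp (F := F) M) {Q Q' : F[X]}
    (hQ : Q.Monic) (hQi : Irreducible Q) (hQ' : Q'.Monic) (hQi' : Irreducible Q')
    (hdeg : Q'.natDegree = Q.natDegree)
    (h : ∀ j, rk (Q' ^ j) M = rk (Q ^ j) M) (k : ℕ) : D.count Q' k = D.count Q k := by
  classical
  have hd := hQi.natDegree_pos
  let m : F[X] → ℕ → ℕ := fun R j => ∑ i, if D.P i = R then min (D.e i) j else 0
  have hm : ∀ j, m Q' j = m Q j := by
    intro j
    have h1 := D.rk_add hQ' hQi' j
    have h2 := D.rk_add hQ hQi j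
    rw [h j] at h1
    have e : ∀ R : F[X], R.natDegree = Q.natDegree →
        ∑ i, (if D.P i = R then min (D.e i) j * R.natDegree else 0) = m R j * Q.natDegree := by
      intro R hR
      simp only [m, Finset.sum_mul]
      exact Finset.sum_congr rfl fun i _ => by split_ifs <;> simp [hR]
    rw [e Q' hdeg] at h1
    rw [e Q rfl] at h2
    exact Nat.eq_of_mul_eq_mul_right hd (by omega)
  have key : ∀ (R : F[X]) (k : ℕ), Nat.card {i // D.P i = R ∧ D.e i = k + 1}
        + (∑ i, if D.P i = R then min (D.e i) k else 0)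
        + (∑ i, if D.P i = R then min (D.e i) (k + 2) else 0)
      = 2 * (∑ i, if D.P i = R then min (D.e i) (k + 1) else 0) := by
    intro R k
    rw [Nat.card_eq_fintype_card, Fintype.card_subtype, Finset.card_filter,
      ← Finset.sum_add_distrib, ← Finset.sum_add_distrib, Finset.mul_sum]
    refine Finset.sum_congr rfl fun i _ => ?_
    by_cases h : D.P i = R <;> simp [h] <;> split_ifs <;> omega
  rcases k with - | k
  · unfold Decomp.count
    haveI : ∀ R : F[X], IsEmpty {i // D.P i = R ∧ D.e i = 0} := fun R =>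
      ⟨fun i => (D.pos i.1).ne' i.2.2⟩
    rw [Nat.card_of_isEmpty, Nat.card_of_isEmpty]
  · have h1 := key Q' k
    have h2 := key Q k
    have a0 := hm k
    have a1 := hm (k + 1)
    have a2 := hm (k + 2)
    simp only [m] at a0 a1 a2
    unfold Decomp.count
    omega

/-- substituting `ζ X` for `X` -/
noncomputable def scaleEquiv (ζ : Fˣ) : F[X] ≃ₐ[F] F[X] :=
  algEquivOfCompEqX (Polynomial.C (ζ : F) * X) (Polynomial.C ((ζ⁻¹ : Fˣ) : F) * X)
    (by rw [mul_comp, C_comp, X_comp, ← mul_assoc, ← Polynomial.C_mul, Units.mul_inv, Polynomial.C_1,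
      one_mul])
    (by rw [mul_comp, C_comp, X_comp, ← mul_assoc, ← Polynomial.C_mul, Units.inv_mul, Polynomial.C_1,
      one_mul])

theorem scaleEquiv_apply (ζ : Fˣ) (p : F[X]) :
    scaleEquiv ζ p = p.comp (Polynomial.C (ζ : F) * X) := rfl

theorem natDegree_scaleEquiv (ζ : Fˣ) (p : F[X]) : (scaleEquiv ζ p).natDegree = p.natDegree := by
  rw [scaleEquiv_apply, natDegree_comp, natDegree_C_mul_X _ ζ.ne_zero, mul_one]

/-- the monic scaled polynomial -/
noncomputable def scaleMonic (ζ : Fˣ) : F[X] →* F[X] :=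
  (normalizeHom (α := F[X])).toMonoidHom.comp (scaleEquiv ζ).toAlgHom.toRingHom.toMonoidHom

theorem scaleMonic_apply (ζ : Fˣ) (p : F[X]) :
    scaleMonic ζ p = normalize (scaleEquiv ζ p) := rfl

theorem aeval_scaleEquiv (ζ : Fˣ) (A : Matrix (Fin n) (Fin n) F) (Q : F[X]) :
    aeval A (scaleEquiv ζ Q) = aeval ((ζ : F) • A) Q := by
  rw [scaleEquiv_apply, Polynomial.aeval_comp, map_mul, aeval_C, aeval_X, Algebra.smul_def]

theorem rk_scaleMonic (ζ : Fˣ) {A : GL (Fin n) F}
    (hA : IsConj (A : Matrix (Fin n) (Fin n) F) ((ζ : F) • (A : Matrix (Fin n) (Fin n) F)))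
    (Q : F[X]) (hQ : Q ≠ 0) (j : ℕ) :
    rk (scaleMonic ζ Q ^ j) (Mod (A : Matrix (Fin n) (Fin n) F)) =
      rk (Q ^ j) (Mod (A : Matrix (Fin n) (Fin n) F)) := by
  rw [rk_mod, rk_mod, scaleMonic_apply, normalize_apply, mul_pow, map_mul, ← map_pow (scaleEquiv ζ)]
  have hu : IsUnit (aeval (A : Matrix (Fin n) (Fin n) F)
      ((normUnit (scaleEquiv ζ Q) : F[X]) ^ j)).det :=
    (Matrix.isUnit_iff_isUnit_det _).1 (((normUnit (scaleEquiv ζ Q)).isUnit.pow j).map _)
  rw [Matrix.rank_mul_eq_left_of_isUnit_det _ _ hu, aeval_scaleEquiv,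
    ← rank_aeval_eq_of_isConj hA]

theorem scaleMonic_classTup (ζ : Fˣ) {A : GL (Fin n) F}
    (hA : IsConj (A : Matrix (Fin n) (Fin n) F) ((ζ : F) • (A : Matrix (Fin n) (Fin n) F)))
    (k : Fin n) : scaleMonic ζ ((classTup A).1 k).1 = ((classTup A).1 k).1 := by
  classical
  set g := ((classTup A).1 k).1 with hg
  have hgm : g.Monic := ((classTup A).1 k).2.1
  set L := normalizedFactors g with hL
  have hmonic : ∀ Q ∈ L, Q.Monic ∧ Irreducible Q := fun Q hQ => ⟨by
    rw [← normalize_normalized_factor _ hQ]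
    exact monic_normalize (irreducible_of_normalized_factor _ hQ).ne_zero,
    irreducible_of_normalized_factor _ hQ⟩
  have hLprod : L.prod = g := eq_of_monic_of_associated
    (by
      have h := monic_multiset_prod_of_monic L id fun a ha => (hmonic a ha).1
      rwa [Multiset.map_id] at h) hgm (prod_normalizedFactors hgm.ne_zero)
  have himg : ∀ Q ∈ L, (scaleMonic ζ Q).Monic ∧ Irreducible (scaleMonic ζ Q) ∧
      (scaleMonic ζ Q).natDegree = Q.natDegree := by
    intro Q hQ
    obtain ⟨hm, hi⟩ := hmonic Q hQ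
    have hi' : Irreducible (scaleEquiv ζ Q) := (MulEquiv.irreducible_iff (scaleEquiv ζ)).2 hi
    rw [scaleMonic_apply]
    refine ⟨monic_normalize hi'.ne_zero, (normalize_associated _).symm.irreducible hi', ?_⟩
    rw [natDegree_eq_of_degree_eq degree_normalize, natDegree_scaleEquiv]
  have hcount : ∀ Q ∈ L, L.count (scaleMonic ζ Q) = L.count Q := by
    intro Q hQ
    obtain ⟨hm, hi⟩ := hmonic Q hQ
    obtain ⟨hm', hi', hd'⟩ := himg Q hQ
    have h := count_eq_of_rk (classDecomp A) hm hi hm' hi' hd'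
      (rk_scaleMonic ζ hA Q hi.ne_zero) (1 + k.val)
    rw [count_eq_classTup, count_eq_classTup] at h
    convert h using 2
  have hinj : ∀ Q ∈ L, ∀ R ∈ L, scaleMonic ζ Q = scaleMonic ζ R → Q = R := by
    intro Q hQ R hR h
    have h1 : Associated (scaleEquiv ζ Q) (scaleEquiv ζ R) := by
      rw [scaleMonic_apply, scaleMonic_apply] at h
      exact normalize_eq_normalize_iff_associated.1 h
    have h2 := h1.map (scaleEquiv ζ).symm.toAlgHom.toRingHom.toMonoidHom
    simp at h2
    exact eq_of_monic_of_associated (hmonic Q hQ).1 (hmonic R hR).1 h2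
  have hmap : L.map (scaleMonic ζ) = L := by
    refine Multiset.eq_of_le_of_card_le (Multiset.le_iff_count.2 fun R => ?_)
      (by rw [Multiset.card_map])
    by_cases hR : R ∈ L.map (scaleMonic ζ)
    · obtain ⟨Q, hQ, rfl⟩ := Multiset.mem_map.1 hR
      rw [Multiset.count_map_eq_count _ _ (fun a ha b hb h => hinj a ha b hb h) Q hQ, hcount Q hQ]
    · rw [Multiset.count_eq_zero.2 hR]
      exact Nat.zero_le _
  rw [← hLprod, map_multiset_prod, hmap]

/-- Every entry of the tuple of a matrix similar to its multiple is a polynomial in `X ^ e`. -/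
theorem expand_contract_classTup (ζ : Fˣ) (e : ℕ) (he : e ≠ 0) (hord : orderOf ζ = e)
    {A : GL (Fin n) F}
    (hA : IsConj (A : Matrix (Fin n) (Fin n) F) ((ζ : F) • (A : Matrix (Fin n) (Fin n) F)))
    (k : Fin n) :
    Polynomial.expand F e (Polynomial.contract e ((classTup A).1 k).1) = ((classTup A).1 k).1 := by
  classical
  have h := scaleMonic_classTup ζ hA k
  set g := ((classTup A).1 k).1
  rw [scaleMonic_apply, normalize_apply, Polynomial.coe_normUnit, scaleEquiv_apply] at h
  have hc : ∀ i, g.coeff i * (ζ : F) ^ i * (normUnit (g.comp (Polynomial.C (ζ : F) * X)).leadingCoeff : F)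
      = g.coeff i := by
    intro i
    conv_rhs => rw [← h]
    rw [coeff_mul_C, comp_C_mul_X_coeff]
  have hc0 := hc 0
  rw [pow_zero, mul_one] at hc0
  have hg0 : g.coeff 0 ≠ 0 := by
    rw [coeff_zero_eq_eval_zero]
    exact ((classTup A).1 k).2.2
  have hone : (normUnit (g.comp (Polynomial.C (ζ : F) * X)).leadingCoeff : F) = 1 :=
    mul_left_cancel₀ hg0 (hc0.trans (mul_one _).symm)
  ext i
  rw [coeff_expand (Nat.pos_of_ne_zero he)]
  split_ifs with hi
  · rw [coeff_contract he, Nat.div_mul_cancel hi]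
  · by_contra hne
    have h1 := hc i
    rw [hone, mul_one] at h1
    have h2 : (ζ : F) ^ i = 1 := mul_left_cancel₀ (Ne.symm hne) (h1.trans (mul_one _).symm)
    exact hi (hord ▸ orderOf_dvd_of_pow_eq_one (Units.ext (by rw [Units.val_pow_eq_pow_val, h2, Units.val_one])))

/-- the tuple of exponents divided by `e` -/
noncomputable def contractTup (ζ : Fˣ) (e : ℕ) (he : e ≠ 0) (hord : orderOf ζ = e) (A : GL (Fin n) F)
    (hA : IsConj (A : Matrix (Fin n) (Fin n) F) ((ζ : F) • (A : Matrix (Fin n) (Fin n) F))) :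
    Tup F n 1 (n / e) :=
  ⟨fun k => ⟨Polynomial.contract e ((classTup A).1 k).1,
    (monic_expand_iff (Nat.pos_of_ne_zero he)).1
      (by rw [expand_contract_classTup ζ e he hord hA]; exact ((classTup A).1 k).2.1), by
      rw [← coeff_zero_eq_eval_zero, coeff_contract he, zero_mul, coeff_zero_eq_eval_zero]
      exact ((classTup A).1 k).2.2⟩, by
    have h : ∑ k : Fin n, (1 + k.val) * (Polynomial.contract e ((classTup A).1 k).1).natDegree * e = n := by
      refine Eq.trans (Finset.sum_congr rfl fun k _ => ?_) (classTup A).2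
      rw [mul_assoc, ← natDegree_expand, expand_contract_classTup ζ e he hord hA]
    rw [← Finset.sum_mul] at h
    exact (Nat.div_eq_of_eq_mul_left (Nat.pos_of_ne_zero he) h.symm).symm⟩

theorem contractTup_injective (ζ : Fˣ) (e : ℕ) (he : e ≠ 0) (hord : orderOf ζ = e) {A B : GL (Fin n) F}
    (hA : IsConj (A : Matrix (Fin n) (Fin n) F) ((ζ : F) • (A : Matrix (Fin n) (Fin n) F)))
    (hB : IsConj (B : Matrix (Fin n) (Fin n) F) ((ζ : F) • (B : Matrix (Fin n) (Fin n) F)))
    (h : contractTup ζ e he hord A hA = contractTup ζ e he hord B hB) :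
    classTup A = classTup B := by
  refine Subtype.ext (funext fun k => Subtype.ext ?_)
  rw [← expand_contract_classTup ζ e he hord hA, ← expand_contract_classTup ζ e he hord hB]
  exact congrArg (Polynomial.expand F e)
    (congrArg Subtype.val (congrFun (congrArg Subtype.val h) k))

theorem tupConst_contractTup (ζ : Fˣ) (e : ℕ) (he : e ≠ 0) (hord : orderOf ζ = e) (A : GL (Fin n) F)
    (hA : IsConj (A : Matrix (Fin n) (Fin n) F) ((ζ : F) • (A : Matrix (Fin n) (Fin n) F))) :
    tupConst (contractTup ζ e he hord A hA) = tupConst (classTup A) := by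
  unfold tupConst
  refine Finset.prod_congr rfl fun k _ => ?_
  congr 1
  apply Units.ext
  simp only [contractTup, Units.val_mk0, ← coeff_zero_eq_eval_zero, coeff_contract he, zero_mul]

theorem tupGcd_contractTup [Fintype F] (ζ : Fˣ) (e : ℕ) (he : e ≠ 0) (hord : orderOf ζ = e)
    (A : GL (Fin n) F)
    (hA : IsConj (A : Matrix (Fin n) (Fin n) F) ((ζ : F) • (A : Matrix (Fin n) (Fin n) F))) :
    tupGcd (contractTup ζ e he hord A hA) = tupGcd (classTup A) := by
  have hs : tupSupp (contractTup ζ e he hord A hA) = tupSupp (classTup A) := by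
    ext k
    simp only [tupSupp, Finset.mem_filter, Finset.mem_univ, true_and]
    conv_rhs => rw [← expand_contract_classTup ζ e he hord hA, natDegree_expand, mul_ne_zero_iff]
    exact ⟨fun h => ⟨h, he⟩, fun h => h.1⟩
  simp only [tupGcd, hs]

end CfsgLib.GLClass
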