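import Mathlib
import Cfsg.Agent.Lib.GLClass.ClassFixed
import Cfsg.Agent.Lib.Classical.SLBasic

/-!
The bounds for the numbers of conjugacy classes of `GL`, `SL` and `PSL` over a finite field.
-/

set_option autoImplicit false

namespace CfsgLib.GLClass

open Polynomial Matrix

section Burnside

variable {G : Type*} [Group G]

/-- multiplication of a class by a central element -/
def centralClassMul (z : Subgroup.center G) : ConjClasses G → ConjClasses G :=
  Quotient.map (fun x => (z : G) * x) fun x y h => by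
    obtain ⟨c, hc⟩ := isConj_iff.1 h
    refine isConj_iff.2 ⟨c, ?_⟩
    rw [← hc, ← mul_assoc, Subgroup.mem_center_iff.1 z.2 c]
    group

theorem centralClassMul_mk (z : Subgroup.center G) (x : G) :
    centralClassMul z (ConjClasses.mk x) = ConjClasses.mk ((z : G) * x) := rfl

/-- the action of the centre on the classes -/
abbrev centralClassAction : MulAction (Subgroup.center G) (ConjClasses G) where
  smul z C := centralClassMul z C
  one_smul C := by
    obtain ⟨x, rfl⟩ := ConjClasses.mk_surjective C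
    show centralClassMul _ _ = _
    rw [centralClassMul_mk, Subgroup.coe_one, one_mul]
  mul_smul a b C := by
    obtain ⟨x, rfl⟩ := ConjClasses.mk_surjective C
    show centralClassMul _ _ = centralClassMul _ (centralClassMul _ _)
    rw [centralClassMul_mk, centralClassMul_mk, centralClassMul_mk, Subgroup.coe_mul, mul_assoc]

/-- Burnside's count of the classes of the quotient by the centre. -/
theorem card_conjClasses_centerQuot [Finite G] [Fintype (Subgroup.center G)] :
    Nat.card (ConjClasses (G ⧸ Subgroup.center G)) * Nat.card (Subgroup.center G) =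
      ∑ z : Subgroup.center G, Nat.card {C : ConjClasses G // centralClassMul z C = C} := by
  letI := centralClassAction (G := G)
  have h := Nat.card_congr (MulAction.sigmaFixedByEquivOrbitsProdGroup (Subgroup.center G) (ConjClasses G))
  rw [Nat.card_sigma, Nat.card_prod] at h
  have hΩ : Nat.card (Quotient (MulAction.orbitRel (Subgroup.center G) (ConjClasses G))) =
      Nat.card (ConjClasses (G ⧸ Subgroup.center G)) := by
    have hmap : ∀ (z : Subgroup.center G) (C : ConjClasses G),
        ConjClasses.map (QuotientGroup.mk' (Subgroup.center G)) (centralClassMul z C) =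
          ConjClasses.map (QuotientGroup.mk' (Subgroup.center G)) C := by
      intro z C
      obtain ⟨x, rfl⟩ := ConjClasses.mk_surjective C
      show ConjClasses.mk _ = ConjClasses.mk _
      rw [map_mul, (QuotientGroup.eq_one_iff (z : G)).2 z.2 |> fun e =>
        (show QuotientGroup.mk' (Subgroup.center G) (z : G) = 1 from e), one_mul]
    refine Nat.card_eq_of_bijective (Quotient.lift
      (ConjClasses.map (QuotientGroup.mk' (Subgroup.center G))) ?_) ⟨?_, ?_⟩
    · rintro C D ⟨z, rfl⟩
      exact hmap z D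
    · intro a b
      induction a using Quotient.inductionOn with | _ C => ?_
      induction b using Quotient.inductionOn with | _ D => ?_
      intro hab
      obtain ⟨x, rfl⟩ := ConjClasses.mk_surjective C
      obtain ⟨y, rfl⟩ := ConjClasses.mk_surjective D
      obtain ⟨c, hc⟩ := isConj_iff.1 (ConjClasses.mk_eq_mk_iff_isConj.1
        (hab : ConjClasses.mk (QuotientGroup.mk' _ x) = ConjClasses.mk (QuotientGroup.mk' _ y)))
      obtain ⟨d, rfl⟩ := QuotientGroup.mk'_surjective _ c
      rw [← map_inv, ← map_mul, ← map_mul] at hc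
      have hz : (d * x * d⁻¹)⁻¹ * y ∈ Subgroup.center G := (QuotientGroup.eq).1 hc
      refine Quotient.sound ⟨(⟨_, hz⟩ : Subgroup.center G)⁻¹, ?_⟩
      show centralClassMul _ _ = _
      have hu : ((d * x * d⁻¹)⁻¹ * y)⁻¹ * y = d * x * d⁻¹ := by
        rw [inv_mul_eq_iff_eq_mul, ← Subgroup.mem_center_iff.1 hz (d * x * d⁻¹)]
        group
      rw [centralClassMul_mk, ConjClasses.mk_eq_mk_iff_isConj, Subgroup.coe_inv, hu]
      exact (isConj_iff.2 ⟨d, rfl⟩).symm
    · intro D
      obtain ⟨c, rfl⟩ := ConjClasses.mk_surjective D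
      obtain ⟨x, rfl⟩ := QuotientGroup.mk'_surjective _ c
      exact ⟨Quotient.mk _ (ConjClasses.mk x), rfl⟩
  rw [← hΩ]
  exact h.symm

end Burnside

variable {F : Type*} [Field F] [Fintype F] {n : ℕ}

theorem card_conjClasses_gl_lt (hn : 1 ≤ n) :
    Nat.card (ConjClasses (GL (Fin n) F)) < Fintype.card F ^ n := by
  haveI : Finite (Tup F n 1 n) := finite_tup n 0 n
  refine lt_of_le_of_lt (Nat.card_le_card_of_injective (fun C => classTup (Quotient.out C)) ?_)
    (tupCard_lt_pow n n hn le_rfl)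
  intro C D h
  rw [← Quotient.out_eq C, ← Quotient.out_eq D]
  exact ConjClasses.mk_eq_mk_iff_isConj.2 (isConj_of_classTup_eq h)

theorem charpoly_eq_of_isConj {A B : GL (Fin n) F} (h : IsConj A B) :
    (A : Matrix (Fin n) (Fin n) F).charpoly = (B : Matrix (Fin n) (Fin n) F).charpoly := by
  obtain ⟨c, rfl⟩ := isConj_iff.1 h
  simp

theorem pow_sub_le_card_conjClasses_gl (hn : 1 ≤ n) :
    Fintype.card F ^ n - Fintype.card F ^ (n - 1) ≤ Nat.card (ConjClasses (GL (Fin n) F)) := by
  classical
  obtain ⟨p, hp⟩ := CharP.exists F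
  haveI : Fact p.Prime := ⟨CharP.char_is_prime F p⟩
  obtain ⟨m, rfl⟩ : ∃ m, n = m + 1 := ⟨n - 1, by omega⟩
  have hcard := exists_monic_equiv (F := F) m ({0}ᶜ : Set F)
  rw [Nat.card_coe_set_eq, Set.ncard_compl, Set.ncard_singleton, Nat.card_eq_fintype_card (α := F),
    Nat.sub_mul, one_mul, ← pow_succ'] at hcard
  rw [Nat.add_sub_cancel, ← hcard]
  choose A hA _ using fun f : {f : F[X] // f.Monic ∧ f.natDegree = m + 1 ∧ f.eval 0 ∈ ({0}ᶜ : Set F)} =>
    exists_ss_of_monic p f.1 f.2.1 f.2.2.1 f.2.2.2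
  refine Nat.card_le_card_of_injective (fun f => ConjClasses.mk (A f)) fun f g h => Subtype.ext ?_
  rw [← hA f, ← hA g]
  exact charpoly_eq_of_isConj (ConjClasses.mk_eq_mk_iff_isConj.1 h)

/-- a special matrix with given characteristic polynomial -/
theorem exists_sl_of_monic (p : ℕ) [Fact p.Prime] [CharP F p] (f : F[X]) (hf : f.Monic)
    (hdeg : f.natDegree = n) (h0 : f.eval 0 = (-1) ^ n) :
    ∃ A : Matrix.SpecialLinearGroup (Fin n) F,
      (A : Matrix (Fin n) (Fin n) F).charpoly = f ∧ (orderOf A).Coprime p := by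
  obtain ⟨A, hA, hord⟩ := exists_ss_of_monic p f hf hdeg (by rw [h0]; exact pow_ne_zero _ (by simp))
  have hdet : (A : Matrix (Fin n) (Fin n) F).det = 1 := by
    rw [Matrix.det_eq_sign_charpoly_coeff, hA, coeff_zero_eq_eval_zero, h0, Fintype.card_fin,
      ← mul_pow]
    simp
  let B : Matrix.SpecialLinearGroup (Fin n) F := ⟨_, hdet⟩
  refine ⟨B, hA, ?_⟩
  rwa [← orderOf_injective Matrix.SpecialLinearGroup.toGL Matrix.SpecialLinearGroup.toGL_injective B,
    show Matrix.SpecialLinearGroup.toGL B = A from Units.ext rfl]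

theorem pow_lt_card_conjClasses_sl (hn : 2 ≤ n) :
    Fintype.card F ^ (n - 1) < Nat.card (ConjClasses (Matrix.SpecialLinearGroup (Fin n) F)) := by
  classical
  obtain ⟨p, hp⟩ := CharP.exists F
  haveI : Fact p.Prime := ⟨CharP.char_is_prime F p⟩
  obtain ⟨m, rfl⟩ : ∃ m, n = m + 1 := ⟨n - 1, by omega⟩
  have hcard := exists_monic_equiv (F := F) m {(-1 : F) ^ (m + 1)}
  rw [Nat.card_coe_set_eq, Set.ncard_singleton, one_mul] at hcard
  rw [Nat.add_sub_cancel, ← hcard]
  choose A hA hord using
    fun f : {f : F[X] // f.Monic ∧ f.natDegree = m + 1 ∧ f.eval 0 ∈ ({(-1) ^ (m + 1)} : Set F)} =>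
      exists_sl_of_monic p f.1 f.2.1 f.2.2.1 f.2.2.2
  haveI : Finite (ConjClasses (Matrix.SpecialLinearGroup (Fin (m + 1)) F)) := inferInstance
  let φ := fun f => ConjClasses.mk (A f)
  have hφ : Function.Injective φ := fun f g h => Subtype.ext (by
    rw [← hA f, ← hA g]
    exact charpoly_eq_of_isConj (A := Matrix.SpecialLinearGroup.toGL (A f))
      (B := Matrix.SpecialLinearGroup.toGL (A g))
      (MonoidHom.map_isConj _ (ConjClasses.mk_eq_mk_iff_isConj.1 h)))
  have h01 : (0 : Fin (m + 1)) ≠ ⟨1, by omega⟩ := by simp [Fin.ext_iff]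
  let T : Matrix.SpecialLinearGroup (Fin (m + 1)) F :=
    Matrix.SpecialLinearGroup.transvection h01 1
  have hT1 : T ≠ 1 := by
    intro h
    have := congrArg (fun M : Matrix.SpecialLinearGroup (Fin (m + 1)) F =>
      (M : Matrix (Fin (m + 1)) (Fin (m + 1)) F) 0 ⟨1, by omega⟩) h
    simp [T, Matrix.SpecialLinearGroup.transvection, Matrix.transvection, h01] at this
  have hTp : T ^ p = 1 := by
    apply Subtype.ext
    rw [Matrix.SpecialLinearGroup.coe_pow]
    show Matrix.transvection 0 _ (1 : F) ^ p = 1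
    have : ∀ k : ℕ, Matrix.transvection (0 : Fin (m + 1)) ⟨1, by omega⟩ (1 : F) ^ k =
        Matrix.transvection 0 ⟨1, by omega⟩ (k : F) := by
      intro k
      induction k with
      | zero => simp
      | succ k ih => rw [pow_succ, ih, Matrix.transvection_mul_transvection_same _ _ h01, Nat.cast_succ]
    rw [this, CharP.cast_eq_zero, Matrix.transvection_zero]
  have hout : ConjClasses.mk T ∉ Set.range φ := by
    rintro ⟨f, hf⟩
    obtain ⟨c, hc⟩ := isConj_iff.1 (ConjClasses.mk_eq_mk_iff_isConj.1 hf)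
    have h1 : orderOf T = orderOf (A f) := by
      rw [← hc]
      exact orderOf_injective (MulAut.conj c).toMonoidHom (MulAut.conj c).injective (A f)
    have h2 : orderOf T = p := orderOf_eq_prime hTp hT1
    have h3 := hord f
    rw [← h1, h2, Nat.coprime_self] at h3
    exact (Fact.out : p.Prime).one_lt.ne' h3
  calc Nat.card _ = (Set.range φ).ncard := by
        rw [← Nat.card_coe_set_eq, Nat.card_range_of_injective hφ]
    _ < (Set.univ : Set (ConjClasses (Matrix.SpecialLinearGroup (Fin (m + 1)) F))).ncard :=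
        Set.ncard_lt_ncard (Set.ssubset_univ_iff.2 fun h => hout (h ▸ Set.mem_univ _))
          Set.finite_univ
    _ = _ := Set.ncard_univ _

/-- the bound for `(classBound q m) / (q - 1)` -/
def slTop (q m : ℕ) : ℕ :=
  if m = 1 then 1 else if m = 2 then (if q = 2 then 3 else q + 4) else q ^ (m - 1) + 3 * q ^ (m - 2)

theorem tupTop_le_pow (q m : ℕ) : tupTop q m ≤ q ^ m := by
  unfold tupTop
  split_ifs with h
  · subst h; omega
  · omega

theorem classBound_le (q m : ℕ) (hq : 2 ≤ q) (hm : 1 ≤ m) :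
    classBound q m ≤ (q - 1) * slTop q m := by
  obtain ⟨c, rfl⟩ : ∃ c, q = c + 2 := ⟨q - 2, by omega⟩
  have hc : c + 2 - 1 = c + 1 := rfl
  have hdiv : ∀ {d : ℕ}, d ∣ c + 2 - 1 → d ≤ c + 1 := fun h => Nat.le_of_dvd (by omega) h
  have hmain : ∀ k : ℕ, (c + 2) ^ (k + 2) ≤ (c + 1) * ((c + 2) ^ (k + 1) + 2 * (c + 2) ^ k) := by
    intro k
    rw [show k + 2 = k + 1 + 1 from rfl, pow_succ, pow_succ]
    nlinarith [Nat.zero_le ((c + 2) ^ k * c)]
  unfold classBound slTop
  rcases Nat.lt_or_ge m 7 with hm7 | hm7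
  · interval_cases m
    · simp [tupTop]
    · rw [show (2 : ℕ).divisors.erase 1 = {2} by decide, Finset.sum_singleton]
      simp only [if_neg (show ¬ (2 : ℕ) = 1 by omega), if_true]
      have e : (c + 2) ^ 2 = c * c + 4 * c + 4 := by ring
      rcases Nat.eq_zero_or_pos c with rfl | h0
      · simp [tupTop]
      · rw [if_neg (show ¬ c + 2 = 2 by omega), hc]
        have e' : (c + 2) ^ 2 - 1 = c * c + 4 * c + 3 := by rw [e]; omega
        simp only [tupTop, Nat.reduceDiv, if_neg (show ¬ (1 : ℕ) = 3 by omega),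
          if_neg (show ¬ (2 : ℕ) = 3 by omega), pow_one, hc, e']
        split_ifs <;> norm_num <;> nlinarith
    · rw [show (3 : ℕ).divisors.erase 1 = {3} by decide, Finset.sum_singleton]
      simp only [tupTop, hc, if_true, Nat.reduceDiv, pow_one, if_neg (show ¬ (1 : ℕ) = 3 by omega),
        if_neg (show ¬ (3 : ℕ) = 1 by omega), if_neg (show ¬ (3 : ℕ) = 2 by omega)]
      have e : (c + 2) ^ 3 - (c + 2) = (c + 2) * (c + 3) * (c + 1) := by
        rw [show (c + 2) ^ 3 = (c + 2) * (c + 3) * (c + 1) + (c + 2) by ring]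
        omega
      rw [e]
      split_ifs with h1
      · have := hdiv (hc.symm ▸ h1)
        simp
        nlinarith [Nat.mul_le_mul_left (c + 1) (show 8 ≤ 2 * (c + 2) by omega)]
      · simp
        nlinarith [Nat.zero_le ((c + 1) * (c + 2))]
    · rw [show (4 : ℕ).divisors.erase 1 = {2, 4} by decide, Finset.sum_pair (by omega)]
      simp only [tupTop, Nat.reduceDiv, hc, if_neg (show ¬ (4 : ℕ) = 1 by omega),
        if_neg (show ¬ (4 : ℕ) = 2 by omega), if_neg (show ¬ (4 : ℕ) = 3 by omega),
        if_neg (show ¬ (2 : ℕ) = 3 by omega), if_neg (show ¬ (1 : ℕ) = 3 by omega)]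
      have e4 : (c + 2) ^ 4 = ((c + 2) ^ 3 + (c + 2) ^ 2 + (c + 2) + 1) * (c + 1) + 1 := by ring
      have e2 : (c + 2) ^ 2 = (c + 3) * (c + 1) + 1 := by ring
      rw [e4, Nat.add_sub_cancel]
      conv_lhs => arg 2; rw [e2, Nat.add_sub_cancel, pow_one, show c + 2 - 1 = c + 1 from rfl]
      split_ifs with h1 h2 h2
      · have := hdiv (hc.symm ▸ h2)
        simp
        nlinarith
      · have := hdiv (hc.symm ▸ h1)
        simp
        nlinarith
      · have := hdiv (hc.symm ▸ h2)
        simp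
        nlinarith
      · simp
        nlinarith
    · rw [show (5 : ℕ).divisors.erase 1 = {5} by decide, Finset.sum_singleton]
      simp only [tupTop, Nat.reduceDiv, hc, if_neg (show ¬ (5 : ℕ) = 1 by omega),
        if_neg (show ¬ (5 : ℕ) = 2 by omega), if_neg (show ¬ (5 : ℕ) = 3 by omega),
        if_neg (show ¬ (1 : ℕ) = 3 by omega), pow_one]
      have := hmain 3
      have h3 : (c + 2) ^ 5 - 1 ≤ (c + 2) ^ 5 := Nat.sub_le _ _
      have h24 : 5 ≤ c + 1 → (c + 1) * 24 ≤ (c + 1) * (c + 2) ^ 3 := fun h =>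
        Nat.mul_le_mul_left _ (le_trans (by norm_num) (Nat.pow_le_pow_left (show 6 ≤ c + 2 by omega) 3))
      split_ifs with h1
      · have := h24 (hdiv (hc.symm ▸ h1))
        norm_num
        nlinarith
      · norm_num
        nlinarith [Nat.zero_le ((c + 1) * (c + 2) ^ 3)]
    · rw [show (6 : ℕ).divisors.erase 1 = {2, 3, 6} by decide, Finset.sum_insert (by simp),
        Finset.sum_pair (by omega)]
      simp only [tupTop, Nat.reduceDiv, pow_one, hc, if_true, if_neg (show ¬ (6 : ℕ) = 1 by omega),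
        if_neg (show ¬ (6 : ℕ) = 2 by omega), if_neg (show ¬ (6 : ℕ) = 3 by omega),
        if_neg (show ¬ (2 : ℕ) = 3 by omega), if_neg (show ¬ (1 : ℕ) = 3 by omega)]
      norm_num
      have h6 : (c + 2) ^ 6 - 1 ≤ (c + 2) ^ 6 := Nat.sub_le _ _
      have := hmain 4
      rcases Nat.lt_or_ge c 2 with hc2 | hc2
      · interval_cases c <;> norm_num
      · have t3 : (c + 2) ^ 3 - (c + 2) ≤ (c + 2) ^ 3 := Nat.sub_le _ _
        have t2 : (c + 2) ^ 2 - 1 ≤ (c + 2) ^ 2 := Nat.sub_le _ _
        have a1 : 4 * (c + 2) ^ 2 ≤ (c + 2) ^ 3 := by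
          rw [pow_succ (c + 2) 2, mul_comm 4]; exact Nat.mul_le_mul_left _ (by omega)
        have a2 : 16 * (c + 2) ≤ (c + 2) ^ 3 := by
          rw [pow_succ' (c + 2) 2, mul_comm 16]
          exact Nat.mul_le_mul_left _ (le_trans (by norm_num) (Nat.pow_le_pow_left (show 4 ≤ c + 2 by omega) 2))
        have a3 : 12 * (c + 2) ^ 3 ≤ (c + 1) * (c + 2) ^ 4 := by
          rw [pow_succ' (c + 2) 3, ← mul_assoc]
          exact Nat.mul_le_mul_right _ (le_trans (by norm_num) (Nat.mul_le_mul (show 3 ≤ c + 1 by omega) (show 4 ≤ c + 2 by omega)))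
        split_ifs <;> nlinarith
  · rw [if_neg (by omega), if_neg (by omega)]
    obtain ⟨k, rfl⟩ : ∃ k, m = k + 2 := ⟨m - 2, by omega⟩
    simp only [Nat.add_sub_cancel, show k + 2 - 1 = k + 1 from rfl, hc]
    have hs : ∑ d ∈ (k + 2).divisors.erase 1,
        (if d ∣ c + 1 then (d ^ 2 - 1) * tupTop (c + 2) ((k + 2) / d) else 0) ≤
          (c + 1) * (c + 2) * ∑ d ∈ (k + 2).divisors.erase 1, (c + 2) ^ ((k + 2) / d) := by
      rw [Finset.mul_sum]
      refine Finset.sum_le_sum fun d _ => ?_
      split_ifs with h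
      · refine Nat.mul_le_mul ?_ (tupTop_le_pow _ _)
        have := hdiv h
        calc d ^ 2 - 1 ≤ d * d := by rw [pow_two]; omega
          _ ≤ (c + 1) * (c + 2) := Nat.mul_le_mul this (by omega)
      · exact Nat.zero_le _
    have hinj : Set.InjOn (fun d => (k + 2) / d) ((k + 2).divisors.erase 1 : Finset ℕ) := by
      intro a ha b hb h
      have ha' := (Nat.mem_divisors.1 (Finset.mem_of_mem_erase ha)).1
      have hb' := (Nat.mem_divisors.1 (Finset.mem_of_mem_erase hb)).1
      rw [← Nat.div_div_self ha' (by omega), ← Nat.div_div_self hb' (by omega)]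
      exact congrArg ((k + 2) / ·) h
    have hgeo : ∑ d ∈ (k + 2).divisors.erase 1, (c + 2) ^ ((k + 2) / d) < (c + 2) ^ ((k + 2) / 2 + 1) := by
      rw [← Finset.sum_image (f := fun i => (c + 2) ^ i) hinj]
      refine Nat.geomSum_lt (by omega) fun i hi => ?_
      obtain ⟨d, hd, rfl⟩ := Finset.mem_image.1 hi
      obtain ⟨hd1, hd2⟩ := Finset.mem_erase.1 hd
      have : 2 ≤ d := by
        have := Nat.pos_of_mem_divisors hd2
        omega
      exact Nat.lt_succ_of_le (Nat.div_le_div_left this (by omega))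
    have hk : (c + 2) * (c + 2) ^ ((k + 2) / 2 + 1) ≤ (c + 2) ^ k := by
      rw [← pow_succ']
      exact Nat.pow_le_pow_right (by omega) (by omega)
    have htop := tupTop_le_pow (c + 2) (k + 2)
    have := hmain k
    nlinarith [Nat.mul_le_mul_left ((c + 1) * (c + 2)) hgeo.le, Nat.mul_le_mul_left (c + 1) hk]

theorem card_fixedClasses_mul_le (z : Subgroup.center (Matrix.SpecialLinearGroup (Fin n) F))
    (hn : 1 ≤ n) (hz : z ≠ 1) :
    ∃ e, 2 ≤ e ∧ e ∣ n ∧ Nat.card {C // centralClassMul z C = C} ≤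
      slTop (Fintype.card F) (n / e) := by
  classical
  haveI : NeZero n := ⟨by omega⟩
  obtain ⟨r, hrn, hr⟩ := Matrix.SpecialLinearGroup.mem_center_iff.1 z.2
  rw [Fintype.card_fin] at hrn
  have hr0 : r ≠ 0 := fun h => by rw [h, zero_pow (by omega)] at hrn; exact zero_ne_one hrn
  set ζ := Units.mk0 r hr0
  have hζn : ζ ^ n = 1 := Units.ext (by rw [Units.val_pow_eq_pow_val, Units.val_mk0, Units.val_one, hrn])
  have hdvd := orderOf_dvd_of_pow_eq_one hζn
  have he0 : orderOf ζ ≠ 0 := (orderOf_pos ζ).ne'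
  have he1 : orderOf ζ ≠ 1 := by
    intro h
    apply hz
    refine Subtype.ext (Subtype.ext ?_)
    have h2 : r = 1 := congrArg Units.val (orderOf_eq_one_iff.1 h)
    rw [← hr, h2]
    simp
  refine ⟨orderOf ζ, by omega, hdvd, ?_⟩
  have hm : 1 ≤ n / orderOf ζ := Nat.div_pos (Nat.le_of_dvd (by omega) hdvd) (orderOf_pos ζ)
  have hconj : ∀ x : Matrix.SpecialLinearGroup (Fin n) F,
      centralClassMul z (ConjClasses.mk x) = ConjClasses.mk x →
      IsConj (Matrix.SpecialLinearGroup.toGL x : Matrix (Fin n) (Fin n) F)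
        ((ζ : F) • (Matrix.SpecialLinearGroup.toGL x : Matrix (Fin n) (Fin n) F)) := by
    intro x hx
    have h := (MonoidHom.map_isConj Matrix.SpecialLinearGroup.toGL
      (ConjClasses.mk_eq_mk_iff_isConj.1 hx)).symm
    have h2 := MonoidHom.map_isConj (Units.coeHom (Matrix (Fin n) (Fin n) F)) h
    show IsConj (x : Matrix (Fin n) (Fin n) F) ((ζ : F) • (x : Matrix (Fin n) (Fin n) F))
    convert h2 using 1
    · rfl
    show (ζ : F) • (x : Matrix (Fin n) (Fin n) F) = ((z : Matrix.SpecialLinearGroup (Fin n) F) * x : Matrix.SpecialLinearGroup (Fin n) F).1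
    rw [Matrix.SpecialLinearGroup.coe_mul, ← hr, Units.val_mk0, Matrix.scalar_apply,
      Matrix.smul_eq_diagonal_mul]
  haveI : Fintype (Tup F n 1 (n / orderOf ζ)) := @Fintype.ofFinite _ (finite_tup n 0 _)
  have hpos : 0 < Fintype.card F - 1 := card_sub_one_pos
  refine Nat.le_of_mul_le_mul_left (le_trans (Nat.mul_le_mul_left _ ?_)
    ((card_mul_sum_tupGcd_le_bound n (n / orderOf ζ) hm (Nat.div_le_self _ _) ((-1) ^ n)).trans
      (classBound_le _ _ Fintype.one_lt_card hm))) hpos
  refine card_sl_classes_le (fun C => centralClassMul z C = C) ((-1) ^ n)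
    (fun x hx => contractTup ζ _ he0 rfl (Matrix.SpecialLinearGroup.toGL x) (hconj x hx))
    (fun x hx => ?_) (fun x hx y hy h => isConj_of_classTup_eq
      (contractTup_injective ζ _ he0 rfl (hconj x hx) (hconj y hy) h)) (fun x hx => ?_)
  · rw [tupConst_contractTup]
    have h := det_eq_classTup (Matrix.SpecialLinearGroup.toGL x)
    rw [show Matrix.GeneralLinearGroup.det (Matrix.SpecialLinearGroup.toGL x) = 1 from Units.ext x.2] at h
    rw [eq_inv_of_mul_eq_one_right h.symm, ← inv_pow, inv_neg, inv_one]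
  · rw [tupGcd_contractTup]
    exact index_le_tupGcd _

theorem card_conjClasses_sl_le (hn : 1 ≤ n) :
    Nat.card (ConjClasses (Matrix.SpecialLinearGroup (Fin n) F)) ≤ slTop (Fintype.card F) n := by
  classical
  haveI : NeZero n := ⟨by omega⟩
  haveI : Fintype (Tup F n 1 n) := @Fintype.ofFinite _ (finite_tup n 0 _)
  have hpos : 0 < Fintype.card F - 1 := card_sub_one_pos
  refine Nat.le_of_mul_le_mul_left (le_trans (Nat.mul_le_mul_left _ ?_)
    ((card_mul_sum_tupGcd_le_bound n n hn le_rfl ((-1) ^ n)).trans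
      (classBound_le _ _ Fintype.one_lt_card hn))) hpos
  rw [← Nat.card_congr (Equiv.subtypeUnivEquiv (p := fun _ => True) fun _ => trivial)]
  refine card_sl_classes_le (fun _ => True) ((-1) ^ n)
    (fun x _ => classTup (Matrix.SpecialLinearGroup.toGL x)) (fun x _ => ?_)
    (fun x _ y _ h => isConj_of_classTup_eq h) fun x _ => index_le_tupGcd _
  have h := det_eq_classTup (Matrix.SpecialLinearGroup.toGL x)
  rw [show Matrix.GeneralLinearGroup.det (Matrix.SpecialLinearGroup.toGL x) = 1 from Units.ext x.2] at h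
  rw [eq_inv_of_mul_eq_one_right h.symm, ← inv_pow, inv_neg, inv_one]

theorem two_mul_slTop_le (q m : ℕ) (hq : 2 ≤ q) (hm : 1 ≤ m) : 2 * slTop q m ≤ 5 * q ^ (m - 1) := by
  unfold slTop
  split_ifs with h1 h2 h3
  · subst h1; simp
  · subst h2; subst h3; simp
  · subst h2; simp; omega
  · obtain ⟨k, rfl⟩ : ∃ k, m = k + 2 := ⟨m - 2, by omega⟩
    simp only [Nat.add_sub_cancel, show k + 2 - 1 = k + 1 from rfl, pow_succ]
    nlinarith [Nat.mul_le_mul_left (q ^ k) hq]

/-- The bounds for the number of classes of the projective special linear group. -/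
theorem gcd_mul_card_conjClasses_psl (hn : 2 ≤ n) :
    Fintype.card F ^ (n - 1) ≤ Nat.gcd n (Fintype.card F - 1) *
        Nat.card (ConjClasses (Matrix.ProjectiveSpecialLinearGroup (Fin n) F)) ∧
      Nat.gcd n (Fintype.card F - 1) *
          Nat.card (ConjClasses (Matrix.ProjectiveSpecialLinearGroup (Fin n) F)) ≤
        Fintype.card F ^ (n - 1) + 5 * Fintype.card F ^ (n - 2) := by
  classical
  have hb := card_conjClasses_centerQuot (G := Matrix.SpecialLinearGroup (Fin n) F)
  rw [CfsgLib.Classical.card_center_sl (show 1 ≤ n by omega), mul_comm] at hb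
  rw [hb, ← Finset.add_sum_erase _ _ (Finset.mem_univ (1 : Subgroup.center _))]
  have h1 : Nat.card {C : ConjClasses (Matrix.SpecialLinearGroup (Fin n) F) //
      centralClassMul 1 C = C} = Nat.card (ConjClasses (Matrix.SpecialLinearGroup (Fin n) F)) :=
    Nat.card_congr (Equiv.subtypeUnivEquiv fun C => by
      obtain ⟨x, rfl⟩ := ConjClasses.mk_surjective C
      rw [centralClassMul_mk, Subgroup.coe_one, one_mul])
  rw [h1]
  refine ⟨le_trans (pow_lt_card_conjClasses_sl hn).le (Nat.le_add_right _ _), ?_⟩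
  set q := Fintype.card F
  set S := ((Finset.univ : Finset (Subgroup.center (Matrix.SpecialLinearGroup (Fin n) F))).erase 1)
  have hK : Nat.card (ConjClasses (Matrix.SpecialLinearGroup (Fin n) F)) ≤ slTop q n :=
    card_conjClasses_sl_le (show 1 ≤ n by omega)
  have hq : 2 ≤ q := Fintype.one_lt_card
  have hS : S.card + 1 = Nat.gcd n (q - 1) := by
    rw [Finset.card_erase_of_mem (Finset.mem_univ _), Finset.card_univ, ← Nat.card_eq_fintype_card,
      CfsgLib.Classical.card_center_sl (show 1 ≤ n by omega)]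
    exact Nat.sub_add_cancel (Nat.gcd_pos_of_pos_left _ (by omega))
  have hSn : S.card + 1 ≤ n := hS ▸ Nat.le_of_dvd (by omega) (Nat.gcd_dvd_left _ _)
  have hSq : S.card + 1 ≤ q - 1 := hS ▸ Nat.le_of_dvd (by omega) (Nat.gcd_dvd_right _ _)
  rcases Nat.lt_or_ge n 4 with hn4 | hn4
  · have hfix : ∀ z ∈ S, Nat.card {C // centralClassMul z C = C} ≤ 1 := by
      intro z hz
      obtain ⟨e, he2, hedvd, he⟩ :=
        card_fixedClasses_mul_le z (show 1 ≤ n by omega) (Finset.ne_of_mem_erase hz)
      have : n / e = 1 := by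
        have := Nat.le_of_dvd (by omega) hedvd
        interval_cases n <;> interval_cases e
        all_goals first | rfl | (norm_num at hedvd)
      simpa [this, slTop] using he
    have hsum := Finset.sum_le_card_nsmul S _ 1 hfix
    rw [smul_eq_mul, mul_one] at hsum
    interval_cases n
    · simp only [slTop, Nat.reduceSub, pow_one, pow_zero, mul_one, if_true,
        if_neg (show ¬ (2 : ℕ) = 1 by omega)] at hK ⊢
      split_ifs at hK <;> omega
    · simp only [slTop, Nat.reduceSub, pow_one, if_neg (show ¬ (3 : ℕ) = 1 by omega),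
        if_neg (show ¬ (3 : ℕ) = 2 by omega)] at hK ⊢
      omega
  · have hfix : ∀ z ∈ S, 2 * Nat.card {C // centralClassMul z C = C} ≤ 5 * q ^ (n / 2 - 1) := by
      intro z hz
      obtain ⟨e, he2, hedvd, he⟩ :=
        card_fixedClasses_mul_le z (show 1 ≤ n by omega) (Finset.ne_of_mem_erase hz)
      refine (Nat.mul_le_mul_left 2 he).trans ((two_mul_slTop_le q _ hq
        (Nat.div_pos (Nat.le_of_dvd (by omega) hedvd) (by omega))).trans ?_)
      exact Nat.mul_le_mul_left 5 (Nat.pow_le_pow_right (by omega)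
        (Nat.sub_le_sub_right (Nat.div_le_div_left he2 (by omega)) 1))
    have hsum := Finset.sum_le_card_nsmul S _ _ hfix
    rw [← Finset.mul_sum, smul_eq_mul] at hsum
    obtain ⟨k, rfl⟩ : ∃ k, n = k + 2 := ⟨n - 2, by omega⟩
    rw [slTop, if_neg (by omega), if_neg (by omega)] at hK
    simp only [Nat.add_sub_cancel, show k + 2 - 1 = k + 1 from rfl] at hK ⊢
    rcases eq_or_ne k 2 with rfl | hk
    · simp only [Nat.reduceAdd, Nat.reduceDiv, Nat.reduceSub, pow_one] at hsum hK ⊢
      rcases Nat.lt_or_ge q 4 with hq4 | hq4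
      · have e3 : S.card * (5 * q) ≤ (q - 2) * (5 * q) := Nat.mul_le_mul_right _ (by omega)
        rcases (show q = 2 ∨ q = 3 by omega) with h' | h' <;> rw [h'] at e3 hsum hK ⊢ <;> omega
      · nlinarith [Nat.mul_le_mul_right (5 * q) (show S.card ≤ 3 by omega)]
    · have h2 : q * q ^ ((k + 2) / 2) ≤ q ^ k := by
        rw [← pow_succ']
        exact Nat.pow_le_pow_right (by omega) (by omega)
      have h3 : q * q ^ ((k + 2) / 2 - 1) = q ^ ((k + 2) / 2) := by
        rw [← pow_succ']
        congr 1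
        omega
      have h4 : S.card * (5 * q ^ ((k + 2) / 2 - 1)) ≤ q * (5 * q ^ ((k + 2) / 2 - 1)) :=
        Nat.mul_le_mul_right _ (by omega)
      have h5 : 2 * q ^ ((k + 2) / 2) ≤ q * q ^ ((k + 2) / 2) := Nat.mul_le_mul_right _ hq
      rw [show q * (5 * q ^ ((k + 2) / 2 - 1)) = 5 * (q * q ^ ((k + 2) / 2 - 1)) by ring, h3] at h4
      omega

end CfsgLib.GLClass
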