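import Cfsg.Agent.Lib.GLClass.CommSim

/-!
Factorisations of cyclic matrices into two conjugacy classes by bordering.
-/

set_option autoImplicit false

namespace CfsgLib.GLClass.CommSL

open Polynomial Matrix Module

variable {F : Type*} [Field F] {ι κ τ μ : Type*} [Fintype ι] [DecidableEq ι] [Fintype κ] [DecidableEq κ]
  [Fintype τ] [DecidableEq τ] [Fintype μ] [DecidableEq μ]

/-- `g` is a product of a conjugate of `L` and the inverse of a conjugate of `L'`. -/
def Fac (g : Matrix ι ι F) (L : Matrix κ κ F) (L' : Matrix τ τ F) : Prop :=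
  ∃ X Y : Matrix ι ι F, Sim X L ∧ Sim Y L' ∧ g * Y = X

theorem Fac.sim {g : Matrix ι ι F} {h : Matrix μ μ F} {L : Matrix κ κ F} {L' : Matrix τ τ F} (H : Sim g h)
    (K : Fac h L L') : Fac g L L' := by
  obtain ⟨U, V, h1, h2, rfl⟩ := H
  obtain ⟨X, Y, hX, hY, rfl⟩ := K
  refine ⟨U * (h * Y) * V, U * Y * V, Sim.trans ⟨U, V, h1, h2, rfl⟩ hX, Sim.trans ⟨U, V, h1, h2, rfl⟩ hY, ?_⟩
  calc U * h * V * (U * Y * V) = U * (h * ((V * U) * Y)) * V := by simp only [Matrix.mul_assoc]
    _ = U * (h * Y) * V := by rw [h2, Matrix.one_mul]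

theorem Fac.congr {ρ σ : Type*} [Fintype ρ] [DecidableEq ρ] [Fintype σ] [DecidableEq σ] {g : Matrix ι ι F}
    {L : Matrix κ κ F} {L' : Matrix τ τ F} {K : Matrix ρ ρ F} {K' : Matrix σ σ F} (H : Fac g L L') (h1 : Sim L K)
    (h2 : Sim L' K') : Fac g K K' := by
  obtain ⟨X, Y, hX, hY, h⟩ := H
  exact ⟨X, Y, hX.trans h1, hY.trans h2, h⟩

theorem Fac.blocks {ρ σ : Type*} [Fintype ρ] [DecidableEq ρ] [Fintype σ] [DecidableEq σ]
    {g : Matrix ι ι F} {L : Matrix κ κ F} {L' : Matrix τ τ F} {h : Matrix μ μ F} {K : Matrix ρ ρ F} {K' : Matrix σ σ F}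
    (H : Fac g L L') (H' : Fac h K K') :
    Fac (fromBlocks g 0 0 h) (fromBlocks L 0 0 K) (fromBlocks L' 0 0 K') := by
  obtain ⟨X, Y, hX, hY, rfl⟩ := H
  obtain ⟨X', Y', hX', hY', rfl⟩ := H'
  exact ⟨_, _, hX.blocks hX', hY.blocks hY', by simp [fromBlocks_multiply]⟩

/-- Commutators from factorisations with equal classes. -/
theorem Comm1.of_fac {g : Matrix ι ι F} {L : Matrix κ κ F} {L' : Matrix τ τ F} (H : Fac g L L') (hs : Sim L L')
    (hd : L'.det = 1) (hc : ∀ δ : F, δ ≠ 0 → ∃ z, z * L' = L' * z ∧ z.det = δ) : Comm1 g := by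
  obtain ⟨X, Y, hX, hY, h⟩ := H
  obtain ⟨c, hc'⟩ := isConj_of_sim ((hY.trans hs.symm).trans hX.symm)
  have hcd : (c : Matrix ι ι F).det ≠ 0 := ((Matrix.isUnit_iff_isUnit_det _).1 c.isUnit).ne_zero
  obtain ⟨z, hz, hzd⟩ := hc _ (inv_ne_zero hcd)
  have hY' := hY.det_eq
  obtain ⟨U, V, h1, h2, rfl⟩ := hY
  refine ⟨(c : Matrix ι ι F) * (U * z * V), U * L' * V, ?_, by rw [hY', hd], ?_⟩
  · rw [det_mul, Matrix.det_conj_of_mul_eq_one h1 h2, hzd, mul_inv_cancel₀ hcd]
  · have hcz : U * z * V * (U * L' * V) = U * L' * V * (U * z * V) := by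
      calc U * z * V * (U * L' * V) = U * (z * ((V * U) * L')) * V := by simp only [Matrix.mul_assoc]
        _ = U * (L' * ((V * U) * z)) * V := by rw [h2, Matrix.one_mul, Matrix.one_mul, hz]
        _ = _ := by simp only [Matrix.mul_assoc]
    rw [h, ← mul_assoc, ← hc'.eq, mul_assoc, ← hcz, ← mul_assoc]

theorem sim_left_comm (a : Matrix ι ι F) (b : Matrix κ κ F) (c : Matrix τ τ F) :
    Sim (fromBlocks a 0 0 (fromBlocks b 0 0 c)) (fromBlocks b 0 0 (fromBlocks a 0 0 c)) :=
  ((sim_blocks_assoc a b c).symm.trans ((sim_blocks_comm a b).blocks (Sim.refl c))).trans (sim_blocks_assoc b a c)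

/-- A factorisation whose classes differ in one eigenvalue only. -/
def Chain (g : Matrix ι ι F) (s s' d : F) : Prop :=
  ∃ (r : ℕ) (R : Matrix (Fin r) (Fin r) F),
    Fac g (fromBlocks (s • (1 : Matrix Unit Unit F)) 0 0 R) (fromBlocks (s' • (1 : Matrix Unit Unit F)) 0 0 R) ∧ R.det = d

theorem Chain.mk' {g : Matrix ι ι F} {s s' : F} {R : Matrix κ κ F}
    (H : Fac g (fromBlocks (s • (1 : Matrix Unit Unit F)) 0 0 R) (fromBlocks (s' • (1 : Matrix Unit Unit F)) 0 0 R)) :
    Chain g s s' R.det := by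
  let e := Fintype.equivFin κ
  have h := (sim_reindex e R).symm
  exact ⟨_, Matrix.reindex e e R, H.congr ((Sim.refl _).blocks h) ((Sim.refl _).blocks h), Matrix.det_reindex_self e R⟩

theorem Chain.sim {g : Matrix ι ι F} {h : Matrix μ μ F} {s s' d : F} (H : Sim g h) (K : Chain h s s' d) :
    Chain g s s' d := by
  obtain ⟨r, R, hF, hd⟩ := K
  exact ⟨r, R, hF.sim H, hd⟩

theorem Chain.comm {g : Matrix ι ι F} {s d : F} (H : Chain g s s d) (hsd : s * d = 1) : Comm1 g := by
  obtain ⟨r, R, hF, hd⟩ := H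
  refine Comm1.of_fac hF (Sim.refl _) ?_ fun δ _ => ⟨fromBlocks (δ • (1 : Matrix Unit Unit F)) 0 0 1, ?_, ?_⟩
  · rw [det_fromBlocks_zero₁₂, det_smul, det_one, Fintype.card_unit, pow_one, mul_one, hd, hsd]
  · simp [fromBlocks_multiply, smul_smul, mul_comm]
  · rw [det_fromBlocks_zero₁₂, det_smul, det_one, det_one, Fintype.card_unit, pow_one, mul_one, mul_one]

theorem Chain.blocks {g : Matrix ι ι F} {h : Matrix μ μ F} {s s'' s' d d' : F} (H : Chain g s s'' d)
    (K : Chain h s'' s' d') : Chain (fromBlocks g 0 0 h) s s' (d * (s'' * d')) := by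
  obtain ⟨r, R, hF, rfl⟩ := H
  obtain ⟨r', R', hF', rfl⟩ := K
  let S1 : Matrix Unit Unit F := s • 1
  let S2 : Matrix Unit Unit F := s'' • 1
  let S3 : Matrix Unit Unit F := s' • 1
  have e1 := sim_blocks_assoc S1 R (fromBlocks S2 0 0 R')
  have e2 : Sim (fromBlocks (fromBlocks S2 0 0 R) 0 0 (fromBlocks S3 0 0 R'))
      (fromBlocks S3 0 0 (fromBlocks R 0 0 (fromBlocks S2 0 0 R'))) :=
    (((sim_blocks_assoc S2 R (fromBlocks S3 0 0 R')).trans ((Sim.refl S2).blocks (sim_left_comm R S3 R'))).trans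
      ((sim_left_comm S2 S3 (fromBlocks R 0 0 R')).trans ((Sim.refl S3).blocks (sim_left_comm S2 R R'))))
  have h1 := (hF.blocks hF').congr e1 e2
  have h2 := Chain.mk' h1
  rwa [det_fromBlocks_zero₁₂, det_fromBlocks_zero₁₂, det_smul, det_one, Fintype.card_unit, pow_one, mul_one] at h2

theorem chain_scalar {δ s s' : F} (h : δ * s' = s) : Chain (δ • (1 : Matrix Unit Unit F)) s s' 1 := by
  have h1 : Fac (δ • (1 : Matrix Unit Unit F)) (fromBlocks (s • (1 : Matrix Unit Unit F)) 0 0 (1 : Matrix (Fin 0) (Fin 0) F))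
      (fromBlocks (s' • (1 : Matrix Unit Unit F)) 0 0 (1 : Matrix (Fin 0) (Fin 0) F)) :=
    ⟨s • 1, s' • 1, (sim_blocks_empty _ _).symm, (sim_blocks_empty _ _).symm, by
      rw [Matrix.smul_mul, Matrix.one_mul, smul_smul, h]⟩
  simpa using Chain.mk' h1

/-- Sylvester's equation. -/
theorem exists_sylvester {A : Matrix κ κ F} {S : Matrix τ τ F} (h : IsUnit (aeval A S.charpoly)) (C : Matrix τ κ F) :
    ∃ R : Matrix τ κ F, R * A - S * R = C := by
  let f : Matrix τ κ F →ₗ[F] Matrix τ κ F :=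
    { toFun := fun R => R * A - S * R
      map_add' := fun R R' => by simp [Matrix.add_mul, Matrix.mul_add]; abel
      map_smul' := fun c R => by simp [smul_sub] }
  have hinj : Function.Injective f := by
    refine (injective_iff_map_eq_zero f).2 fun R hR => ?_
    have h1 : R * A = S * R := sub_eq_zero.1 hR
    have h2 : ∀ p : F[X], R * aeval A p = aeval S p * R := fun p => by
      induction p using Polynomial.induction_on with
      | C a => simp [Algebra.algebraMap_eq_smul_one]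
      | add p q hp hq => simp [hp, hq, Matrix.mul_add, Matrix.add_mul]
      | monomial k a ih =>
        rw [pow_succ, ← mul_assoc, map_mul (aeval A) (Polynomial.C a * X ^ k), map_mul (aeval S) (Polynomial.C a * X ^ k),
          aeval_X, aeval_X, ← Matrix.mul_assoc, ih, Matrix.mul_assoc, h1, Matrix.mul_assoc]
    have h3 := h2 S.charpoly
    rw [Matrix.aeval_self_charpoly, Matrix.zero_mul] at h3
    obtain ⟨u, hu⟩ := h
    calc R = R * (u.1 * (u⁻¹).1) := by rw [Units.mul_inv, Matrix.mul_one]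
      _ = 0 := by rw [← Matrix.mul_assoc, hu, h3, Matrix.zero_mul]
  exact LinearMap.injective_iff_surjective.1 hinj C

theorem exists_sylvester' {A : Matrix κ κ F} {S : Matrix τ τ F} (h : IsUnit (aeval A S.charpoly)) (C : Matrix κ τ F) :
    ∃ R : Matrix κ τ F, R * S - A * R = C := by
  let f : Matrix κ τ F →ₗ[F] Matrix κ τ F :=
    { toFun := fun R => R * S - A * R
      map_add' := fun R R' => by simp [Matrix.add_mul, Matrix.mul_add]; abel
      map_smul' := fun c R => by simp [smul_sub] }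
  have hinj : Function.Injective f := by
    refine (injective_iff_map_eq_zero f).2 fun R hR => ?_
    have h1 : R * S = A * R := sub_eq_zero.1 hR
    have h2 : ∀ p : F[X], aeval A p * R = R * aeval S p := fun p => by
      induction p using Polynomial.induction_on with
      | C a => simp [Algebra.algebraMap_eq_smul_one]
      | add p q hp hq => simp [hp, hq, Matrix.mul_add, Matrix.add_mul]
      | monomial k a ih =>
        rw [pow_succ, ← mul_assoc, map_mul (aeval A) (Polynomial.C a * X ^ k), map_mul (aeval S) (Polynomial.C a * X ^ k),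
          aeval_X, aeval_X, Matrix.mul_assoc, ← h1, ← Matrix.mul_assoc, ih, Matrix.mul_assoc]
    have h3 := h2 S.charpoly
    rw [Matrix.aeval_self_charpoly, Matrix.mul_zero] at h3
    obtain ⟨u, hu⟩ := h
    calc R = (u⁻¹).1 * u.1 * R := by rw [Units.inv_mul, Matrix.one_mul]
      _ = 0 := by rw [Matrix.mul_assoc, hu, h3, Matrix.mul_zero]
  exact LinearMap.injective_iff_surjective.1 hinj C

theorem sim_lower {A : Matrix κ κ F} {S : Matrix τ τ F} (h : IsUnit (aeval A S.charpoly)) (C : Matrix τ κ F) :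
    Sim (fromBlocks A 0 C S) (fromBlocks A 0 0 S) := by
  obtain ⟨R, hR⟩ := exists_sylvester h C
  refine ⟨fromBlocks 1 0 R 1, fromBlocks 1 0 (-R) 1, ?_, ?_, ?_⟩ <;>
    simp [fromBlocks_multiply, fromBlocks_one, ← hR, sub_eq_add_neg]

theorem sim_upper {A : Matrix κ κ F} {S : Matrix τ τ F} (h : IsUnit (aeval A S.charpoly)) (C : Matrix κ τ F) :
    Sim (fromBlocks A C 0 S) (fromBlocks A 0 0 S) := by
  obtain ⟨R, hR⟩ := exists_sylvester' h C
  refine ⟨fromBlocks 1 R 0 1, fromBlocks 1 (-R) 0 1, ?_, ?_, ?_⟩ <;>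
    simp [fromBlocks_multiply, fromBlocks_one, ← hR, sub_eq_add_neg, add_comm]

theorem linearIndependent_pow {M : Matrix ι ι F} {v : ι → F} {φ : F[X]} (hφ : φ.Monic)
    (hv : ∀ p : F[X], aeval M p *ᵥ v = 0 ↔ φ ∣ p) :
    LinearIndependent F fun j : Fin φ.natDegree => (M ^ (j : ℕ)) *ᵥ v := by
  classical
  rw [Fintype.linearIndependent_iff]
  intro c hc j
  have h1 : aeval M (∑ i : Fin φ.natDegree, Polynomial.C (c i) * X ^ (i : ℕ)) *ᵥ v = 0 := by
    rw [map_sum, Matrix.sum_mulVec, ← hc]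
    exact Finset.sum_congr rfl fun i _ => by
      rw [map_mul, aeval_C, map_pow, aeval_X, Algebra.algebraMap_eq_smul_one, Matrix.smul_mul, Matrix.one_mul,
        Matrix.smul_mulVec]
  have h2 := (hv _).1 h1
  have h3 : (∑ i : Fin φ.natDegree, Polynomial.C (c i) * X ^ (i : ℕ)) = 0 := by
    refine eq_zero_of_dvd_of_degree_lt h2 ?_
    rw [degree_eq_natDegree hφ.ne_zero]
    exact degree_sum_fin_lt c
  have h4 := congrArg (fun p => coeff p (j : ℕ)) h3
  simpa [finset_sum_coeff, coeff_C_mul, coeff_X_pow, Fin.val_inj] using h4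

theorem coeff_divX_iterate (p : F[X]) : ∀ i l, (Polynomial.divX^[i] p).coeff l = p.coeff (l + i)
  | 0, l => rfl
  | i + 1, l => by rw [Function.iterate_succ_apply', coeff_divX, coeff_divX_iterate p i, add_right_comm, add_assoc]

theorem divX_iterate_step (p : F[X]) (i : ℕ) :
    Polynomial.divX^[i] p = X * Polynomial.divX^[i + 1] p + Polynomial.C (p.coeff i) := by
  conv_lhs => rw [← X_mul_divX_add (Polynomial.divX^[i] p)]
  rw [Function.iterate_succ_apply', coeff_divX_iterate, zero_add]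

theorem natDegree_divX_iterate_le (p : F[X]) (i : ℕ) : (Polynomial.divX^[i] p).natDegree ≤ p.natDegree - i :=
  natDegree_le_iff_coeff_eq_zero.2 fun l hl => by
    rw [coeff_divX_iterate]; exact coeff_eq_zero_of_natDegree_lt (by omega)

theorem divX_iterate_natDegree {p : F[X]} (hp : p.Monic) : Polynomial.divX^[p.natDegree] p = 1 := by
  refine Polynomial.ext fun l => ?_
  rw [coeff_divX_iterate, coeff_one]
  rcases Nat.eq_zero_or_pos l with rfl | hl
  · rw [if_pos rfl, zero_add, ← hp.leadingCoeff]; rfl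
  · rw [if_neg hl.ne']; exact coeff_eq_zero_of_natDegree_lt (by omega)

/-- A commutator with a cyclic vector. -/
structure Src (F : Type*) [Field F] (κ : Type*) [Fintype κ] [DecidableEq κ] where
  A : Matrix κ κ F
  Ai : Matrix κ κ F
  P : Matrix κ κ F
  Pi : Matrix κ κ F
  v : κ → F
  hA : A * Ai = 1
  hA' : Ai * A = 1
  hP : P * Pi = 1
  hP' : Pi * P = 1
  cyclic : ∀ p : F[X], aeval (A * P * Ai * Pi) p *ᵥ v = 0 ↔ (A * P * Ai * Pi).charpoly ∣ p

/-- the commutator of a source -/
def Src.com (Q : Src F κ) : Matrix κ κ F := Q.A * Q.P * Q.Ai * Q.Pi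

/-- Bordering. -/
theorem border (Q : Src F κ) (S S' Si S'i : Matrix τ τ F) (hS : S * Si = 1) (hS' : S' * S'i = 1) (e : τ → F)
    (hτ : 0 < Fintype.card τ) (he : ∀ p : F[X], aeval (S * S'i) p *ᵥ e = 0 ↔ (S * S'i).charpoly ∣ p)
    (hAS : IsUnit (aeval Q.A S.charpoly)) (hAS' : IsUnit (aeval Q.A S'.charpoly)) {φ : F[X]} (hφ : φ.Monic)
    (hdeg : φ.natDegree = Fintype.card κ + Fintype.card τ)
    (h0 : φ.coeff 0 = (Q.com.charpoly * (S * S'i).charpoly).coeff 0)
    (htop : ∀ i, Fintype.card κ < i → φ.coeff i = (Q.com.charpoly * (S * S'i).charpoly).coeff i) :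
    Fac (comp φ) (fromBlocks Q.A 0 0 S) (fromBlocks Q.A 0 0 S') := by
  classical
  set Xm := Q.com with hXm
  set Z := S * S'i with hZ
  have hS'i : S'i * S' = 1 := mul_eq_one_comm.1 hS'
  set Zi := S' * Si with hZi
  have hZZ : Z * Zi = 1 := by
    rw [hZ, hZi, Matrix.mul_assoc, ← Matrix.mul_assoc S'i, hS'i, Matrix.one_mul, hS]
  have hZiZ : Zi * Z = 1 := mul_eq_one_comm.1 hZZ
  set Xi := Q.P * Q.A * Q.Pi * Q.Ai with hXi
  have hXX : Xi * Xm = 1 := by
    simp only [hXi, hXm, Src.com, Matrix.mul_assoc]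
    rw [← Matrix.mul_assoc Q.Ai Q.A, Q.hA', Matrix.one_mul, ← Matrix.mul_assoc Q.Pi Q.P, Q.hP', Matrix.one_mul,
      ← Matrix.mul_assoc Q.A Q.Ai, Q.hA, Matrix.one_mul, Q.hP]
  have hXXi : Xm * Xi = 1 := mul_eq_one_comm.1 hXX
  -- the functional
  set k := Fintype.card κ
  set t := Fintype.card τ with ht
  have hZd : Z.charpoly.natDegree = t := Matrix.charpoly_natDegree_eq_dim Z
  have hXd : Xm.charpoly.natDegree = k := Matrix.charpoly_natDegree_eq_dim Xm
  have hli := linearIndependent_pow Z.charpoly_monic he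
  haveI : Nonempty (Fin Z.charpoly.natDegree) := ⟨⟨0, by omega⟩⟩
  let bZ := basisOfLinearIndependentOfCardEqFinrank hli (by rw [Fintype.card_fin, hZd, Module.finrank_pi])
  have hbZ : ∀ j, bZ j = (Z ^ (j : ℕ)) *ᵥ e := fun j => by simp [bZ]
  let fl : (τ → F) →ₗ[F] F := bZ.constr F fun j => if (j : ℕ) + 1 = t then 1 else 0
  let f : τ → F := fun i => fl (Pi.single i 1)
  have hf : ∀ y : τ → F, f ⬝ᵥ y = fl y := fun y => by
    conv_rhs => rw [pi_eq_sum_univ' y, map_sum]
    exact Finset.sum_congr rfl fun i _ => by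
      rw [map_smul, smul_eq_mul]
      simp only [f]
      rw [mul_comm]
  have hfj : ∀ j, j < t → f ⬝ᵥ ((Z ^ j) *ᵥ e) = if j + 1 = t then 1 else 0 := fun j hj => by
    have := hbZ ⟨j, by omega⟩
    rw [hf, show (Z ^ j) *ᵥ e = bZ ⟨j, by omega⟩ from this.symm]
    exact Basis.constr_basis _ _ _ _
  set W : Matrix κ τ F := vecMulVec Q.v f with hW
  set M0 : Matrix (κ ⊕ τ) (κ ⊕ τ) F := fromBlocks Xm W 0 Z with hM0
  set M0i : Matrix (κ ⊕ τ) (κ ⊕ τ) F := fromBlocks Xi (-(Xi * W * Zi)) 0 Zi with hM0i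
  have hMi : M0i * M0 = 1 := by
    rw [hM0i, hM0, fromBlocks_multiply]
    simp [hXX, hZiZ, Matrix.neg_mul, Matrix.mul_assoc, fromBlocks_one]
  set ev : (κ ⊕ τ) → F := Sum.elim (0 : κ → F) e with hev
  have hM0x : ∀ (a : κ → F) (b : τ → F),
      M0 *ᵥ Sum.elim a b = Sum.elim (Xm *ᵥ a + (f ⬝ᵥ b) • Q.v) (Z *ᵥ b) := fun a b => by
    rw [hM0, fromBlocks_mulVec, hW]
    simp [Matrix.vecMulVec_mulVec, op_smul_eq_smul]
  have hlow : ∀ j, j < t → (M0 ^ j) *ᵥ ev = Sum.elim (0 : κ → F) ((Z ^ j) *ᵥ e) := by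
    intro j
    induction j with
    | zero => intro _; simp [hev]
    | succ j ih =>
      intro hj
      rw [pow_succ', ← Matrix.mulVec_mulVec, ih (by omega), hM0x, Matrix.mulVec_zero, hfj j (by omega),
        if_neg (by omega), zero_smul, add_zero, pow_succ', Matrix.mulVec_mulVec]
  have htt : (M0 ^ t) *ᵥ ev = Sum.elim Q.v ((Z ^ t) *ᵥ e) := by
    obtain ⟨u, hu⟩ : ∃ u, t = u + 1 := ⟨t - 1, by omega⟩
    rw [hu, pow_succ', ← Matrix.mulVec_mulVec, hlow u (by omega), hM0x, Matrix.mulVec_zero, hfj u (by omega),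
      if_pos hu.symm, one_smul, zero_add, pow_succ', Matrix.mulVec_mulVec]
  have hup : ∀ (p : F[X]) (a : κ → F), aeval M0 p *ᵥ Sum.elim a (0 : τ → F) = Sum.elim (aeval Xm p *ᵥ a) (0 : τ → F) := by
    intro p
    induction p using Polynomial.induction_on with
    | C c =>
      intro a
      rw [aeval_C, aeval_C, Algebra.algebraMap_eq_smul_one, Algebra.algebraMap_eq_smul_one, Matrix.smul_mulVec,
        Matrix.smul_mulVec, Matrix.one_mulVec, Matrix.one_mulVec]
      funext x; cases x <;> simp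
    | add p q hp hq =>
      intro a
      rw [map_add, map_add, Matrix.add_mulVec, hp, hq, Matrix.add_mulVec]
      funext x; cases x <;> simp
    | monomial l c ih =>
      intro a
      rw [pow_succ, ← mul_assoc, map_mul (aeval M0) (Polynomial.C c * X ^ l),
        map_mul (aeval Xm) (Polynomial.C c * X ^ l), aeval_X, aeval_X, ← Matrix.mulVec_mulVec, hM0x, dotProduct_zero,
        zero_smul, add_zero, Matrix.mulVec_zero, ih, Matrix.mulVec_mulVec]
  have hev0 : ∀ p : F[X], ∀ y, ∃ a, aeval M0 p *ᵥ Sum.elim y (0 : τ → F) = Sum.elim a (0 : τ → F) := fun p y => ⟨_, hup p y⟩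
  have hsum : ∀ p : F[X], p.natDegree ≤ t →
      aeval M0 p *ᵥ ev = Sum.elim (p.coeff t • Q.v) (aeval Z p *ᵥ e) := by
    intro p hp
    rw [aeval_eq_sum_range' (Nat.lt_succ_of_le hp), aeval_eq_sum_range' (Nat.lt_succ_of_le hp), Matrix.sum_mulVec,
      Matrix.sum_mulVec, Finset.sum_range_succ, Finset.sum_range_succ, Matrix.smul_mulVec, Matrix.smul_mulVec, htt]
    funext x
    cases x with
    | inl i =>
      simp only [Pi.add_apply, Finset.sum_apply, Sum.elim_inl]
      rw [Finset.sum_eq_zero fun j hj => by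
        rw [Matrix.smul_mulVec, hlow j (Finset.mem_range.1 hj)]; simp, zero_add]
      simp
    | inr i =>
      simp only [Pi.add_apply, Finset.sum_apply, Sum.elim_inr]
      congr 1
      · exact Finset.sum_congr rfl fun j hj => by
          rw [Matrix.smul_mulVec, Matrix.smul_mulVec, hlow j (Finset.mem_range.1 hj)]; simp
  set χ := Xm.charpoly * Z.charpoly with hχ
  have hχm : χ.Monic := Xm.charpoly_monic.mul Z.charpoly_monic
  set m := k + t with hm
  have hχd : χ.natDegree = m := by rw [hχ, Xm.charpoly_monic.natDegree_mul Z.charpoly_monic, hXd, hZd]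
  have hχe : aeval M0 Z.charpoly *ᵥ ev = Sum.elim Q.v (0 : τ → F) := by
    rw [hsum _ hZd.le, (he _).2 dvd_rfl, show Z.charpoly.coeff t = 1 by rw [← hZd]; exact Z.charpoly_monic.leadingCoeff,
      one_smul]
  have hcyc0 : ∀ p : F[X], aeval M0 p *ᵥ ev = 0 → p.natDegree < m → p = 0 := by
    intro p hp hpd
    -- divide by the polynomial of the lower block
    have h1 : p = p %ₘ Z.charpoly + Z.charpoly * (p /ₘ Z.charpoly) := (modByMonic_add_div p _).symm
    set q := p %ₘ Z.charpoly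
    set r := p /ₘ Z.charpoly
    have hqd : q.natDegree < t := by
      rw [← hZd]; exact natDegree_modByMonic_lt p Z.charpoly_monic (fun h => by rw [h, natDegree_one] at hZd; omega)
    rw [h1, map_add, mul_comm Z.charpoly r, map_mul, Matrix.add_mulVec, ← Matrix.mulVec_mulVec, hχe, hup,
      hsum q hqd.le, coeff_eq_zero_of_natDegree_lt hqd, zero_smul] at hp
    have e1 : aeval Xm r *ᵥ Q.v = 0 := funext fun i => by simpa using congrFun hp (Sum.inl i)
    have e2 : aeval Z q *ᵥ e = 0 := funext fun i => by simpa using congrFun hp (Sum.inr i)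
    have hq : q = 0 := eq_zero_of_dvd_of_natDegree_lt ((he q).1 e2) (by rw [hZd]; exact hqd)
    have hr : r = 0 := by
      by_contra hr0
      refine hr0 (eq_zero_of_dvd_of_natDegree_lt ((Q.cyclic r).1 e1) ?_)
      change r.natDegree < Xm.charpoly.natDegree
      have h5 := congrArg natDegree h1
      rw [hq, zero_add, Z.charpoly_monic.natDegree_mul' hr0, hZd] at h5
      rw [hXd]
      omega
    rw [h1, hq, hr, mul_zero, add_zero]
  have hann : aeval M0 χ *ᵥ ev = 0 := by
    have h1 : aeval Xm Xm.charpoly *ᵥ Q.v = 0 := (Q.cyclic Xm.charpoly).2 dvd_rfl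
    rw [hχ, map_mul, ← Matrix.mulVec_mulVec, hχe, hup, h1]
    funext x; cases x <;> simp
  -- the Horner basis
  let w : ℕ → (κ ⊕ τ) → F := fun i => aeval M0 (Polynomial.divX^[i + 1] χ) *ᵥ ev
  have hstep : ∀ i, aeval M0 (Polynomial.divX^[i] χ) *ᵥ ev = M0 *ᵥ w i + χ.coeff i • ev := fun i => by
    rw [divX_iterate_step χ i, map_add, map_mul, aeval_X, aeval_C, Algebra.algebraMap_eq_smul_one, Matrix.add_mulVec,
      ← Matrix.mulVec_mulVec, Matrix.smul_mulVec, Matrix.one_mulVec]
  have hlast : w (m - 1) = ev := by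
    show aeval M0 (Polynomial.divX^[m - 1 + 1] χ) *ᵥ ev = ev
    rw [show m - 1 + 1 = χ.natDegree by omega, divX_iterate_natDegree hχm, map_one, Matrix.one_mulVec]
  have hwli : LinearIndependent F fun i : Fin m => w i := by
    rw [Fintype.linearIndependent_iff]
    intro c hc
    have h1 : (∑ i : Fin m, Polynomial.C (c i) * Polynomial.divX^[(i : ℕ) + 1] χ) = 0 := by
      refine hcyc0 _ ?_ (Nat.lt_of_le_of_lt (natDegree_sum_le_of_forall_le _ _ fun i _ =>
        (natDegree_C_mul_le _ _).trans ((natDegree_divX_iterate_le χ _).trans (by omega : χ.natDegree - ((i : ℕ) + 1) ≤ m - 1))) (by omega))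
      rw [map_sum, Matrix.sum_mulVec, ← hc]
      exact Finset.sum_congr rfl fun i _ => by
        rw [map_mul, aeval_C, Algebra.algebraMap_eq_smul_one, Matrix.smul_mul, Matrix.one_mul, Matrix.smul_mulVec]
    by_contra hne
    push Not at hne
    obtain ⟨i0, hi0⟩ := hne
    obtain ⟨i, hi, hmin⟩ := (Finset.univ.filter fun i => c i ≠ 0).exists_minimal ⟨i0, by simp [hi0]⟩
    have hi' : c i ≠ 0 := (Finset.mem_filter.1 hi).2
    have h2 := congrArg (fun p => coeff p (m - 1 - (i : ℕ))) h1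
    simp only [finset_sum_coeff, coeff_C_mul, coeff_zero] at h2
    rw [Finset.sum_eq_single i] at h2
    · refine hi' ?_
      rwa [coeff_divX_iterate, show m - 1 - (i : ℕ) + ((i : ℕ) + 1) = χ.natDegree by omega,
        ← Polynomial.leadingCoeff, hχm.leadingCoeff, mul_one] at h2
    · intro j _ hji
      rcases eq_or_ne (c j) 0 with h | h
      · rw [h, zero_mul]
      have hle : ¬ j < i := fun hlt => absurd (hmin (Finset.mem_filter.2 ⟨Finset.mem_univ j, h⟩) hlt.le) (not_le.2 hlt)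
      rw [coeff_eq_zero_of_natDegree_lt (p := Polynomial.divX^[(j : ℕ) + 1] χ) ((natDegree_divX_iterate_le χ _).trans_lt (by
        have : (i : ℕ) < j := lt_of_le_of_ne (not_lt.1 hle) (fun h => hji (Fin.ext h.symm))
        omega)), mul_zero]
    · simp
  haveI : Nonempty (Fin m) := ⟨⟨0, by omega⟩⟩
  let bw := basisOfLinearIndependentOfCardEqFinrank hwli (by rw [Fintype.card_fin, Module.finrank_pi, Fintype.card_sum])
  let g : ((κ ⊕ τ) → F) →ₗ[F] F := bw.constr F fun i => χ.coeff i - φ.coeff i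
  have hg : ∀ i, i < m → g (w i) = χ.coeff i - φ.coeff i := fun i hi => by
    have : bw ⟨i, hi⟩ = w i := by simp [bw]
    rw [← this]; simp [g, Basis.constr_basis]
  have hgspan : ∀ l, l + 1 < t → g ((M0 ^ l) *ᵥ ev) = 0 := by
    have key : ∀ l, l + 1 < t → (M0 ^ l) *ᵥ ev ∈ Submodule.span F (w '' {i | m - 1 - l ≤ i ∧ i < m}) := by
      intro l
      induction l with
      | zero => intro _; rw [pow_zero, Matrix.one_mulVec, ← hlast]; exact Submodule.subset_span ⟨m - 1, ⟨by omega, by omega⟩, rfl⟩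
      | succ l ih =>
        intro hl
        rw [pow_succ', ← Matrix.mulVec_mulVec]
        have h1 := Submodule.mem_map_of_mem (f := M0.mulVecLin) (ih (by omega))
        rw [Submodule.map_span] at h1
        refine Submodule.span_le.2 ?_ h1
        rintro _ ⟨_, ⟨i, ⟨hi1, hi2⟩, rfl⟩, rfl⟩
        obtain ⟨i', rfl⟩ : ∃ i', i = i' + 1 := ⟨i - 1, by omega⟩
        show M0 *ᵥ w (i' + 1) ∈ _
        have h3 : M0 *ᵥ w (i' + 1) = w i' - χ.coeff (i' + 1) • w (m - 1) := by
          rw [hlast, eq_sub_iff_add_eq, ← hstep]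
        rw [h3]
        exact Submodule.sub_mem _ (Submodule.subset_span ⟨i', ⟨by omega, by omega⟩, rfl⟩)
          (Submodule.smul_mem _ _ (Submodule.subset_span ⟨m - 1, ⟨by omega, by omega⟩, rfl⟩))
    intro l hl
    refine (Submodule.span_le (p := LinearMap.ker g)).2 ?_ (key l hl)
    rintro _ ⟨i, ⟨hi1, hi2⟩, rfl⟩
    show g (w i) = 0
    rw [hg i hi2, htop i (by omega), sub_self]
  -- the inverse kills the lower block
  have hgi : ∀ b : τ → F, g (M0i *ᵥ Sum.elim (0 : κ → F) b) = 0 := by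
    intro b
    let T : (τ → F) →ₗ[F] F :=
      { toFun := fun b => g (M0i *ᵥ Sum.elim (0 : κ → F) b)
        map_add' := fun b b' => by
          rw [← map_add, ← Matrix.mulVec_add]; congr 2; funext x; cases x <;> simp
        map_smul' := fun c b => by
          rw [RingHom.id_apply, ← map_smul, ← Matrix.mulVec_smul]; congr 2; funext x; cases x <;> simp }
    suffices h : T = 0 from LinearMap.congr_fun h b
    refine bZ.ext fun j => ?_
    rw [hbZ]
    show g (M0i *ᵥ Sum.elim (0 : κ → F) ((Z ^ (j : ℕ)) *ᵥ e)) = 0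
    have hj : (j : ℕ) < t := hZd ▸ j.2
    rw [← hlow _ hj]
    rcases Nat.eq_zero_or_pos (j : ℕ) with hj0 | hj0
    · rw [hj0, pow_zero, Matrix.one_mulVec]
      have hc : χ.coeff 0 ≠ 0 := by
        rw [hχ, mul_coeff_zero]
        have hX0 : Xm.charpoly.coeff 0 ≠ 0 := fun he => by
          have h1 : Xm.det * Xi.det = 1 := by rw [← det_mul, hXXi, det_one]
          rw [det_eq_sign_charpoly_coeff, he, mul_zero, zero_mul] at h1
          exact zero_ne_one h1
        have hZ0 : Z.charpoly.coeff 0 ≠ 0 := fun he => by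
          have h1 : Z.det * Zi.det = 1 := by rw [← det_mul, hZZ, det_one]
          rw [det_eq_sign_charpoly_coeff, he, mul_zero, zero_mul] at h1
          exact zero_ne_one h1
        exact mul_ne_zero hX0 hZ0
      have h1 := hstep 0
      rw [Function.iterate_zero_apply, hann] at h1
      have h2 := congrArg (M0i *ᵥ ·) h1
      simp only [Matrix.mulVec_zero, Matrix.mulVec_add, Matrix.mulVec_smul, Matrix.mulVec_mulVec, hMi,
        Matrix.one_mulVec] at h2
      have h3 := congrArg g h2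
      rw [map_zero, map_add, map_smul, hg 0 (by omega), h0, sub_self, zero_add, smul_eq_mul] at h3
      exact (mul_eq_zero.1 h3.symm).resolve_left hc
    · rw [show (j : ℕ) = ((j : ℕ) - 1) + 1 by omega, pow_succ', ← Matrix.mulVec_mulVec, Matrix.mulVec_mulVec, hMi,
        Matrix.one_mulVec]
      exact hgspan _ (by omega)
  let rv : κ → F := fun i => g (M0i *ᵥ Sum.elim (Pi.single i (1 : F)) (0 : τ → F))
  have hrv : ∀ y, rv ⬝ᵥ ((M0 *ᵥ y) ∘ Sum.inl) = g y := by
    intro y
    conv_rhs => rw [← Matrix.one_mulVec y, ← hMi, ← Matrix.mulVec_mulVec]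
    set z := M0 *ᵥ y
    have hz : z = (∑ i, z (Sum.inl i) • Sum.elim (Pi.single i 1) (0 : τ → F)) + Sum.elim (0 : κ → F) (z ∘ Sum.inr) := by
      funext x
      cases x <;> simp [Pi.single_apply, Finset.sum_apply]
    conv_rhs => rw [hz, Matrix.mulVec_add, map_add, hgi, add_zero, Matrix.mulVec_sum, map_sum]
    exact Finset.sum_congr rfl fun i _ => by
      rw [Matrix.mulVec_smul, map_smul, smul_eq_mul]
      show rv i * z (Sum.inl i) = _
      rw [mul_comm]
  set E : Matrix (κ ⊕ τ) (κ ⊕ τ) F := fromBlocks 1 0 (vecMulVec e rv) 1 with hE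
  set M := E * M0 with hMdef
  have hM : ∀ y, M *ᵥ y = M0 *ᵥ y + g y • ev := fun y => by
    rw [hMdef, ← Matrix.mulVec_mulVec, hE, fromBlocks_mulVec, ← hrv y]
    funext x
    cases x with
    | inl i => simp [hev]
    | inr i =>
      simp only [Matrix.vecMulVec_mulVec, op_smul_eq_smul, Matrix.one_mulVec, Sum.elim_inr, Pi.add_apply, Pi.smul_apply,
        Function.comp_apply, hev]
      rw [add_comm]
  -- the characteristic polynomial of the new matrix
  have hG : ∀ l i, i + 1 + l = m → aeval M (Polynomial.divX^[i + 1] φ) *ᵥ ev = w i := by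
    intro l
    induction l with
    | zero =>
      intro i hi
      rw [show i = m - 1 by omega, hlast, show m - 1 + 1 = φ.natDegree by omega, divX_iterate_natDegree hφ, map_one,
        Matrix.one_mulVec]
    | succ l ih =>
      intro i hi
      rw [divX_iterate_step φ (i + 1), map_add, map_mul, aeval_X, aeval_C, Algebra.algebraMap_eq_smul_one,
        Matrix.add_mulVec, ← Matrix.mulVec_mulVec, ih (i + 1) (by omega), Matrix.smul_mulVec, Matrix.one_mulVec,
        hM, hg (i + 1) (by omega)]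
      show _ = aeval M0 (Polynomial.divX^[i + 1] χ) *ᵥ ev
      rw [hstep (i + 1), add_assoc, ← add_smul, sub_add_cancel]
  have hzero : aeval M φ *ᵥ ev = 0 := by
    rw [show φ = Polynomial.divX^[0] φ from rfl, divX_iterate_step φ 0, map_add, map_mul, aeval_X, aeval_C,
      Algebra.algebraMap_eq_smul_one, Matrix.add_mulVec, ← Matrix.mulVec_mulVec, hG (m - 1) 0 (by omega),
      Matrix.smul_mulVec, Matrix.one_mulVec, hM, hg 0 (by omega), add_assoc, ← add_smul, sub_add_cancel, ← hstep 0]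
    exact hann
  have hcyc : Cyc φ M := by
    refine cyc_of_indep hφ (by rw [Fintype.card_sum, hdeg]) hzero fun p hp hp0 => ?_
    let Φ : (Fin m → F) →ₗ[F] ((κ ⊕ τ) → F) := Fintype.linearCombination F fun j : Fin m => (M ^ (j : ℕ)) *ᵥ ev
    have hΦp : ∀ p : F[X], p.natDegree < m → Φ (fun j => p.coeff j) = aeval M p *ᵥ ev := fun p hp => by
      rw [aeval_eq_sum_range' hp, Matrix.sum_mulVec, Fintype.linearCombination_apply,
        ← Fin.sum_univ_eq_sum_range (fun j => (p.coeff j • M ^ j) *ᵥ ev)]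
      exact Finset.sum_congr rfl fun j _ => (Matrix.smul_mulVec _ _ _).symm
    have hsurj : Function.Surjective Φ := by
      rw [← LinearMap.range_eq_top, ← top_le_iff, ← bw.span_eq, Submodule.span_le]
      rintro _ ⟨i, rfl⟩
      refine ⟨fun j => (Polynomial.divX^[(i : ℕ) + 1] φ).coeff j, ?_⟩
      rw [hΦp _ ((natDegree_divX_iterate_le φ _).trans_lt (by omega)), hG (m - 1 - i) i (by omega)]
      simp [bw]
    have hinj : Function.Injective Φ :=
      (LinearMap.injective_iff_surjective_of_finrank_eq_finrank (by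
        rw [Module.finrank_pi, Module.finrank_pi, Fintype.card_fin, Fintype.card_sum])).2 hsurj
    refine Polynomial.ext fun j => ?_
    rcases Nat.lt_or_ge j m with hj | hj
    · have := congrFun (hinj ((hΦp p (by omega)).trans (hp0.trans (map_zero Φ).symm))) ⟨j, hj⟩
      simpa using this
    · rw [coeff_eq_zero_of_natDegree_lt (by omega), coeff_zero]
  refine Fac.sim ((cyc_comp hφ).sim hcyc) ⟨fromBlocks Q.A 0 (vecMulVec e rv * Q.A) S,
    fromBlocks (Q.P * Q.A * Q.Pi) (-(Xi * W * S')) 0 S', sim_lower hAS _, ?_, ?_⟩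
  · have hPA : Sim (fromBlocks (Q.P * Q.A * Q.Pi) (-(Xi * W * S')) 0 S')
        (fromBlocks Q.A (-(Q.Pi * (Xi * W * S'))) 0 S') := by
      refine ⟨fromBlocks Q.P 0 0 1, fromBlocks Q.Pi 0 0 1, ?_, ?_, ?_⟩
      · simp [fromBlocks_multiply, Q.hP, fromBlocks_one]
      · simp [fromBlocks_multiply, Q.hP', fromBlocks_one]
      · simp [fromBlocks_multiply, Matrix.neg_mul, Matrix.mul_neg, ← Matrix.mul_assoc, Q.hP]
    exact hPA.trans (sim_upper hAS' _)
  · have h1 : Xm * (Q.P * Q.A * Q.Pi) = Q.A := by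
      simp only [hXm, Src.com, Matrix.mul_assoc]
      rw [← Matrix.mul_assoc Q.Pi Q.P, Q.hP', Matrix.one_mul, ← Matrix.mul_assoc Q.Ai, Q.hA', Matrix.one_mul, Q.hP,
        Matrix.mul_one]
    have h2 : Z * S' = S := by rw [hZ, Matrix.mul_assoc, hS'i, Matrix.mul_one]
    rw [hMdef, Matrix.mul_assoc, hM0, hE, fromBlocks_multiply, fromBlocks_multiply]
    simp [h1, h2, Matrix.mul_neg, ← Matrix.mul_assoc, hXXi]

end CfsgLib.GLClass.CommSL
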