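import Cfsg.Agent.Lib.GLClass.CommSmall

/-!
Chains of blocks: lists of companion blocks whose product of determinants is one.
-/

set_option autoImplicit false

namespace CfsgLib.GLClass.CommSL

open Polynomial Matrix Module

variable {F : Type*} [Field F] {ι κ : Type*} [Fintype ι] [DecidableEq ι] [Fintype κ] [DecidableEq κ]

/-- A chain with the normalized weight `e`. -/
def Ch (g : Matrix ι ι F) (s s' e : F) : Prop := ∃ d, s * d = e ∧ Chain g s s' d

theorem Ch.blocks {g : Matrix ι ι F} {h : Matrix κ κ F} {s s'' s' e e' : F} (H : Ch g s s'' e)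
    (K : Ch h s'' s' e') : Ch (fromBlocks g 0 0 h) s s' (e * e') := by
  obtain ⟨d, rfl, hd⟩ := H
  obtain ⟨d', rfl, hd'⟩ := K
  exact ⟨d * (s'' * d'), by ring, hd.blocks hd'⟩

theorem Ch.sim {g : Matrix ι ι F} {h : Matrix κ κ F} {s s' e : F} (H : Sim g h) (K : Ch h s s' e) : Ch g s s' e := by
  obtain ⟨d, hd, hc⟩ := K
  exact ⟨d, hd, hc.sim H⟩

theorem Ch.com {g : Matrix ι ι F} {s : F} (H : Ch g s s 1) : Com g := by
  obtain ⟨d, hd, hc⟩ := H
  exact hc.com hd

/-- The determinant of a block. -/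
def dd (φ : F[X]) : F := (comp φ).det

/-- Monic of positive degree with nonzero determinant. -/
def GoodB (φ : F[X]) : Prop := φ.Monic ∧ dd φ ≠ 0 ∧ 1 ≤ φ.natDegree

theorem dd_mul {φ ψ : F[X]} (hφ : φ.Monic) (hψ : ψ.Monic) : dd (φ * ψ) = dd φ * dd ψ := by
  rw [dd, dd, dd, det_comp (hφ.mul hψ), det_comp hφ, det_comp hψ, hφ.natDegree_mul hψ, mul_coeff_zero, pow_add]
  ring

theorem GoodB.mul {φ ψ : F[X]} (h : GoodB φ) (k : GoodB ψ) : GoodB (φ * ψ) := by
  refine ⟨h.1.mul k.1, ?_, ?_⟩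
  · rw [dd_mul h.1 k.1]; exact mul_ne_zero h.2.1 k.2.1
  · rw [h.1.natDegree_mul k.1]; have := h.2.2; omega

theorem prod_dd_cm (l : List F[X]) : (CM l).det = (l.map dd).prod := det_cm l

theorem eq_X_sub_C {φ : F[X]} (hφ : φ.Monic) (h1 : φ.natDegree = 1) : φ = X - Polynomial.C (dd φ) := by
  have h := hφ.eq_X_add_C h1
  rw [dd, det_comp hφ, h1, pow_one, neg_one_mul, map_neg, sub_neg_eq_add]
  exact h

theorem ch_one {φ : F[X]} (h : GoodB φ) (h1 : φ.natDegree = 1) {s : F} (_hs : s ≠ 0) :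
    Ch (comp φ) s (s / dd φ) s := by
  refine ⟨1, mul_one s, Chain.sim ?_ (chain_scalar (show dd φ * (s / dd φ) = s from mul_div_cancel₀ s h.2.1))⟩
  have := eq_X_sub_C h.1 h1
  have hc := cyc_unit (dd φ)
  rw [← this] at hc
  exact (cyc_comp h.1).sim hc

theorem ch_two {φ : F[X]} (h : GoodB φ) (h2 : φ.natDegree = 2) {s x : F} (hs : s ≠ 0) (hx : x ≠ 0) (hx1 : x ≠ s)
    (hx2 : x ≠ s / dd φ) : Ch (comp φ) s (s / dd φ) (s * x) := by
  have hd : (comp (X - Polynomial.C x)).det = x := by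
    rw [det_comp (monic_X_sub_C x), natDegree_X_sub_C, pow_one, coeff_sub, coeff_X_zero, coeff_C_zero]
    ring
  refine ⟨x, rfl, hd ▸ chain_block h.1 (monic_X_sub_C x) ?_ ?_ ?_ ?_ hs (div_ne_zero hs h.2.1)
    (mul_div_cancel₀ s h.2.1) ?_ ?_⟩
  · rw [natDegree_X_sub_C, h2]
  · rw [natDegree_X_sub_C]
  · rw [coeff_sub, coeff_X_zero, coeff_C_zero, zero_sub]; exact neg_ne_zero.2 hx
  · intro i hi hi'; rw [natDegree_X_sub_C] at hi'; omega
  · rw [eval_sub, eval_X, eval_C]; exact sub_ne_zero.2 (Ne.symm hx1)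
  · rw [eval_sub, eval_X, eval_C]; exact sub_ne_zero.2 (Ne.symm hx2)

variable [Fintype F]

theorem exists_avoid (B : Finset F) (h : B.card < Fintype.card F) : ∃ a, a ∉ B := by
  by_contra hn
  push Not at hn
  rw [Finset.eq_univ_iff_forall.2 hn, Finset.card_univ] at h
  omega

/-- Trinomials with prescribed determinant avoiding two roots. -/
theorem exists_trinomial {k : ℕ} (hk : 2 ≤ k) {s s' d : F} (hs : s ≠ 0) (hs0 : s' ≠ 0) (hd : d ≠ 0) :
    ∃ T : F[X], T.Monic ∧ T.natDegree = k ∧ T.coeff 0 ≠ 0 ∧ (∀ i, 2 ≤ i → i < k → T.coeff i = 0) ∧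
      (comp T).det = d ∧ T.eval s ≠ 0 ∧ T.eval s' ≠ 0 := by
  classical
  set c0 : F := (-1) ^ k * d with hc0
  have hc0n : c0 ≠ 0 := mul_ne_zero (pow_ne_zero _ (neg_ne_zero.2 one_ne_zero)) hd
  let bad : F → F := fun x => -(x ^ k + c0) / x
  obtain ⟨a, ha⟩ : ∃ a, a ∉ ({bad s, bad s'} : Finset F) := by
    refine exists_avoid _ ?_
    rcases eq_or_ne s s' with h' | h'
    · rw [← h', Finset.pair_eq_singleton, Finset.card_singleton]; exact Fintype.one_lt_card
    · refine lt_of_le_of_lt Finset.card_le_two ?_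
      have : ({0, s, s'} : Finset F).card = 3 :=
        Finset.card_eq_three.2 ⟨0, s, s', Ne.symm hs, Ne.symm hs0, h', rfl⟩
      exact lt_of_lt_of_le (by omega) (this ▸ Finset.card_le_univ _)
  simp only [Finset.mem_insert, Finset.mem_singleton, not_or] at ha
  set T : F[X] := X ^ k + (Polynomial.C a * X + Polynomial.C c0) with hT
  have hlt : (Polynomial.C a * X + Polynomial.C c0).degree < (k : WithBot ℕ) :=
    lt_of_le_of_lt degree_linear_le (by exact_mod_cast (show 1 < k by omega))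
  have hTm : T.Monic := monic_X_pow_add hlt
  have hTd : T.natDegree = k := by
    rw [hT, natDegree_add_eq_left_of_degree_lt (by rwa [degree_X_pow]), natDegree_X_pow]
  have hco : ∀ i, T.coeff i = (if i = k then 1 else 0) + ((if i = 1 then a else 0) + if i = 0 then c0 else 0) := fun i => by
    rw [hT, coeff_add, coeff_add, coeff_X_pow, coeff_C_mul, coeff_X, coeff_C]
    congr 2
    by_cases hi : i = 1
    · subst hi; simp
    · rw [if_neg hi, if_neg (Ne.symm hi), mul_zero]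
  have hev : ∀ x, x ≠ 0 → a ≠ bad x → T.eval x ≠ 0 := fun x hx hab h0 => hab (by
    rw [hT, eval_add, eval_add, eval_mul, eval_pow, eval_X, eval_C, eval_C] at h0
    simp only [bad]
    rw [eq_div_iff hx]
    linear_combination h0)
  refine ⟨T, hTm, hTd, ?_, fun i hi hi' => ?_, ?_, hev s hs ha.1, hev s' hs0 ha.2⟩
  · rw [hco, if_neg (by omega), if_neg (by omega), if_pos rfl]; simpa using hc0n
  · rw [hco, if_neg (by omega), if_neg (by omega), if_neg (by omega)]; simp
  · rw [det_comp hTm, hTd, hco, if_neg (by omega), if_neg (by omega), if_pos rfl, zero_add, zero_add, hc0, ← mul_assoc,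
      ← mul_pow, neg_one_mul, neg_neg, one_pow, one_mul]

theorem ch_big {φ : F[X]} (h : GoodB φ) (h3 : 3 ≤ φ.natDegree) {s e : F} (hs : s ≠ 0) (he : e ≠ 0) :
    Ch (comp φ) s (s / dd φ) e := by
  obtain ⟨k, hk⟩ : ∃ k, φ.natDegree = k + 1 := ⟨φ.natDegree - 1, by omega⟩
  obtain ⟨T, hTm, hTd, hT0, htri, hd, h1, h2⟩ :=
    exists_trinomial (show 2 ≤ k by omega) hs (div_ne_zero hs h.2.1) (div_ne_zero he hs)
  refine ⟨e / s, mul_div_cancel₀ e hs, hd ▸ chain_block h.1 hTm (by rw [hTd, hk]) (by omega) hT0 ?_ hs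
    (div_ne_zero hs h.2.1) (mul_div_cancel₀ s h.2.1) h1 h2⟩
  rw [hTd]; exact htri

/-- Chains of lists. -/
def ChL (l : List F[X]) (s s' e : F) : Prop := (l = [] ∧ s = s' ∧ e = 1) ∨ Ch (CM l) s s' e

omit [Fintype F] in
theorem ChL.cons {φ : F[X]} {l : List F[X]} {s s'' s' e e' : F} (H : Ch (comp φ) s s'' e) (K : ChL l s'' s' e') :
    ChL (φ :: l) s s' (e * e') := by
  rcases K with ⟨rfl, rfl, rfl⟩ | K
  · exact Or.inr (by rw [mul_one]; exact H.sim (cm_singleton φ))
  · exact Or.inr (H.blocks K)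

omit [Fintype F] in
theorem ChL.com {l : List F[X]} {s : F} (H : ChL l s s 1) (hl : l ≠ []) : Com (CM l) := by
  rcases H with ⟨h, -, -⟩ | H
  · exact absurd h hl
  · exact H.com

omit [Fintype F] in
theorem ChL.comm1 {l : List F[X]} {s : F} (H : ChL l s s 1) : Comm1 (CM l) := by
  rcases H with ⟨rfl, -, -⟩ | H
  · haveI : IsEmpty (Idx ([] : List F[X])) := inferInstanceAs (IsEmpty (Fin 0))
    refine ⟨1, 1, det_one, det_one, ?_⟩
    ext i; exact isEmptyElim i
  · exact H.com.comm1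

omit [Fintype F] in
theorem comm1_nil : Comm1 (CM ([] : List F[X])) := ChL.comm1 (s := 1) (Or.inl ⟨rfl, rfl, rfl⟩)

omit [Fintype F] in
theorem Com.of_perm {l m : List F[X]} (h : l.Perm m) (H : Com (CM m)) : Com (CM l) := H.sim (cm_perm h)

omit [Fintype F] in
theorem Comm1.of_perm {l m : List F[X]} (h : l.Perm m) (H : Comm1 (CM m)) : Comm1 (CM l) := H.sim (cm_perm h)

omit [Fintype F] in
theorem Com.single {φ : F[X]} (H : Com (comp φ)) : Com (CM [φ]) := H.sim (cm_singleton φ)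

omit [Fintype F] in
theorem Com.append {l m : List F[X]} (hl : Com (CM l)) (hm : LoopC (CM m)) : Com (CM (l ++ m)) :=
  (hl.blocks hm).sim (cm_append l m)

/-- Blocks that are links of chains. -/
def Semi (φ : F[X]) : Prop := ∀ s : F, s ≠ 0 → ∃ e, e ≠ 0 ∧ Ch (comp φ) s (s / dd φ) e

theorem semi_of {φ : F[X]} (h : GoodB φ)
    (h2 : φ.natDegree ≠ 2 ∨ 4 ≤ Fintype.card F ∨ (dd φ = 1 ∧ 3 ≤ Fintype.card F)) : Semi φ := by
  classical
  intro s hs
  rcases Nat.lt_or_ge φ.natDegree 3 with hd | hd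
  · rcases (show φ.natDegree = 1 ∨ φ.natDegree = 2 by have := h.2.2; omega) with hd1 | hd2
    · exact ⟨s, hs, ch_one h hd1 hs⟩
    · obtain ⟨x, hx⟩ : ∃ x, x ∉ ({0, s, s / dd φ} : Finset F) := by
        refine exists_avoid _ ?_
        rcases h2 with h2 | h2 | ⟨h2, h2'⟩
        · exact absurd hd2 h2
        · exact lt_of_le_of_lt Finset.card_le_three (by omega)
        · rw [h2, div_one, Finset.insert_eq_of_mem (Finset.mem_singleton_self s) (a := s) (s := {s})]
          exact lt_of_le_of_lt Finset.card_le_two (by omega)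
      simp only [Finset.mem_insert, Finset.mem_singleton, not_or] at hx
      exact ⟨s * x, mul_ne_zero hs hx.1, ch_two h hd2 hs hx.1 hx.2.1 hx.2.2⟩
  · exact ⟨1, one_ne_zero, ch_big h hd hs one_ne_zero⟩

theorem chL_flex {φ : F[X]} (hφ : GoodB φ) (h3 : 3 ≤ φ.natDegree) :
    ∀ l : List F[X], (∀ ψ ∈ l, dd ψ ≠ 0 ∧ Semi ψ) → ∀ s e : F, s ≠ 0 → e ≠ 0 →
      ChL (l ++ [φ]) s (s / ((l ++ [φ]).map dd).prod) e
  | [], _, s, e, hs, he => by
    simpa using ChL.cons (ch_big hφ h3 hs he) (Or.inl ⟨rfl, rfl, rfl⟩ : ChL [] (s / dd φ) (s / dd φ) 1)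
  | ψ :: l, hl, s, e, hs, he => by
    obtain ⟨hψ, hψs⟩ := hl ψ List.mem_cons_self
    obtain ⟨e1, he1, h1⟩ := hψs s hs
    have h2 := chL_flex hφ h3 l (fun x hx => hl x (List.mem_cons_of_mem _ hx)) (s / dd ψ) (e / e1)
      (div_ne_zero hs hψ) (div_ne_zero he he1)
    have h := ChL.cons h1 h2
    rw [mul_div_cancel₀ e he1, div_div] at h
    simpa using h

/-- A list with a big block. -/
theorem com_big {φ : F[X]} (hφ : GoodB φ) (h3 : 3 ≤ φ.natDegree) (l : List F[X]) (hl : ∀ ψ ∈ l, dd ψ ≠ 0 ∧ Semi ψ)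
    (hp : ((φ :: l).map dd).prod = 1) : Com (CM (φ :: l)) := by
  have hperm : (φ :: l).Perm (l ++ [φ]) := (List.perm_append_singleton φ l).symm
  refine Com.of_perm hperm ?_
  have h := chL_flex hφ h3 l hl 1 1 one_ne_zero one_ne_zero
  rw [← (hperm.map dd).prod_eq, hp, div_one] at h
  exact h.com (by simp)

omit [Fintype F] in
/-- The square of the product of consecutive powers. -/
theorem sq_prod_pow (x : F) (N : ℕ) : (∏ k ∈ Finset.range N, x ^ k) ^ 2 = (x ^ N) ^ (N - 1) := by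
  rw [Finset.prod_pow_eq_pow_sum, ← pow_mul, ← pow_mul, Finset.sum_range_id_mul_two]

theorem chL_two {c : F} (hc : c ≠ 0) (hc2 : c ^ 2 ≠ 1) :
    ∀ l : List F[X], (∀ φ ∈ l, GoodB φ ∧ φ.natDegree ≤ 2 ∧ dd φ = c ^ φ.natDegree) → ∀ s : F, s ≠ 0 →
      ChL l s (s / c ^ (l.map natDegree).sum) (∏ k ∈ Finset.range (l.map natDegree).sum, s / c ^ k)
  | [], _, s, _ => Or.inl ⟨rfl, by simp, by simp⟩
  | φ :: l, hl, s, hs => by
    obtain ⟨hg, hd, hdd⟩ := hl φ List.mem_cons_self
    have hc1 : c ≠ 1 := fun h => hc2 (by rw [h, one_pow])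
    have ih := fun t ht => chL_two hc hc2 l (fun x hx => hl x (List.mem_cons_of_mem _ hx)) t ht
    rw [List.map_cons, List.sum_cons]
    rcases (show φ.natDegree = 1 ∨ φ.natDegree = 2 by have := hg.2.2; omega) with h1 | h2
    · rw [h1, pow_one] at hdd
      have h := ChL.cons (ch_one hg h1 hs) (ih (s / dd φ) (div_ne_zero hs hg.2.1))
      rw [h1]
      rw [hdd] at h
      convert h using 1
      · rw [add_comm, pow_succ', div_div]
      · rw [add_comm, Finset.prod_range_succ', pow_zero, div_one, mul_comm]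
        congr 1
        exact Finset.prod_congr rfl fun k _ => by rw [pow_succ', div_div]
    · rw [h2] at hdd
      have hx : s / c ≠ s := fun h => hc1 (by field_simp at h; exact h.symm)
      have hx2 : s / c ≠ s / dd φ := fun h => hc1 (by rw [hdd] at h; field_simp at h; exact h)
      have h := ChL.cons (ch_two hg h2 hs (div_ne_zero hs hc) hx hx2) (ih (s / dd φ) (div_ne_zero hs hg.2.1))
      rw [h2]
      rw [hdd] at h
      convert h using 1
      · rw [pow_add, div_div]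
      · rw [Finset.prod_range_add, Finset.prod_range_succ, Finset.prod_range_one, pow_zero, div_one, pow_one]
        congr 1
        exact Finset.prod_congr rfl fun k _ => by rw [pow_add, div_div]

/-- Blocks with determinants `c` and `c²`, `c² ≠ 1`. -/
theorem com_two {c : F} (hc : c ≠ 0) (hc2 : c ^ 2 ≠ 1) (φ : F[X]) (l : List F[X])
    (hφ : GoodB φ ∧ φ.natDegree = 2 ∧ dd φ = c ^ φ.natDegree)
    (hl : ∀ ψ ∈ l, GoodB ψ ∧ ψ.natDegree ≤ 2 ∧ dd ψ = c ^ ψ.natDegree)
    (hN : c ^ ((φ :: l).map natDegree).sum = 1) : Com (CM (φ :: l)) := by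
  obtain ⟨hg, h2, hdd⟩ := hφ
  have hc1 : c ≠ 1 := fun h => hc2 (by rw [h, one_pow])
  have hcm : c ≠ -1 := fun h => hc2 (by rw [h]; ring)
  have h := chL_two hc hc2 (φ :: l)
    (List.forall_mem_cons.2 ⟨⟨hg, by omega, hdd⟩, hl⟩) 1 one_ne_zero
  rw [hN, div_one] at h
  set N := ((φ :: l).map natDegree).sum with hNdef
  set E := ∏ k ∈ Finset.range N, (1 : F) / c ^ k with hE
  have hE2 : E * E = 1 := by
    rw [← sq, hE]
    simp only [one_div, ← inv_pow]
    rw [sq_prod_pow, inv_pow, hN, inv_one, one_pow]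
  rcases mul_self_eq_one_iff.1 hE2 with he | he
  · rw [he] at h; exact h.com (by simp)
  -- the flipped first block
  have hN' : N = 2 + (l.map natDegree).sum := by rw [hNdef, List.map_cons, List.sum_cons, h2]
  rw [h2] at hdd
  have hx : -(1 / c) ≠ (1 : F) := fun h => hcm (by field_simp at h; linear_combination -h)
  have hx2 : -(1 / c) ≠ 1 / dd φ := fun h => hcm (by rw [hdd] at h; field_simp at h; linear_combination -h)
  have h' := ChL.cons (ch_two hg h2 one_ne_zero (neg_ne_zero.2 (div_ne_zero one_ne_zero hc)) hx hx2)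
    (chL_two hc hc2 l hl (1 / dd φ) (div_ne_zero one_ne_zero hg.2.1))
  refine ChL.com (s := 1) ?_ (by simp)
  convert h' using 1
  · rw [hdd, div_div, ← pow_add, ← hN', hN, div_one]
  · rw [hE, hN', Finset.prod_range_add, Finset.prod_range_succ, Finset.prod_range_one, pow_zero, div_one, pow_one,
      one_mul] at he
    rw [Finset.prod_congr rfl fun k _ => (show (1 : F) / dd φ / c ^ k = 1 / c ^ (2 + k) by rw [hdd, div_div, ← pow_add])]
    linear_combination he

theorem chL_quad {δ : F} (hδ : δ ≠ 0) (hδ2 : δ ^ 2 ≠ 1) :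
    ∀ l : List F[X], (∀ φ ∈ l, GoodB φ ∧ φ.natDegree = 2 ∧ dd φ = δ) → ∀ s : F, s ≠ 0 →
      ChL l s (s / δ ^ l.length) ((∏ k ∈ Finset.range l.length, s / δ ^ (k + 1)) ^ 2)
  | [], _, s, _ => Or.inl ⟨rfl, by simp, by simp⟩
  | φ :: l, hl, s, hs => by
    obtain ⟨hg, h2, hdd⟩ := hl φ List.mem_cons_self
    have hδ1 : δ ≠ 1 := fun h => hδ2 (by rw [h, one_pow])
    have hx : s / δ ^ 2 ≠ s := fun h => hδ2 (by field_simp at h; exact h.symm)
    have hx2 : s / δ ^ 2 ≠ s / dd φ := fun h => hδ1 (by rw [hdd] at h; field_simp at h; exact h.symm)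
    have h := ChL.cons (ch_two hg h2 hs (div_ne_zero hs (pow_ne_zero _ hδ)) hx hx2)
      (chL_quad hδ hδ2 l (fun x hx => hl x (List.mem_cons_of_mem _ hx)) (s / dd φ) (div_ne_zero hs hg.2.1))
    rw [hdd] at h
    rw [List.length_cons]
    convert h using 1
    · rw [pow_succ', div_div]
    · rw [Finset.prod_range_succ', mul_pow, zero_add, pow_one, mul_comm]
      congr 1
      · field_simp
      · congr 1
        exact Finset.prod_congr rfl fun k _ => by rw [div_div, ← pow_succ']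

/-- Quadratic blocks of equal determinant `δ`, `δ² ≠ 1`. -/
theorem com_quad {δ : F} (hδ : δ ≠ 0) (hδ2 : δ ^ 2 ≠ 1) (l : List F[X]) (hne : l ≠ [])
    (hl : ∀ φ ∈ l, GoodB φ ∧ φ.natDegree = 2 ∧ dd φ = δ) (hN : δ ^ l.length = 1) : Com (CM l) := by
  have h := chL_quad hδ hδ2 l hl 1 one_ne_zero
  rw [hN, div_one] at h
  refine ChL.com (s := 1) ?_ hne
  convert h using 1
  symm
  simp only [show ∀ k, (1 : F) / δ ^ (k + 1) = δ⁻¹ ^ k * δ⁻¹ from fun k => by rw [one_div, ← inv_pow, pow_succ]]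
  rw [Finset.prod_mul_distrib, mul_pow, sq_prod_pow, Finset.prod_const, Finset.card_range, inv_pow, hN, inv_one,
    one_pow, one_pow, mul_one]

/-- A quadratic block of determinant one is a commutator as soon as there are four scalars. -/
theorem com_quad_one {φ : F[X]} (hg : GoodB φ) (h2 : φ.natDegree = 2) (hd : dd φ = 1) (hq : 4 ≤ Fintype.card F) :
    Com (comp φ) := by
  classical
  obtain ⟨s, hs⟩ : ∃ s, s ∉ ({0, 1, -1} : Finset F) := exists_avoid _ (lt_of_le_of_lt Finset.card_le_three (by omega))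
  simp only [Finset.mem_insert, Finset.mem_singleton, not_or] at hs
  obtain ⟨hs0, hs1, hs2⟩ := hs
  have hx : s⁻¹ ≠ s := fun h => by
    have : s * s = 1 := by nth_rewrite 1 [← h]; exact inv_mul_cancel₀ hs0
    rcases mul_self_eq_one_iff.1 this with e | e
    · exact hs1 e
    · exact hs2 e
  have h := ch_two hg h2 hs0 (inv_ne_zero hs0) hx (by rwa [hd, div_one])
  rw [hd, div_one, mul_inv_cancel₀ hs0] at h
  exact h.com

/-- Two quadratic blocks of determinant minus one. -/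
theorem com_quad_pair {φ ψ : F[X]} (hg : GoodB φ) (h2 : φ.natDegree = 2) (hd : dd φ = -1) (hg' : GoodB ψ)
    (h2' : ψ.natDegree = 2) (hd' : dd ψ = -1) (hq : 4 ≤ Fintype.card F) : Com (CM [φ, ψ]) := by
  classical
  obtain ⟨x, hx⟩ : ∃ x, x ∉ ({0, 1, -1} : Finset F) := exists_avoid _ (lt_of_le_of_lt Finset.card_le_three (by omega))
  simp only [Finset.mem_insert, Finset.mem_singleton, not_or] at hx
  obtain ⟨hx0, hx1, hx2⟩ := hx
  have h1 := ch_two hg h2 (one_ne_zero (α := F)) hx0 hx1 (by rwa [hd, div_neg, div_one])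
  have hy1 : -x⁻¹ ≠ (1 : F) / dd φ := by
    rw [hd, div_neg, div_one]; exact fun h => hx1 (by rw [neg_inj] at h; exact inv_eq_one.1 h)
  have hy2 : -x⁻¹ ≠ (1 : F) / dd φ / dd ψ := by
    rw [hd, hd', div_neg, div_one, div_neg, div_one, neg_neg]
    exact fun h => hx2 (by rw [neg_eq_iff_eq_neg] at h; rw [← inv_inv x, h, inv_neg, inv_one])
  have h2'' := ch_two hg' h2' (s := 1 / dd φ) (by rw [hd]; simp) (neg_ne_zero.2 (inv_ne_zero hx0)) hy1 hy2
  have h := ChL.cons h1 (ChL.cons h2'' (Or.inl ⟨rfl, rfl, rfl⟩ : ChL [] _ _ (1 : F)))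
  refine ChL.com (s := 1) ?_ (by simp)
  rw [hd, hd'] at h
  convert h using 1
  · simp
  · field_simp

end CfsgLib.GLClass.CommSL
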