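import Cfsg.Agent.Lib.GLClass.CommChain

/-!
Diagonal matrices with at most two values as commutators of a monomial and a diagonal matrix.
-/

set_option autoImplicit false

namespace CfsgLib.GLClass.CommSL

open Polynomial Matrix Module

variable {F : Type*} [Field F]

/-- The product of the prefix products of a list. -/
def rho : List F → F
  | [] => 1
  | d :: l => d ^ (l.length + 1) * rho l

theorem rho_append : ∀ l m : List F, rho (l ++ m) = l.prod ^ m.length * rho l * rho m
  | [], m => by simp [rho]
  | d :: l, m => by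
    rw [List.cons_append, rho, rho_append l m, rho, List.prod_cons, List.length_append, mul_pow,
      show l.length + m.length + 1 = m.length + (l.length + 1) by omega, pow_add]
    ring

theorem rho_replicate (a : F) : ∀ u : ℕ, rho (List.replicate (2 * u) a) = a ^ (u * (2 * u + 1)) ∧
    rho (List.replicate (2 * u + 1) a) = a ^ ((u + 1) * (2 * u + 1))
  | 0 => by simp [rho]
  | u + 1 => by
    obtain ⟨-, h2⟩ := rho_replicate a u
    have h3 : rho (List.replicate (2 * (u + 1)) a) = a ^ ((u + 1) * (2 * (u + 1) + 1)) := by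
      rw [show 2 * (u + 1) = 2 * u + 1 + 1 by omega, List.replicate_succ, rho, h2, List.length_replicate, ← pow_add]
      congr 1; ring
    refine ⟨h3, ?_⟩
    rw [List.replicate_succ, rho, h3, List.length_replicate, ← pow_add]
    congr 1; ring

theorem prod_prefix : ∀ l : List F, ∏ k ∈ Finset.range l.length, (l.take (k + 1)).prod = rho l
  | [] => by simp [rho]
  | d :: l => by
    rw [List.length_cons, Finset.prod_range_succ', rho, ← prod_prefix l]
    simp [Finset.prod_mul_distrib, pow_succ]
    ring

/-- A linear block. -/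
noncomputable def lin (c : F) : F[X] := X - Polynomial.C c

theorem dd_lin (c : F) : dd (lin c) = c := by
  rw [dd, lin, det_comp (monic_X_sub_C c), natDegree_X_sub_C, pow_one, coeff_sub, coeff_X_zero, coeff_C_zero]
  ring

theorem sim_diag : ∀ (L : List F) (n : ℕ), n = L.length →
    Sim (CM (L.map lin)) (diagonal fun k : Fin n => L.getD k 1)
  | [], n, hn => by
    subst hn
    haveI : IsEmpty (Idx (([] : List F).map lin)) := inferInstanceAs (IsEmpty (Fin 0))
    haveI : IsEmpty (Fin ([] : List F).length) := inferInstanceAs (IsEmpty (Fin 0))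
    exact ⟨0, 0, Subsingleton.elim _ _, Subsingleton.elim _ _, Subsingleton.elim _ _⟩
  | c :: L, n, hn => by
    subst hn
    let e : Unit ⊕ Fin L.length ≃ Fin (c :: L).length :=
      { toFun := Sum.elim (fun _ => (0 : Fin (L.length + 1))) Fin.succ
        invFun := Fin.cases (Sum.inl ()) Sum.inr
        left_inv := by rintro (u | k) <;> simp
        right_inv := fun k => by induction k using Fin.cases <;> simp }
    have h1 : Sim (comp (lin c)) (c • (1 : Matrix Unit Unit F)) :=
      (cyc_comp (monic_X_sub_C c)).sim (cyc_unit c)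
    refine (h1.blocks (sim_diag L _ rfl)).trans ?_
    have h2 : fromBlocks (c • (1 : Matrix Unit Unit F)) 0 0 (diagonal fun k : Fin L.length => L.getD k 1) =
        Matrix.reindex e.symm e.symm (diagonal fun k : Fin (c :: L).length => (c :: L).getD k 1) := by
      rw [Matrix.smul_one_eq_diagonal, fromBlocks_diagonal, Matrix.reindex_apply, Equiv.symm_symm,
        Matrix.submatrix_diagonal_equiv]
      congr 1
      funext x
      rcases x with u | k <;> simp [e]
    rw [h2]
    exact sim_reindex _ _

variable [Fintype F]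

theorem exists_sq_add_sq {e : F} (he : e ≠ 0) : ∃ x y : F, x ≠ 0 ∧ x ^ 2 + y ^ 2 = e := by
  obtain ⟨x, y, h⟩ : ∃ x y : F, x ^ 2 + y ^ 2 = e := by
    by_cases h2 : ringChar F = 2
    · obtain ⟨x, hx⟩ := FiniteField.isSquare_of_char_two h2 e
      exact ⟨x, 0, by rw [hx]; ring⟩
    · obtain ⟨x, y, h⟩ := FiniteField.exists_root_sum_quadratic (f := (X : F[X]) ^ 2) (g := X ^ 2 - Polynomial.C e)
        (degree_X_pow 2) (degree_X_pow_sub_C (by norm_num) e) (FiniteField.odd_card_of_char_ne_two h2)
      rw [eval_pow, eval_X, eval_sub, eval_pow, eval_X, eval_C] at h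
      exact ⟨x, y, by linear_combination h⟩
  rcases eq_or_ne x 0 with rfl | hx
  · refine ⟨y, 0, fun hy => he ?_, by rw [← h]; ring⟩
    rw [← h, hy]; ring
  · exact ⟨x, y, hx, h⟩

/-- The scalar needed to correct the determinant. -/
def FixE (n : ℕ) (ρ : F) : Prop := ∃ e : F, e ≠ 0 ∧ ((Odd n ∧ ρ = e ^ n) ∨ ∃ m, n = m + m ∧ ρ = e ^ m)

/-- The monomial lemma. -/
theorem comm1_lin (L : List F) (hp : L.prod = 1) (hfix : FixE L.length (rho L)) : Comm1 (CM (L.map lin)) := by
  classical
  rcases Nat.eq_zero_or_pos L.length with h0 | h0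
  · rw [List.length_eq_zero_iff] at h0; subst h0; exact comm1_nil
  set n := L.length with hn
  refine Comm1.sim (sim_diag L n rfl) ?_
  let t : Fin n → F := fun k => (L.take ((k : ℕ) + 1)).prod
  let σ : Fin n → F := fun i => if (i : ℕ) = 0 then (-1) ^ n else 0
  set b : Matrix (Fin n) (Fin n) F := lit σ with hb
  have hbd : b.det = 1 := by
    let φ : F[X] := X ^ n + Polynomial.C ((-1) ^ n)
    have hm : φ.Monic := monic_X_pow_add_C _ (by omega)
    have hd : φ.natDegree = n := natDegree_X_pow_add_C
    have hs := sim_lit (RingHom.id F) hd σ fun i => by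
      simp only [φ, coeff_add, coeff_X_pow, coeff_C, σ, RingHom.id_apply]
      rw [if_neg (show ¬ (i : ℕ) = n by have := i.2; omega), zero_add]
    rw [hb, show lit σ = (lit σ).map (RingHom.id F) by ext i j; rfl, ← hs.det_eq, det_comp hm, hd]
    simp only [φ, coeff_add, coeff_X_pow, coeff_C_zero]
    rw [if_neg (by omega), zero_add, ← mul_pow]
    simp
  have hab : diagonal (fun k : Fin n => L.getD k 1) * b * diagonal t = diagonal t * b := by
    ext i j
    rw [Matrix.mul_diagonal, Matrix.diagonal_mul, Matrix.diagonal_mul]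
    have hi := i.2
    have htj : ∀ k : ℕ, k < n → (L.take (k + 1)).prod = (L.take k).prod * L.getD k 1 := fun k hk => by
      rw [List.prod_take_succ L k (hn ▸ hk), List.getD_eq_getElem L 1 (hn ▸ hk)]
    simp only [hb, lit, σ, Matrix.of_apply, t]
    split_ifs with h1 h2 h3
    · rw [h2, h1, htj 0 (by omega), show L.take n = L from hn ▸ List.take_length, hp]; simp
    · simp
    · rw [h3, htj ((j : ℕ) + 1) (by omega)]; ring
    · simp
  have hta : (diagonal t).det = rho L := by
    rw [det_diagonal, ← prod_prefix L, ← Fin.prod_univ_eq_prod_range (fun k => (L.take (k + 1)).prod)]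
  obtain ⟨e, he, ⟨hodd, hρ⟩ | ⟨m, hm, hρ⟩⟩ := hfix
  · refine ⟨diagonal t * (e⁻¹ • 1), b, ?_, hbd, ?_⟩
    · rw [det_mul, hta, hρ, det_smul, det_one, Fintype.card_fin, mul_one, inv_pow, mul_inv_cancel₀ (pow_ne_zero _ he)]
    · rw [Matrix.mul_smul, Matrix.mul_one, Matrix.mul_smul, hab, Matrix.smul_mul]
  · obtain ⟨x, y, hx, hxy⟩ := exists_sq_add_sq (inv_ne_zero he)
    let eq' : Fin m ⊕ Fin m ≃ Fin n := finSumFinEquiv.trans (finCongr hm.symm)
    let z0 : Matrix (Fin m ⊕ Fin m) (Fin m ⊕ Fin m) F := fromBlocks (x • 1) (-(y • 1)) (y • 1) (x • 1)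
    let z := Matrix.reindex eq' eq' z0
    let N : Matrix (Fin m) (Fin m) F := Matrix.of fun i j => if (i : ℕ) = j + 1 then 1 else 0
    let E : Matrix (Fin m) (Fin m) F := Matrix.of fun i j => if (i : ℕ) = 0 ∧ (j : ℕ) + 1 = m then 1 else 0
    have hbb : b = Matrix.reindex eq' eq' (fromBlocks N (-E) E N) := by
      rw [← Equiv.symm_apply_eq, Matrix.reindex_symm, Matrix.reindex_apply]
      have hs : (-1 : F) ^ n = 1 := Even.neg_one_pow ⟨m, hm⟩
      ext i j
      rcases i with i | i <;> rcases j with j | j <;>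
        (have := i.2; have := j.2
         simp only [hb, lit, σ, hs, eq', Matrix.submatrix_apply, Equiv.symm_symm, Equiv.trans_apply, Matrix.of_apply,
           finSumFinEquiv_apply_left, finSumFinEquiv_apply_right, finCongr_apply, Fin.val_cast, Fin.val_castAdd,
           Fin.val_natAdd, fromBlocks_apply₁₁, fromBlocks_apply₁₂, fromBlocks_apply₂₁, fromBlocks_apply₂₂, N, E,
           Matrix.neg_apply]
         split_ifs <;> first | rfl | omega | simp_all)
    have hz : z * b = b * z := by
      rw [hbb]
      simp only [z, z0, Matrix.reindex_apply, Matrix.submatrix_mul_equiv, fromBlocks_multiply]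
      simp [add_comm]
    have hzd : z.det = e⁻¹ ^ m := by
      simp only [z, Matrix.det_reindex_self]
      have h1 : fromBlocks (1 : Matrix (Fin m) (Fin m) F) 0 (-((y / x) • 1)) 1 * z0 =
          fromBlocks (x • 1) (-(y • 1)) 0 ((x + y ^ 2 / x) • 1) := by
        simp only [z0, fromBlocks_multiply]
        congr 1 <;> simp [smul_smul]
        · rw [← neg_smul, ← add_smul]; convert zero_smul F (1 : Matrix (Fin m) (Fin m) F) using 2; field_simp; ring
        · rw [add_comm, ← add_smul]; congr 1; field_simp
      have h2 := congrArg Matrix.det h1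
      rw [det_mul, det_fromBlocks_zero₁₂, det_one, one_mul, one_mul, det_fromBlocks_zero₂₁, det_smul, det_smul, det_one,
        mul_one, mul_one, Fintype.card_fin, ← mul_pow] at h2
      rw [h2, ← hxy]
      congr 1
      field_simp
    refine ⟨diagonal t * z, b, ?_, hbd, ?_⟩
    · rw [det_mul, hta, hρ, hzd, inv_pow, mul_inv_cancel₀ (pow_ne_zero _ he)]
    · rw [← Matrix.mul_assoc, hab, Matrix.mul_assoc, ← hz, ← Matrix.mul_assoc]

omit [Fintype F] in
theorem fixE_odd_left {a c : F} (hc : c ≠ 0) {i j : ℕ} (hi : Odd i) (hp : a ^ i * c ^ j = 1) :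
    FixE (List.replicate i a ++ List.replicate j c).length (rho (List.replicate i a ++ List.replicate j c)) := by
  obtain ⟨t, rfl⟩ := hi
  have ha : a ^ (2 * t + 1) = (c ^ j)⁻¹ := eq_inv_of_mul_eq_one_left hp
  rw [rho_append, List.prod_replicate, List.length_replicate, (rho_replicate a t).2,
    List.length_append, List.length_replicate, List.length_replicate, mul_comm (t + 1), pow_mul, ha]
  obtain ⟨u, rfl | rfl⟩ := Nat.even_or_odd' j
  · refine ⟨(c ^ u)⁻¹, inv_ne_zero (pow_ne_zero _ hc), Or.inl ⟨⟨t + u, by ring⟩, ?_⟩⟩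
    rw [(rho_replicate c u).1]
    simp only [inv_pow, ← pow_mul]
    field_simp
    ring
  · refine ⟨(c ^ (2 * u + 1))⁻¹, inv_ne_zero (pow_ne_zero _ hc), Or.inr ⟨t + u + 1, by ring, ?_⟩⟩
    rw [(rho_replicate c u).2]
    simp only [inv_pow, ← pow_mul]
    field_simp
    ring

omit [Fintype F] in
theorem exists_arrangement_even {a c : F} (hc : c ≠ 0) {h u : ℕ} (hu : h ≤ u) (hp : a ^ (2 * h) * c ^ (2 * u) = 1) :
    ∃ L : List F, L.Perm (List.replicate (2 * h) a ++ List.replicate (2 * u) c) ∧ FixE L.length (rho L) := by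
  rcases h with - | h
  · refine ⟨_, List.Perm.refl _, c ^ (2 * u + 1), pow_ne_zero _ hc, Or.inr ⟨u, ?_, ?_⟩⟩
    · simp; ring
    · simp [(rho_replicate c u).1]
      rw [← pow_mul, mul_comm]
  obtain ⟨v, hv⟩ : ∃ v, 2 * u = h + 1 + v := ⟨2 * u - (h + 1), by omega⟩
  let A := List.replicate (2 * h + 1) a
  let C1 := List.replicate (h + 1) c
  let C2 := List.replicate v c
  have hC : C1 ++ C2 = List.replicate (2 * u) c := by rw [List.replicate_append_replicate, hv]
  have hperm : (A ++ (C1 ++ ([a] ++ C2))).Perm (List.replicate (2 * (h + 1)) a ++ List.replicate (2 * u) c) := by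
    rw [show 2 * (h + 1) = (2 * h + 1) + 1 by ring, List.replicate_add, ← hC, List.append_assoc]
    refine List.Perm.append_left A ?_
    rw [← List.append_assoc, ← List.append_assoc]
    exact List.perm_append_comm.append_right _
  refine ⟨_, hperm, c / c ^ (2 * u), div_ne_zero hc (pow_ne_zero _ hc), Or.inr ⟨h + 1 + u, ?_, ?_⟩⟩
  · rw [hperm.length_eq]; simp; ring
  have hr := rho_append C1 C2
  rw [hC, (rho_replicate c u).1] at hr
  have hP : a ^ (2 * (h + 1)) = (c ^ (2 * u))⁻¹ := eq_inv_of_mul_eq_one_left hp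
  have hρ : rho (A ++ (C1 ++ ([a] ++ C2))) =
      (a ^ (2 * (h + 1))) ^ (2 * u + h + 1) * c ^ (h + 1 + u * (2 * u + 1)) := by
    rw [pow_add c, hr, rho_append, rho_append, rho_append]
    simp only [A, C1, C2, List.prod_replicate, List.length_replicate, List.length_append, List.length_cons, List.length_nil,
      (rho_replicate a h).2, rho, List.prod_cons, List.prod_nil, mul_one, ← pow_mul]
    have e1 : 2 * (h + 1) * (2 * u + h + 1) = (2 * h + 1) * (h + 1 + (0 + 1 + v)) + (h + 1) * (2 * h + 1) + (v + 1) := by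
      rw [hv]; ring
    rw [e1]
    simp only [pow_add, pow_mul, pow_one, pow_zero, zero_add, one_mul, mul_one]
    ring
  rw [hρ, hP, div_pow]
  simp only [inv_pow, ← pow_mul]
  field_simp
  simp only [← pow_add]
  congr 1
  ring

/-- Scalar blocks with two values. -/
theorem comm1_two_values (L : List F) {a c : F} (hc : c ≠ 0) (ha : a ≠ 0) (hL : ∀ x ∈ L, x = a ∨ x = c)
    (hp : L.prod = 1) : Comm1 (CM (L.map lin)) := by
  classical
  have hperm : L.Perm (List.replicate (L.filter (fun x => decide (x = a))).length a ++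
      List.replicate (L.filter (fun x => !decide (x = a))).length c) := by
    have h1 : L.filter (fun x => decide (x = a)) = List.replicate (L.filter (fun x => decide (x = a))).length a :=
      List.eq_replicate_iff.2 ⟨rfl, fun x hx => by simpa using (List.mem_filter.1 hx).2⟩
    have h2 : L.filter (fun x => !decide (x = a)) = List.replicate (L.filter (fun x => !decide (x = a))).length c :=
      List.eq_replicate_iff.2 ⟨rfl, fun x hx => by
        obtain ⟨hm, hd⟩ := List.mem_filter.1 hx
        exact (hL x hm).resolve_left (by simpa using hd)⟩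
    rw [← h1, ← h2]
    exact (List.filter_append_perm _ L).symm
  set i := (L.filter (fun x => decide (x = a))).length
  set j := (L.filter (fun x => !decide (x = a))).length
  have hp' : a ^ i * c ^ j = 1 := by
    rw [← hp, hperm.prod_eq, List.prod_append, List.prod_replicate, List.prod_replicate]
  have go : ∀ M : List F, L.Perm M → FixE M.length (rho M) → Comm1 (CM (L.map lin)) := fun M hM hf =>
    (comm1_lin M (hM.prod_eq ▸ hp) hf).of_perm (hM.map lin)
  rcases Nat.even_or_odd i with hi | hi
  · rcases Nat.even_or_odd j with hj | hj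
    · obtain ⟨h, hh⟩ := even_iff_two_dvd.1 hi
      obtain ⟨u, hu⟩ := even_iff_two_dvd.1 hj
      rw [hh, hu] at hp' hperm
      rcases le_total h u with hle | hle
      · obtain ⟨M, hM, hf⟩ := exists_arrangement_even hc hle hp'
        exact go M (hperm.trans hM.symm) hf
      · obtain ⟨M, hM, hf⟩ := exists_arrangement_even ha hle (by rwa [mul_comm])
        exact go M ((hperm.trans List.perm_append_comm).trans hM.symm) hf
    · exact go _ (hperm.trans List.perm_append_comm) (fixE_odd_left ha hj (by rwa [mul_comm]))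
  · exact go _ hperm (fixE_odd_left hc hi hp')

end CfsgLib.GLClass.CommSL
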