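import Cfsg.Agent.Lib.GLClass.CommTri

/-!
Commutators with spare centraliser, and explicit witnesses over the fields with two and three elements.
-/

set_option autoImplicit false

namespace CfsgLib.GLClass.CommSL

open Polynomial Matrix Module

variable {F : Type*} [Field F] {ι κ τ μ : Type*} [Fintype ι] [DecidableEq ι] [Fintype κ] [DecidableEq κ]
  [Fintype τ] [DecidableEq τ] [Fintype μ] [DecidableEq μ]

/-- A commutator in the general linear group whose right factor has full centralizer determinants. -/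
def Com (g : Matrix ι ι F) : Prop :=
  ∃ a b : Matrix ι ι F, a.det ≠ 0 ∧ b.det = 1 ∧ g * b * a = a * b ∧ ∀ δ : F, δ ≠ 0 → ∃ z, z * b = b * z ∧ z.det = δ

/-- A commutator of a general linear matrix with a special one. -/
def LoopC (g : Matrix ι ι F) : Prop :=
  ∃ a b : Matrix ι ι F, a.det ≠ 0 ∧ b.det = 1 ∧ g * b * a = a * b

theorem Com.comm1 {g : Matrix ι ι F} (h : Com g) : Comm1 g := by
  obtain ⟨a, b, ha, hb, hab, hz⟩ := h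
  obtain ⟨z, hz, hzd⟩ := hz _ (inv_ne_zero ha)
  exact ⟨a * z, b, by rw [det_mul, hzd, mul_inv_cancel₀ ha], hb,
    by rw [← mul_assoc, hab, mul_assoc, ← hz, ← mul_assoc]⟩

theorem Com.loop {g : Matrix ι ι F} (h : Com g) : LoopC g := by
  obtain ⟨a, b, ha, hb, hab, -⟩ := h
  exact ⟨a, b, ha, hb, hab⟩

theorem Comm1.loop {g : Matrix ι ι F} (h : Comm1 g) : LoopC g := by
  obtain ⟨a, b, ha, hb, hab⟩ := h
  exact ⟨a, b, by rw [ha]; exact one_ne_zero, hb, hab⟩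

theorem Com.sim {g : Matrix ι ι F} {h : Matrix κ κ F} (H : Sim g h) (K : Com h) : Com g := by
  obtain ⟨U, V, h1, h2, rfl⟩ := H
  obtain ⟨a, b, ha, hb, hab, hz⟩ := K
  have key : ∀ A B : Matrix κ κ F, U * A * V * (U * B * V) = U * (A * B) * V := fun A B => by
    calc U * A * V * (U * B * V) = U * (A * ((V * U) * B)) * V := by simp only [Matrix.mul_assoc]
      _ = _ := by rw [h2, Matrix.one_mul]
  refine ⟨U * a * V, U * b * V, ?_, ?_, ?_, fun δ hδ => ?_⟩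
  · rwa [Matrix.det_conj_of_mul_eq_one h1 h2]
  · rw [Matrix.det_conj_of_mul_eq_one h1 h2, hb]
  · rw [key, key, key, hab]
  · obtain ⟨z, hz, hzd⟩ := hz δ hδ
    exact ⟨U * z * V, by rw [key, key, hz], by rw [Matrix.det_conj_of_mul_eq_one h1 h2, hzd]⟩

theorem LoopC.sim {g : Matrix ι ι F} {h : Matrix κ κ F} (H : Sim g h) (K : LoopC h) : LoopC g := by
  obtain ⟨U, V, h1, h2, rfl⟩ := H
  obtain ⟨a, b, ha, hb, hab⟩ := K
  have key : ∀ A B : Matrix κ κ F, U * A * V * (U * B * V) = U * (A * B) * V := fun A B => by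
    calc U * A * V * (U * B * V) = U * (A * ((V * U) * B)) * V := by simp only [Matrix.mul_assoc]
      _ = _ := by rw [h2, Matrix.one_mul]
  refine ⟨U * a * V, U * b * V, ?_, ?_, ?_⟩
  · rwa [Matrix.det_conj_of_mul_eq_one h1 h2]
  · rw [Matrix.det_conj_of_mul_eq_one h1 h2, hb]
  · rw [key, key, key, hab]

theorem Com.blocks {g : Matrix ι ι F} {h : Matrix κ κ F} (H : Com g) (K : LoopC h) : Com (fromBlocks g 0 0 h) := by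
  obtain ⟨a, b, ha, hb, hab, hz⟩ := H
  obtain ⟨a', b', ha', hb', hab'⟩ := K
  refine ⟨fromBlocks a 0 0 a', fromBlocks b 0 0 b', ?_, ?_, ?_, fun δ hδ => ?_⟩
  · rw [det_fromBlocks_zero₁₂]; exact mul_ne_zero ha ha'
  · rw [det_fromBlocks_zero₁₂, hb, hb', one_mul]
  · simp [fromBlocks_multiply, hab, hab']
  · obtain ⟨z, hz, hzd⟩ := hz δ hδ
    exact ⟨fromBlocks z 0 0 1, by simp [fromBlocks_multiply, hz], by rw [det_fromBlocks_zero₁₂, hzd, det_one, mul_one]⟩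

theorem Com.blocks' {g : Matrix ι ι F} {h : Matrix κ κ F} (H : LoopC g) (K : Com h) : Com (fromBlocks g 0 0 h) :=
  (K.blocks H).sim (sim_blocks_comm _ _)

theorem Com.of_fac {g : Matrix ι ι F} {L : Matrix κ κ F} {L' : Matrix τ τ F} (H : Fac g L L') (hs : Sim L L')
    (hd : L'.det = 1) (hc : ∀ δ : F, δ ≠ 0 → ∃ z, z * L' = L' * z ∧ z.det = δ) : Com g := by
  obtain ⟨X, Y, hX, hY, h⟩ := H
  obtain ⟨c, hc'⟩ := isConj_of_sim ((hY.trans hs.symm).trans hX.symm)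
  have hcd : (c : Matrix ι ι F).det ≠ 0 := ((Matrix.isUnit_iff_isUnit_det _).1 c.isUnit).ne_zero
  have hY' := hY.det_eq
  refine ⟨c, Y, hcd, by rw [hY', hd], ?_, fun δ hδ => ?_⟩
  · rw [h, ← hc'.eq]
  · obtain ⟨z, hz, hzd⟩ := hc δ hδ
    obtain ⟨U, V, h1, h2, rfl⟩ := hY
    refine ⟨U * z * V, ?_, by rw [Matrix.det_conj_of_mul_eq_one h1 h2, hzd]⟩
    calc U * z * V * (U * L' * V) = U * (z * ((V * U) * L')) * V := by simp only [Matrix.mul_assoc]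
      _ = U * (L' * ((V * U) * z)) * V := by rw [h2, Matrix.one_mul, Matrix.one_mul, hz]
      _ = _ := by simp only [Matrix.mul_assoc]

theorem Chain.com {g : Matrix ι ι F} {s d : F} (H : Chain g s s d) (hsd : s * d = 1) : Com g := by
  obtain ⟨r, R, hF, hd⟩ := H
  refine Com.of_fac hF (Sim.refl _) ?_ fun δ _ => ⟨fromBlocks (δ • (1 : Matrix Unit Unit F)) 0 0 1, ?_, ?_⟩
  · rw [det_fromBlocks_zero₁₂, det_smul, det_one, Fintype.card_unit, pow_one, mul_one, hd, hsd]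
  · simp [fromBlocks_multiply, smul_smul, mul_comm]
  · rw [det_fromBlocks_zero₁₂, det_smul, det_one, det_one, Fintype.card_unit, pow_one, mul_one, mul_one]

/-- A companion matrix from its list of coefficients. -/
def lit {R : Type*} [CommRing R] {n : ℕ} (c : Fin n → R) : Matrix (Fin n) (Fin n) R :=
  Matrix.of fun i j => if (j : ℕ) + 1 = n then -c i else if (i : ℕ) = j + 1 then 1 else 0

theorem sim_lit {R : Type*} [CommRing R] (f : R →+* F) {φ : F[X]} {n : ℕ} (hn : φ.natDegree = n) (c : Fin n → R)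
    (hc : ∀ i : Fin n, φ.coeff i = f (c i)) : Sim (comp φ) ((lit c).map f) := by
  subst hn
  have e : comp φ = (lit c).map f := by
    ext i j
    simp only [comp, lit, Matrix.map_apply, Matrix.of_apply, hc]
    split_ifs <;> simp
  rw [e]
  exact Sim.refl _

/-- The inclusion of the prime field. -/
theorem exists_primeField [Fintype F] {p : ℕ} (hp : p.Prime) (h : Fintype.card F = p) :
    ∃ f : ZMod p →+* F, Function.Bijective f := by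
  haveI : Fact p.Prime := ⟨hp⟩
  haveI : CharP F p := charP_of_card_eq_prime h
  exact ⟨ZMod.castHom (dvd_refl p) F, ZMod.castHom_bijective F h⟩

theorem comm1_map {R : Type*} [CommRing R] (f : R →+* F) (g a b : Matrix ι ι R) (ha : a.det = 1) (hb : b.det = 1)
    (h : g * b * a = a * b) : Comm1 (g.map f) := by
  refine ⟨a.map f, b.map f, ?_, ?_, ?_⟩
  · rw [← RingHom.mapMatrix_apply, ← RingHom.map_det, ha, map_one]
  · rw [← RingHom.mapMatrix_apply, ← RingHom.map_det, hb, map_one]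
  · rw [← Matrix.map_mul, ← Matrix.map_mul, h, Matrix.map_mul]

theorem com_map {f : ZMod 3 →+* F} (hf : Function.Bijective f) (g a b z : Matrix ι ι (ZMod 3)) (ha : a.det = 1)
    (hb : b.det = 1) (h : g * b * a = a * b) (hz : z * b = b * z) (hzd : z.det = 2) : Com (g.map f) := by
  refine ⟨a.map f, b.map f, ?_, ?_, ?_, fun δ hδ => ?_⟩
  · rw [← RingHom.mapMatrix_apply, ← RingHom.map_det, ha, map_one]; exact one_ne_zero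
  · rw [← RingHom.mapMatrix_apply, ← RingHom.map_det, hb, map_one]
  · rw [← Matrix.map_mul, ← Matrix.map_mul, h, Matrix.map_mul]
  · obtain ⟨d, rfl⟩ := hf.2 δ
    have hd : d = 1 ∨ d = 2 := by
      have h3 : ∀ x : ZMod 3, x = 0 ∨ x = 1 ∨ x = 2 := by decide
      rcases h3 d with h | h
      · exact absurd (by rw [h, map_zero]) hδ
      · exact h
    rcases hd with rfl | rfl
    · exact ⟨1, by rw [one_mul, mul_one], by rw [det_one, map_one]⟩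
    · exact ⟨z.map f, by rw [← Matrix.map_mul, hz, Matrix.map_mul],
        by rw [← RingHom.mapMatrix_apply, ← RingHom.map_det, hzd]⟩

theorem det_one_of_inv {a a' : Matrix ι ι (ZMod 2)} (h : a * a' = 1) : a.det = 1 := by
  have h2 : ∀ x y : ZMod 2, x * y = 1 → x = 1 := by decide
  exact h2 _ a'.det (by rw [← det_mul, h, det_one])

theorem map_blocks {R : Type*} [CommRing R] (f : R →+* F) (M : Matrix ι ι R) (N : Matrix κ κ R) :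
    (fromBlocks M 0 0 N).map f = fromBlocks (M.map f) 0 0 (N.map f) := by
  rw [fromBlocks_map]; simp

theorem witness_W (f : ZMod 2 →+* F) :
    Comm1 ((lit (![1, 1] : Fin 2 → ZMod 2)).map f) :=
  comm1_map f _ (!![1, 1; 1, 0] : Matrix (Fin 2) (Fin 2) (ZMod 2))
    (!![1, 1; 0, 1] : Matrix (Fin 2) (Fin 2) (ZMod 2))
    (det_one_of_inv (a' := (!![0, 1; 1, 1] : Matrix (Fin 2) (Fin 2) (ZMod 2))) (by decide +kernel))
    (det_one_of_inv (a' := (!![1, 1; 0, 1] : Matrix (Fin 2) (Fin 2) (ZMod 2))) (by decide +kernel)) (by decide +kernel)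

theorem witness_T21 (f : ZMod 2 →+* F) :
    Comm1 ((fromBlocks (lit (![1, 0] : Fin 2 → ZMod 2)) 0 0 (lit (![1] : Fin 1 → ZMod 2))).map f) :=
  comm1_map f _ ((!![1, 0, 1; 0, 1, 1; 0, 0, 1] : Matrix (Fin 3) (Fin 3) (ZMod 2)).submatrix (finSumFinEquiv : Fin 2 ⊕ Fin 1 ≃ Fin 3) (finSumFinEquiv : Fin 2 ⊕ Fin 1 ≃ Fin 3))
    ((!![1, 0, 0; 0, 1, 1; 1, 1, 0] : Matrix (Fin 3) (Fin 3) (ZMod 2)).submatrix (finSumFinEquiv : Fin 2 ⊕ Fin 1 ≃ Fin 3) (finSumFinEquiv : Fin 2 ⊕ Fin 1 ≃ Fin 3))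
    (det_one_of_inv (a' := ((!![1, 0, 1; 0, 1, 1; 0, 0, 1] : Matrix (Fin 3) (Fin 3) (ZMod 2)).submatrix (finSumFinEquiv : Fin 2 ⊕ Fin 1 ≃ Fin 3) (finSumFinEquiv : Fin 2 ⊕ Fin 1 ≃ Fin 3))) (by decide +kernel))
    (det_one_of_inv (a' := ((!![1, 0, 0; 1, 0, 1; 1, 1, 1] : Matrix (Fin 3) (Fin 3) (ZMod 2)).submatrix (finSumFinEquiv : Fin 2 ⊕ Fin 1 ≃ Fin 3) (finSumFinEquiv : Fin 2 ⊕ Fin 1 ≃ Fin 3))) (by decide +kernel)) (by decide +kernel)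

theorem witness_P222 (f : ZMod 2 →+* F) :
    Comm1 ((fromBlocks (lit (![1, 0] : Fin 2 → ZMod 2)) 0 0 (fromBlocks (lit (![1, 0] : Fin 2 → ZMod 2)) 0 0 (lit (![1, 0] : Fin 2 → ZMod 2)))).map f) :=
  comm1_map f _ ((!![1, 1, 0, 1, 0, 1; 1, 0, 1, 1, 0, 0; 0, 0, 0, 1, 1, 1; 1, 1, 1, 1, 1, 0; 0, 1, 1, 0, 1, 1; 0, 0, 0, 0, 1, 1] : Matrix (Fin 6) (Fin 6) (ZMod 2)).submatrix (((Equiv.refl (Fin 2)).sumCongr finSumFinEquiv).trans finSumFinEquiv : Fin 2 ⊕ (Fin 2 ⊕ Fin 2) ≃ Fin 6) (((Equiv.refl (Fin 2)).sumCongr finSumFinEquiv).trans finSumFinEquiv : Fin 2 ⊕ (Fin 2 ⊕ Fin 2) ≃ Fin 6))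
    ((!![1, 0, 1, 0, 0, 1; 0, 1, 1, 0, 1, 1; 1, 1, 0, 1, 0, 1; 1, 0, 1, 1, 0, 1; 0, 0, 1, 1, 1, 0; 1, 0, 1, 1, 0, 0] : Matrix (Fin 6) (Fin 6) (ZMod 2)).submatrix (((Equiv.refl (Fin 2)).sumCongr finSumFinEquiv).trans finSumFinEquiv : Fin 2 ⊕ (Fin 2 ⊕ Fin 2) ≃ Fin 6) (((Equiv.refl (Fin 2)).sumCongr finSumFinEquiv).trans finSumFinEquiv : Fin 2 ⊕ (Fin 2 ⊕ Fin 2) ≃ Fin 6))
    (det_one_of_inv (a' := ((!![1, 1, 1, 1, 0, 0; 1, 0, 0, 1, 1, 0; 1, 0, 0, 1, 0, 1; 0, 0, 1, 0, 0, 1; 1, 1, 0, 0, 1, 0; 1, 1, 0, 0, 1, 1] : Matrix (Fin 6) (Fin 6) (ZMod 2)).submatrix (((Equiv.refl (Fin 2)).sumCongr finSumFinEquiv).trans finSumFinEquiv : Fin 2 ⊕ (Fin 2 ⊕ Fin 2) ≃ Fin 6) (((Equiv.refl (Fin 2)).sumCongr finSumFinEquiv).trans finSumFinEquiv : Fin 2 ⊕ (Fin 2 ⊕ Fin 2) ≃ Fin 6))) (by decide +kernel))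
    (det_one_of_inv (a' := ((!![0, 1, 1, 0, 1, 0; 1, 1, 0, 0, 1, 1; 1, 1, 1, 1, 1, 1; 1, 0, 0, 1, 0, 0; 0, 1, 1, 0, 0, 1; 0, 0, 0, 1, 0, 1] : Matrix (Fin 6) (Fin 6) (ZMod 2)).submatrix (((Equiv.refl (Fin 2)).sumCongr finSumFinEquiv).trans finSumFinEquiv : Fin 2 ⊕ (Fin 2 ⊕ Fin 2) ≃ Fin 6) (((Equiv.refl (Fin 2)).sumCongr finSumFinEquiv).trans finSumFinEquiv : Fin 2 ⊕ (Fin 2 ⊕ Fin 2) ≃ Fin 6))) (by decide +kernel)) (by decide +kernel)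

theorem witness_P23 (f : ZMod 2 →+* F) :
    Comm1 ((fromBlocks (lit (![1, 0] : Fin 2 → ZMod 2)) 0 0 (lit (![1, 1, 1] : Fin 3 → ZMod 2))).map f) :=
  comm1_map f _ ((!![1, 0, 1, 0, 0; 1, 0, 1, 1, 0; 1, 0, 0, 1, 0; 1, 1, 1, 0, 1; 0, 1, 0, 0, 0] : Matrix (Fin 5) (Fin 5) (ZMod 2)).submatrix (finSumFinEquiv : Fin 2 ⊕ Fin 3 ≃ Fin 5) (finSumFinEquiv : Fin 2 ⊕ Fin 3 ≃ Fin 5))
    ((!![1, 0, 0, 0, 1; 1, 0, 1, 0, 0; 1, 0, 1, 1, 1; 1, 1, 0, 1, 0; 0, 1, 0, 1, 0] : Matrix (Fin 5) (Fin 5) (ZMod 2)).submatrix (finSumFinEquiv : Fin 2 ⊕ Fin 3 ≃ Fin 5) (finSumFinEquiv : Fin 2 ⊕ Fin 3 ≃ Fin 5))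
    (det_one_of_inv (a' := ((!![1, 1, 1, 0, 0; 0, 0, 0, 0, 1; 0, 1, 1, 0, 0; 1, 1, 0, 0, 0; 1, 0, 0, 1, 1] : Matrix (Fin 5) (Fin 5) (ZMod 2)).submatrix (finSumFinEquiv : Fin 2 ⊕ Fin 3 ≃ Fin 5) (finSumFinEquiv : Fin 2 ⊕ Fin 3 ≃ Fin 5))) (by decide +kernel))
    (det_one_of_inv (a' := ((!![0, 0, 0, 1, 1; 1, 1, 1, 1, 0; 0, 1, 0, 1, 1; 1, 1, 1, 1, 1; 1, 0, 0, 1, 1] : Matrix (Fin 5) (Fin 5) (ZMod 2)).submatrix (finSumFinEquiv : Fin 2 ⊕ Fin 3 ≃ Fin 5) (finSumFinEquiv : Fin 2 ⊕ Fin 3 ≃ Fin 5))) (by decide +kernel)) (by decide +kernel)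

theorem witness_P24 (f : ZMod 2 →+* F) :
    Comm1 ((fromBlocks (lit (![1, 0] : Fin 2 → ZMod 2)) 0 0 (lit (![1, 0, 0, 0] : Fin 4 → ZMod 2))).map f) :=
  comm1_map f _ ((!![0, 0, 1, 0, 0, 0; 0, 0, 0, 1, 0, 0; 1, 1, 0, 1, 0, 1; 0, 0, 1, 0, 1, 0; 0, 1, 0, 0, 0, 1; 1, 1, 0, 0, 0, 0] : Matrix (Fin 6) (Fin 6) (ZMod 2)).submatrix (finSumFinEquiv : Fin 2 ⊕ Fin 4 ≃ Fin 6) (finSumFinEquiv : Fin 2 ⊕ Fin 4 ≃ Fin 6))
    ((!![0, 0, 0, 0, 1, 0; 0, 0, 0, 0, 1, 1; 1, 0, 0, 0, 0, 1; 0, 1, 0, 0, 0, 1; 0, 1, 1, 0, 0, 1; 1, 1, 0, 1, 1, 1] : Matrix (Fin 6) (Fin 6) (ZMod 2)).submatrix (finSumFinEquiv : Fin 2 ⊕ Fin 4 ≃ Fin 6) (finSumFinEquiv : Fin 2 ⊕ Fin 4 ≃ Fin 6))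
    (det_one_of_inv (a' := ((!![0, 1, 1, 0, 1, 0; 0, 1, 1, 0, 1, 1; 1, 0, 0, 0, 0, 0; 0, 1, 0, 0, 0, 0; 1, 0, 0, 1, 0, 0; 0, 1, 1, 0, 0, 1] : Matrix (Fin 6) (Fin 6) (ZMod 2)).submatrix (finSumFinEquiv : Fin 2 ⊕ Fin 4 ≃ Fin 6) (finSumFinEquiv : Fin 2 ⊕ Fin 4 ≃ Fin 6))) (by decide +kernel))
    (det_one_of_inv (a' := ((!![1, 1, 1, 0, 0, 0; 1, 1, 0, 1, 0, 0; 0, 0, 0, 1, 1, 0; 0, 1, 1, 1, 0, 1; 1, 0, 0, 0, 0, 0; 1, 1, 0, 0, 0, 0] : Matrix (Fin 6) (Fin 6) (ZMod 2)).submatrix (finSumFinEquiv : Fin 2 ⊕ Fin 4 ≃ Fin 6) (finSumFinEquiv : Fin 2 ⊕ Fin 4 ≃ Fin 6))) (by decide +kernel)) (by decide +kernel)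

theorem witness_I (f : ZMod 3 →+* F) : Comm1 ((lit (![1, 0] : Fin 2 → ZMod 3)).map f) :=
  comm1_map f _ (!![0, 1; 2, 1] : Matrix (Fin 2) (Fin 2) (ZMod 3)) (!![1, 0; 1, 1] : Matrix (Fin 2) (Fin 2) (ZMod 3)) (by decide +kernel) (by decide +kernel) (by decide +kernel)

theorem witness_M2 {f : ZMod 3 →+* F} (hf : Function.Bijective f) :
    Com ((fromBlocks (lit (![1] : Fin 1 → ZMod 3)) 0 0 (lit (![1] : Fin 1 → ZMod 3))).map f) :=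
  com_map hf _ ((!![2, 2; 2, 1] : Matrix (Fin 2) (Fin 2) (ZMod 3)).submatrix (finSumFinEquiv : Fin 1 ⊕ Fin 1 ≃ Fin 2) (finSumFinEquiv : Fin 1 ⊕ Fin 1 ≃ Fin 2))
    ((!![1, 2; 2, 2] : Matrix (Fin 2) (Fin 2) (ZMod 3)).submatrix (finSumFinEquiv : Fin 1 ⊕ Fin 1 ≃ Fin 2) (finSumFinEquiv : Fin 1 ⊕ Fin 1 ≃ Fin 2))
    ((!![2, 2; 2, 0] : Matrix (Fin 2) (Fin 2) (ZMod 3)).submatrix (finSumFinEquiv : Fin 1 ⊕ Fin 1 ≃ Fin 2) (finSumFinEquiv : Fin 1 ⊕ Fin 1 ≃ Fin 2))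
    (by decide +kernel) (by decide +kernel) (by decide +kernel) (by decide +kernel) (by decide +kernel)

theorem witness_QQm {f : ZMod 3 →+* F} (hf : Function.Bijective f) :
    Com ((fromBlocks (lit (![2, 2] : Fin 2 → ZMod 3)) 0 0 (lit (![2, 2] : Fin 2 → ZMod 3))).map f) :=
  com_map hf _ ((!![2, 1, 0, 1; 0, 1, 2, 0; 1, 0, 0, 1; 2, 2, 1, 1] : Matrix (Fin 4) (Fin 4) (ZMod 3)).submatrix (finSumFinEquiv : Fin 2 ⊕ Fin 2 ≃ Fin 4) (finSumFinEquiv : Fin 2 ⊕ Fin 2 ≃ Fin 4))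
    ((!![1, 2, 2, 0; 1, 1, 1, 2; 2, 1, 2, 1; 1, 1, 2, 2] : Matrix (Fin 4) (Fin 4) (ZMod 3)).submatrix (finSumFinEquiv : Fin 2 ⊕ Fin 2 ≃ Fin 4) (finSumFinEquiv : Fin 2 ⊕ Fin 2 ≃ Fin 4))
    ((!![0, 2, 1, 2; 0, 2, 1, 0; 0, 1, 1, 2; 2, 2, 2, 2] : Matrix (Fin 4) (Fin 4) (ZMod 3)).submatrix (finSumFinEquiv : Fin 2 ⊕ Fin 2 ≃ Fin 4) (finSumFinEquiv : Fin 2 ⊕ Fin 2 ≃ Fin 4))
    (by decide +kernel) (by decide +kernel) (by decide +kernel) (by decide +kernel) (by decide +kernel)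

theorem witness_QQp {f : ZMod 3 →+* F} (hf : Function.Bijective f) :
    Com ((fromBlocks (lit (![2, 1] : Fin 2 → ZMod 3)) 0 0 (lit (![2, 1] : Fin 2 → ZMod 3))).map f) :=
  com_map hf _ ((!![0, 0, 2, 0; 0, 1, 2, 0; 1, 2, 2, 0; 1, 1, 2, 1] : Matrix (Fin 4) (Fin 4) (ZMod 3)).submatrix (finSumFinEquiv : Fin 2 ⊕ Fin 2 ≃ Fin 4) (finSumFinEquiv : Fin 2 ⊕ Fin 2 ≃ Fin 4))
    ((!![1, 0, 0, 0; 2, 0, 1, 1; 1, 0, 1, 2; 0, 1, 1, 0] : Matrix (Fin 4) (Fin 4) (ZMod 3)).submatrix (finSumFinEquiv : Fin 2 ⊕ Fin 2 ≃ Fin 4) (finSumFinEquiv : Fin 2 ⊕ Fin 2 ≃ Fin 4))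
    ((!![2, 0, 0, 0; 0, 2, 1, 1; 2, 0, 0, 2; 2, 1, 1, 2] : Matrix (Fin 4) (Fin 4) (ZMod 3)).submatrix (finSumFinEquiv : Fin 2 ⊕ Fin 2 ≃ Fin 4) (finSumFinEquiv : Fin 2 ⊕ Fin 2 ≃ Fin 4))
    (by decide +kernel) (by decide +kernel) (by decide +kernel) (by decide +kernel) (by decide +kernel)

end CfsgLib.GLClass.CommSL
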