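import Mathlib
import Cfsg.Prelude.Def_JordanBlocks
import Cfsg.Agent.Lib.Classical.AltForm

/-!
# Forms invariant under unipotent matrices of a given Jordan type
-/

set_option autoImplicit false
set_option linter.all false

namespace CfsgLib.GLClass.JordanForms

open Matrix Module

variable {F : Type*} [Field F]

section Rank

variable {κ : Type} [Fintype κ] [DecidableEq κ]

theorem alt_of_diag {M : Matrix κ κ F} (hs : Mᵀ = -M) (hd : ∀ i, M i i = 0) (x : κ → F) : x ⬝ᵥ (M *ᵥ x) = 0 := by
  have hsk : ∀ i j, M j i = -M i j := fun i j => congrFun (congrFun hs i) j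
  have h : ∀ s : Finset κ, ∑ i ∈ s, ∑ j ∈ s, x i * (M i j * x j) = 0 := by
    intro s
    induction s using Finset.induction_on with
    | empty => simp
    | insert a s ha ih =>
      rw [Finset.sum_insert ha, Finset.sum_insert ha, hd, zero_mul, mul_zero, zero_add]
      simp only [Finset.sum_insert ha, Finset.sum_add_distrib]
      rw [ih, add_zero, ← Finset.sum_add_distrib]
      exact Finset.sum_eq_zero fun j _ => by rw [hsk a j]; ring
  simpa [dotProduct, Matrix.mulVec, Finset.mul_sum] using h Finset.univ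

theorem diag_of_alt {M : Matrix κ κ F} (h : ∀ x, x ⬝ᵥ (M *ᵥ x) = 0) : (∀ i, M i i = 0) ∧ Mᵀ = -M := by
  have hd : ∀ i, M i i = 0 := fun i => by
    have := h (Pi.single i 1)
    simpa [Matrix.mulVec_single_one, Pi.single_apply, dotProduct] using this
  refine ⟨hd, Matrix.ext fun i j => ?_⟩
  have := h (Pi.single i 1 + Pi.single j 1)
  simp [Matrix.mulVec_add, add_dotProduct, dotProduct_add, hd] at this
  rw [Matrix.transpose_apply, Matrix.neg_apply, eq_neg_iff_add_eq_zero]
  linear_combination this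

/-- an alternating matrix has even rank -/
theorem even_rank {M : Matrix κ κ F} (h : ∀ x, x ⬝ᵥ (M *ᵥ x) = 0) : Even M.rank := by
  have hA : (Matrix.toBilin' M).IsAlt := fun x => by rw [Matrix.toBilin'_apply']; exact h x
  obtain ⟨m, k, b, hb1, hb2, hb3, hb4⟩ := CfsgLib.Classical.Alt.exists_sympBasis _ rfl _ hA
  refine ⟨m, ?_⟩
  obtain ⟨hd, hs⟩ := diag_of_alt h
  have hsw : ∀ u v, Matrix.toBilin' M u v = -Matrix.toBilin' M v u := fun u v =>
    CfsgLib.Classical.Alt.swap hA v u
  have hker : ∀ v, v ∈ LinearMap.ker M.mulVecLin ↔ ∀ u, Matrix.toBilin' M u v = 0 := by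
    intro v
    simp only [LinearMap.mem_ker, Matrix.mulVecLin_apply, Matrix.toBilin'_apply']
    exact ⟨fun e u => by rw [e, dotProduct_zero], fun e => dotProduct_eq_zero _ fun u => by rw [dotProduct_comm]; exact e u⟩
  have hspan : LinearMap.ker M.mulVecLin = Submodule.span F (Set.range fun j : Fin k => b (.inr j)) := by
    refine le_antisymm (fun v hv => ?_) (Submodule.span_le.2 ?_)
    · rw [hker] at hv
      have hc : ∀ i : Fin m ⊕ Fin m, b.repr v (.inl i) = 0 := by
        rintro (i | i)
        · have := hv (b (.inl (.inr i)))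
          rw [← b.sum_repr v, map_sum, Fintype.sum_sum_type, Fintype.sum_sum_type] at this
          simp only [map_smul, smul_eq_mul, hb3, hb4, mul_zero, Finset.sum_const_zero, add_zero,
            hsw (b (.inl (.inr i))) (b (.inr _)), hsw (b (.inl (.inr i))) (b (.inl (.inl _))), hb1] at this
          simpa using this
        · have := hv (b (.inl (.inl i)))
          rw [← b.sum_repr v, map_sum, Fintype.sum_sum_type, Fintype.sum_sum_type] at this
          simp only [map_smul, smul_eq_mul, hb2, hb4, mul_zero, Finset.sum_const_zero, add_zero, zero_add,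
            hsw (b (.inl (.inl i))) (b (.inr _)), hb1] at this
          simpa using this
      rw [← b.sum_repr v, Fintype.sum_sum_type]
      simp only [hc, zero_smul, Finset.sum_const_zero, zero_add]
      exact Submodule.sum_mem _ fun j _ => Submodule.smul_mem _ _ (Submodule.subset_span ⟨j, rfl⟩)
    · rintro _ ⟨j, rfl⟩
      exact (hker _).2 fun u => by rw [hsw, hb4, neg_zero]
  have h1 := LinearMap.finrank_range_add_finrank_ker M.mulVecLin
  rw [hspan, finrank_span_eq_card (R := F) (b := fun j : Fin k => b (.inr j))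
    (b.linearIndependent.comp _ Sum.inr_injective), Fintype.card_fin, finrank_eq_card_basis b] at h1
  simp only [Fintype.card_sum, Fintype.card_fin] at h1
  rw [Matrix.rank]
  omega

theorem rank_pow_of_similar {ι : Type} [Fintype ι] [DecidableEq ι] (e : κ ≃ ι) (A : Matrix κ κ F)
    {B : Matrix ι ι F} (h : IsConj (Matrix.reindex e e A) B) (j : ℕ) :
    ((B - 1) ^ j).rank = ((A - 1) ^ j).rank := by
  obtain ⟨c, hc⟩ := h
  have hB : B - 1 = (c : Matrix ι ι F) * (Matrix.reindex e e A - 1) * ((c⁻¹ : (Matrix ι ι F)ˣ) : Matrix ι ι F) := by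
    rw [mul_sub, mul_one, hc.eq, sub_mul, Units.mul_inv_cancel_right, Units.mul_inv]
  rw [hB, Units.conj_pow, Matrix.rank_mul_eq_left_of_isUnit_det _ _ ((Matrix.isUnit_iff_isUnit_det _).1 (Units.isUnit _)),
    Matrix.rank_mul_eq_right_of_isUnit_det _ _ ((Matrix.isUnit_iff_isUnit_det _).1 (Units.isUnit _)),
    show Matrix.reindex e e A - 1 = Matrix.reindexAlgEquiv F F e (A - 1) by rw [map_sub, map_one]; rfl,
    ← map_pow]
  exact Matrix.rank_reindex _ _ _

end Rank

section Necessity

variable {κ : Type} [Fintype κ] [DecidableEq κ] {M u : Matrix κ κ F}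

/-- even powers of `u - 1` have even rank for an invariant non-degenerate alternating form -/
theorem even_rank_even_pow (hM : IsUnit M.det) (ha : ∀ x, x ⬝ᵥ (M *ᵥ x) = 0) (hu : uᵀ * M * u = M) (i : ℕ) :
    Even ((u - 1) ^ (2 * i)).rank := by
  have hud : IsUnit u.det := by
    have h := congrArg Matrix.det hu
    rw [det_mul, det_mul, det_transpose] at h
    exact isUnit_of_mul_isUnit_right (h ▸ hM)
  obtain ⟨v, hv⟩ : ∃ v, v = u⁻¹ := ⟨_, rfl⟩
  have hvu : v * u = 1 := hv ▸ Matrix.nonsing_inv_mul _ hud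
  have huv : u * v = 1 := hv ▸ Matrix.mul_nonsing_inv _ hud
  have h1 : uᵀ * M = M * v := by rw [← mul_one (uᵀ * M), ← huv, ← mul_assoc, hu]
  have h2 : vᵀ * M = M * u := by
    have e := congrArg (fun z => vᵀ * z * u) h1
    simp only [mul_assoc, hvu, mul_one] at e
    rw [← mul_assoc vᵀ uᵀ, ← Matrix.transpose_mul, huv, Matrix.transpose_one, one_mul] at e
    exact e.symm
  obtain ⟨s, hs⟩ : ∃ s, s = u + v - (1 + 1) := ⟨_, rfl⟩
  have hsM : sᵀ * M = M * s := by
    rw [hs]
    simp only [Matrix.transpose_add, Matrix.transpose_sub, Matrix.transpose_one, add_mul, sub_mul, mul_add, mul_sub,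
      h1, h2, one_mul, mul_one]
    abel
  have hsk : ∀ k, (s ^ k)ᵀ * M = M * s ^ k := by
    intro k
    induction k with
    | zero => simp
    | succ k ih => rw [pow_succ, Matrix.transpose_mul, mul_assoc, ih, ← mul_assoc, hsM, mul_assoc, ← pow_succ', pow_succ]
  have hanti : ∀ a b, a ⬝ᵥ (M *ᵥ b) = -(b ⬝ᵥ (M *ᵥ a)) := fun a b => by
    have := ha (a + b)
    simp only [Matrix.mulVec_add, add_dotProduct, dotProduct_add, ha, zero_add, add_zero] at this
    exact eq_neg_of_add_eq_zero_right this
  have hs0 : ∀ y, y ⬝ᵥ (M *ᵥ (s *ᵥ y)) = 0 := fun y => by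
    have e : y ⬝ᵥ (M *ᵥ (v *ᵥ y)) = -(y ⬝ᵥ (M *ᵥ (u *ᵥ y))) := by
      rw [← hanti, Matrix.mulVec_mulVec, ← h1, ← Matrix.mulVec_mulVec, Matrix.dotProduct_mulVec y uᵀ,
        Matrix.vecMul_transpose]
    rw [hs, Matrix.sub_mulVec, Matrix.add_mulVec, Matrix.add_mulVec, Matrix.one_mulVec, Matrix.mulVec_sub,
      Matrix.mulVec_add, Matrix.mulVec_add, dotProduct_sub, dotProduct_add, dotProduct_add, e, ha]
    ring
  have halt : ∀ k x, x ⬝ᵥ ((M * s ^ k) *ᵥ x) = 0 := by
    intro k x
    rcases Nat.even_or_odd' k with ⟨l, rfl | rfl⟩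
    · rw [show 2 * l = l + l by omega, pow_add, ← mul_assoc, ← hsk, mul_assoc, ← Matrix.mulVec_mulVec,
        Matrix.dotProduct_mulVec, Matrix.vecMul_transpose, ← Matrix.mulVec_mulVec]
      exact ha _
    · rw [show 2 * l + 1 = l + (1 + l) by omega, pow_add, pow_add, pow_one, ← mul_assoc, ← hsk, mul_assoc,
        ← Matrix.mulVec_mulVec, Matrix.dotProduct_mulVec, Matrix.vecMul_transpose, ← Matrix.mulVec_mulVec,
        ← Matrix.mulVec_mulVec]
      exact hs0 _
  have h3 : (u - 1) ^ 2 = u * s := by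
    rw [hs, mul_sub, mul_add, mul_add, huv, mul_one, sq, sub_mul, mul_sub, mul_one, one_mul]
    abel
  have hcomm : Commute u s := by
    rw [hs]
    exact ((Commute.refl u).add_right (huv.trans hvu.symm)).sub_right ((Commute.one_right u).add_right (Commute.one_right u))
  rw [pow_mul, h3, hcomm.mul_pow, Matrix.rank_mul_eq_right_of_isUnit_det _ _ (by rw [det_pow]; exact hud.pow _),
    ← Matrix.rank_mul_eq_right_of_isUnit_det M (s ^ i) hM]
  exact even_rank (halt i)

/-- odd powers of `u - 1` have even rank for an invariant non-degenerate symmetric form -/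
theorem even_rank_odd_pow (h2 : (2 : F) ≠ 0) (hM : IsUnit M.det) (hs : Mᵀ = M) (hu : uᵀ * M * u = M)
    (hn : IsNilpotent (u - 1)) (i : ℕ) : Even ((u - 1) ^ (2 * i + 1)).rank := by
  have hud : IsUnit u.det := by
    have h := congrArg Matrix.det hu
    rw [det_mul, det_mul, det_transpose] at h
    exact isUnit_of_mul_isUnit_right (h ▸ hM)
  obtain ⟨v, hv⟩ : ∃ v, v = u⁻¹ := ⟨_, rfl⟩
  have hvu : v * u = 1 := hv ▸ Matrix.nonsing_inv_mul _ hud
  have huv : u * v = 1 := hv ▸ Matrix.mul_nonsing_inv _ hud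
  have h1 : uᵀ * M = M * v := by rw [← mul_one (uᵀ * M), ← huv, ← mul_assoc, hu]
  obtain ⟨t, ht⟩ : ∃ t, t = u - v := ⟨_, rfl⟩
  have h1' : vᵀ * M = M * u := by
    have e := congrArg (fun z => vᵀ * z * u) h1
    simp only [mul_assoc, hvu, mul_one] at e
    rw [← mul_assoc vᵀ uᵀ, ← Matrix.transpose_mul, huv, Matrix.transpose_one, one_mul] at e
    exact e.symm
  have htM : tᵀ * M = -(M * t) := by
    rw [ht, Matrix.transpose_sub, sub_mul, h1, h1', mul_sub]; abel
  have htk : ∀ k, (t ^ k)ᵀ * M = (-1 : F) ^ k • (M * t ^ k) := by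
    intro k
    induction k with
    | zero => simp
    | succ k ih =>
      rw [pow_succ, Matrix.transpose_mul, mul_assoc, ih, mul_smul_comm, ← mul_assoc, htM, neg_mul, smul_neg,
        mul_assoc, ← pow_succ', pow_succ, pow_succ, mul_neg_one, neg_smul]
  have halt : ∀ x, x ⬝ᵥ ((M * t ^ (2 * i + 1)) *ᵥ x) = 0 := by
    refine alt_of_diag ?_ ?_
    · rw [Matrix.transpose_mul, hs, htk, (show Odd (2 * i + 1) from ⟨i, rfl⟩).neg_one_pow, neg_smul, one_smul]
    · intro j
      have h := congrFun (congrFun (show (M * t ^ (2 * i + 1))ᵀ = -(M * t ^ (2 * i + 1)) by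
        rw [Matrix.transpose_mul, hs, htk, (show Odd (2 * i + 1) from ⟨i, rfl⟩).neg_one_pow, neg_smul, one_smul]) j) j
      rw [Matrix.transpose_apply, Matrix.neg_apply] at h
      exact (mul_eq_zero.1 (show (2 : F) * (M * t ^ (2 * i + 1)) j j = 0 by linear_combination h)).resolve_left h2
  have hw : t = (u - 1) * ((1 + u) * v) := by
    rw [ht, ← mul_assoc, sub_mul, mul_add, mul_one, one_mul, show u + u * u - (1 + u) = u * u - 1 by abel, sub_mul,
      mul_assoc, huv, mul_one, one_mul]
  have hcw : Commute (u - 1) ((1 + u) * v) :=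
    (((Commute.one_right u).add_right (Commute.refl u)).mul_right (huv.trans hvu.symm)).sub_left (Commute.one_left _)
  have hwu : IsUnit ((1 + u) * v).det := by
    rw [det_mul]
    refine IsUnit.mul ?_ (hv ▸ Matrix.isUnit_nonsing_inv_det _ hud)
    refine (Matrix.isUnit_iff_isUnit_det _).1 ?_
    have htwo : IsUnit ((2 : F) • (1 : Matrix κ κ F)) :=
      ⟨⟨(2 : F) • 1, (2 : F)⁻¹ • 1, by simp [smul_smul, h2], by simp [smul_smul, h2]⟩, rfl⟩
    have := hn.isUnit_add_left_of_commute htwo (((Commute.one_right _).smul_right (2 : F)))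
    rwa [show (2 : F) • (1 : Matrix κ κ F) + (u - 1) = 1 + u by rw [two_smul]; abel] at this
  have := even_rank halt
  rwa [Matrix.rank_mul_eq_right_of_isUnit_det _ _ hM, hw, hcw.mul_pow,
    Matrix.rank_mul_eq_left_of_isUnit_det _ _ (by rw [det_pow]; exact hwu.pow _)] at this

end Necessity

section Types

variable {t : ℕ} (d : Fin t → ℕ)

theorem sub_one_pow_apply (j : ℕ) (p q : (k : Fin t) × Fin (d k)) :
    ((Cfsg.jordanTypeMatrix d F - 1) ^ j) p q = if p.1 = q.1 ∧ (p.2 : ℕ) = q.2 + j then 1 else 0 := by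
  have h1 : ∀ p q : (k : Fin t) × Fin (d k), (Cfsg.jordanTypeMatrix d F - 1) p q =
      if p.1 = q.1 ∧ (p.2 : ℕ) = q.2 + 1 then 1 else 0 := by
    rintro ⟨k, i⟩ ⟨k', i'⟩
    rw [Matrix.sub_apply, Cfsg.jordanTypeMatrix, Matrix.blockDiagonal'_apply]
    by_cases hk : k = k'
    · subst hk
      rw [dif_pos rfl]
      simp only [Cfsg.jordanBlock, Matrix.of_apply, cast_eq, true_and, Matrix.one_apply, Sigma.mk.inj_iff, heq_eq_eq]
      by_cases hi : i = i'
      · subst hi; simp
      · rw [if_neg (fun e => hi (Fin.ext e)), if_neg hi, sub_zero]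
    · rw [dif_neg hk, Matrix.one_apply_ne (fun e => hk (congrArg Sigma.fst e)), sub_zero, if_neg (fun e => hk e.1)]
  induction j generalizing p q with
  | zero =>
    rw [pow_zero, Matrix.one_apply]
    obtain ⟨k, i⟩ := p
    obtain ⟨k', i'⟩ := q
    by_cases hk : k = k'
    · subst hk; simp [Fin.ext_iff]
    · rw [if_neg (fun e => hk (congrArg Sigma.fst e)), if_neg (fun e => hk e.1)]
  | succ j ih =>
    rw [pow_succ, Matrix.mul_apply]
    obtain ⟨k', i'⟩ := q
    by_cases hlt : (i' : ℕ) + 1 < d k'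
    · rw [Finset.sum_eq_single (⟨k', ⟨i' + 1, hlt⟩⟩ : (k : Fin t) × Fin (d k)) (fun x _ hx => by
        rw [h1, if_neg, mul_zero]
        rintro ⟨e1, e2⟩
        obtain ⟨kx, ix⟩ := x
        subst e1
        exact hx (by rw [Sigma.mk.inj_iff]; exact ⟨rfl, heq_of_eq (Fin.ext e2)⟩)) (by simp), ih, h1]
      simp [add_assoc, add_comm 1 j]
    · rw [Finset.sum_eq_zero, if_neg]
      · rintro ⟨e1, e2⟩
        have hd : d p.1 = d k' := congrArg d e1
        have := p.2.isLt
        simp only at e2
        omega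
      · intro x _
        rw [h1, if_neg, mul_zero]
        rintro ⟨e1, e2⟩
        have hd : d x.1 = d k' := congrArg d e1
        have := x.2.isLt
        simp only at e2
        omega

theorem rank_sub_one_pow (j : ℕ) :
    ((Cfsg.jordanTypeMatrix d F - 1) ^ j).rank = ∑ k, (d k - j) := by
  classical
  let r : ((k : Fin t) × Fin (d k - j)) → (k : Fin t) × Fin (d k) := fun s => ⟨s.1, ⟨(s.2 : ℕ) + j, by omega⟩⟩
  let c : ((k : Fin t) × Fin (d k - j)) → (k : Fin t) × Fin (d k) := fun s => ⟨s.1, ⟨(s.2 : ℕ), by omega⟩⟩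
  have hcard : Fintype.card ((k : Fin t) × Fin (d k - j)) = ∑ k, (d k - j) := by simp
  have hci : Function.Injective c := by
    rintro ⟨k, i⟩ ⟨k', i'⟩ h
    have hk : k = k' := congrArg Sigma.fst h
    subst hk
    rw [Sigma.mk.inj_iff] at h
    have := congrArg Fin.val (eq_of_heq h.2)
    exact congrArg (Sigma.mk k) (Fin.ext this)
  refine le_antisymm ?_ ?_
  · have hfac : (Cfsg.jordanTypeMatrix d F - 1) ^ j =
        (Matrix.of fun p s => if p = r s then (1 : F) else 0) * (Matrix.of fun s q => if q = c s then (1 : F) else 0) := by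
      ext p q
      rw [sub_one_pow_apply, Matrix.mul_apply]
      simp only [Matrix.of_apply, ite_mul, one_mul, zero_mul]
      by_cases h : p.1 = q.1 ∧ (p.2 : ℕ) = q.2 + j
      · rw [if_pos h]
        obtain ⟨k, i⟩ := p
        obtain ⟨k', i'⟩ := q
        obtain ⟨rfl, h'⟩ := h
        simp only at h'
        rw [Finset.sum_eq_single (⟨k, ⟨i', by omega⟩⟩ : (k : Fin t) × Fin (d k - j)) (fun x _ hx => by
          rw [if_neg (show ¬ (⟨k, i'⟩ : (k : Fin t) × Fin (d k)) = c x from fun e => hx (hci (e.symm.trans rfl)))]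
          simp) (by simp)]
        rw [if_pos (by simp [r, Fin.ext_iff]; omega), if_pos (by simp [c])]
      · rw [if_neg h]
        refine (Finset.sum_eq_zero fun x _ => ?_).symm
        by_cases h1 : p = r x
        · rw [if_pos h1, if_neg]
          intro h2
          exact h ⟨by rw [h1, h2], by rw [h1, h2]⟩
        · rw [if_neg h1]
    rw [hfac, ← hcard]
    exact (Matrix.rank_mul_le_left _ _).trans (Matrix.rank_le_card_width _)
  · have h1 : ((Cfsg.jordanTypeMatrix d F - 1) ^ j).submatrix r c = 1 := by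
      ext a b
      rw [Matrix.submatrix_apply, sub_one_pow_apply, Matrix.one_apply]
      obtain ⟨k, i⟩ := a
      obtain ⟨k', i'⟩ := b
      by_cases hk : k = k'
      · subst hk; simp [r, c, Fin.ext_iff]
      · rw [if_neg (fun e => hk e.1), if_neg (fun e => hk (congrArg Sigma.fst e))]
    have h2 := Matrix.rank_submatrix_le ((Cfsg.jordanTypeMatrix d F - 1) ^ j) r c
    rwa [h1, Matrix.rank_one, hcard] at h2

theorem count_parity (j : ℕ) (hj : 1 ≤ j)
    (h : Even (((Cfsg.jordanTypeMatrix d F - 1) ^ (j - 1)).rank + ((Cfsg.jordanTypeMatrix d F - 1) ^ (j + 1)).rank)) :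
    Even (Finset.univ.filter (fun k : Fin t => d k = j)).card := by
  rw [rank_sub_one_pow, rank_sub_one_pow, ← Finset.sum_add_distrib] at h
  have e : ∀ k, (d k - (j - 1)) + (d k - (j + 1)) = (if d k = j then 1 else 0) + 2 * (d k - j) := fun k => by
    split_ifs <;> omega
  simp only [e, Finset.sum_add_distrib, ← Finset.mul_sum] at h
  rw [Finset.card_filter]
  exact (Nat.even_add.1 h).2 (even_two_mul _)

end Types

section Forms

/-- a Gram function invariant under one lower Jordan block of size `n` -/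
structure BlockForm (n : ℕ) (g : ℕ → ℕ → F) : Prop where
  zero : ∀ i j, n ≤ i + j → g i j = 0
  anti : ∀ i j, i + j + 1 = n → g i j ≠ 0
  inv : ∀ i j, g (i + 1) j + g i (j + 1) + g (i + 1) (j + 1) = 0

theorem BlockForm.flip {n : ℕ} {g : ℕ → ℕ → F} (h : BlockForm n g) {ε : F} (hε : ε ≠ 0) :
    BlockForm n (fun i j => ε * g j i) :=
  ⟨fun i j hij => by rw [h.zero j i (by omega), mul_zero], fun i j hij => mul_ne_zero hε (h.anti j i (by omega)),
    fun i j => by linear_combination ε * h.inv j i⟩

/-- a pairing of two blocks -/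
def pairG (F : Type*) [Field F] (n : ℕ) (i j : ℕ) : F :=
  if i + j < n then (-1) ^ i * ((Nat.choose (n - 1 - i) j : ℕ) : F) else 0

theorem pairG_form (n : ℕ) : BlockForm n (pairG F n) := by
  refine ⟨fun i j h => if_neg (by omega), fun i j h => ?_, fun i j => ?_⟩
  · rw [pairG, if_pos (by omega), show n - 1 - i = j by omega, Nat.choose_self, Nat.cast_one, mul_one]
    exact pow_ne_zero _ (neg_ne_zero.2 one_ne_zero)
  · unfold pairG
    by_cases h : i + j + 2 < n
    · rw [if_pos (by omega), if_pos (by omega), if_pos (by omega)]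
      rw [show n - 1 - i = (n - 2 - i) + 1 by omega, show n - 1 - (i + 1) = n - 2 - i by omega, Nat.choose_succ_succ]
      push_cast
      ring
    · by_cases h' : i + j + 2 = n
      · rw [if_pos (by omega), if_pos (by omega), if_neg (by omega), show n - 1 - (i + 1) = j by omega,
          show n - 1 - i = j + 1 by omega, Nat.choose_self, Nat.choose_self]
        ring
      · rw [if_neg (by omega), if_neg (by omega), if_neg (by omega)]; simp

/-- a symmetric form on a block of odd size -/
def symG (F : Type*) [Field F] (n : ℕ) (i j : ℕ) : F := pairG F n i j + pairG F n j i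

theorem symG_form {n : ℕ} (h2 : (2 : F) ≠ 0) (hn : Odd n) : BlockForm n (symG F n) := by
  have h := pairG_form (F := F) n
  refine ⟨fun i j hij => by rw [symG, h.zero i j hij, h.zero j i (by omega), add_zero], fun i j hij => ?_, fun i j => ?_⟩
  · rw [symG, pairG, if_pos (by omega), pairG, if_pos (by omega), show n - 1 - i = j by omega,
      show n - 1 - j = i by omega, Nat.choose_self, Nat.choose_self, Nat.cast_one, mul_one, mul_one]
    have e : ((-1 : F) ^ j) = (-1) ^ i := by
      rw [neg_one_pow_eq_pow_mod_two, neg_one_pow_eq_pow_mod_two (n := i)]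
      congr 1
      rw [Nat.odd_iff] at hn
      omega
    rw [e, ← two_mul]
    exact mul_ne_zero h2 (pow_ne_zero _ (neg_ne_zero.2 one_ne_zero))
  · simp only [symG]
    linear_combination h.inv i j + h.inv j i

/-- an alternating form on a block of even size `2k` -/
def altG (F : Type*) [Field F] (k : ℕ) (i j : ℕ) : F :=
  if i + j < 2 * k then (-1) ^ j * ((Ring.choose ((k : ℤ) - 1 - j) (2 * k - 1 - (i + j)) : ℤ) : F) else 0

theorem altG_form (k : ℕ) : BlockForm (2 * k) (altG F k) := by
  refine ⟨fun i j h => if_neg (by omega), fun i j h => ?_, fun i j => ?_⟩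
  · rw [altG, if_pos (by omega), show 2 * k - 1 - (i + j) = 0 by omega, Ring.choose_zero_right, Int.cast_one, mul_one]
    exact pow_ne_zero _ (neg_ne_zero.2 one_ne_zero)
  · unfold altG
    by_cases h : i + j + 2 < 2 * k
    · rw [if_pos (by omega), if_pos (by omega), if_pos (by omega)]
      obtain ⟨r, hr⟩ : ∃ r, 2 * k - 1 - (i + 1 + (j + 1)) = r := ⟨_, rfl⟩
      rw [show 2 * k - 1 - (i + 1 + j) = r + 1 by omega, show 2 * k - 1 - (i + (j + 1)) = r + 1 by omega, hr,
        show ((k : ℤ) - 1 - (j : ℕ)) = ((k : ℤ) - 1 - ((j + 1 : ℕ) : ℤ)) + 1 by push_cast; ring, Ring.choose_succ_succ]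
      push_cast
      ring
    · by_cases h' : i + j + 2 = 2 * k
      · rw [if_pos (by omega), if_pos (by omega), if_neg (by omega), show 2 * k - 1 - (i + 1 + j) = 0 by omega,
          show 2 * k - 1 - (i + (j + 1)) = 0 by omega, Ring.choose_zero_right, Ring.choose_zero_right]
        push_cast
        ring
      · rw [if_neg (by omega), if_neg (by omega), if_neg (by omega)]; simp

theorem altG_skew (k i j : ℕ) : altG F k j i = -altG F k i j := by
  unfold altG
  by_cases h : i + j < 2 * k
  · rw [if_pos (by omega), if_pos h]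
    obtain ⟨r, hr⟩ : ∃ r, 2 * k - 1 - (i + j) = r := ⟨_, rfl⟩
    rw [show 2 * k - 1 - (j + i) = r by omega, hr]
    have e1 : ((k : ℤ) - 1 - (i : ℕ)) = -(((i : ℕ) : ℤ) + 1 - k) := by ring
    have e2 : (((i : ℕ) : ℤ) + 1 - k) + r - 1 = (k : ℤ) - 1 - (j : ℕ) := by omega
    rw [e1, Ring.choose_neg, e2, Units.smul_def, smul_eq_mul, Int.cast_mul, Int.negOnePow_def]
    have e3 : (-1 : F) ^ i * (-1) ^ r = -(-1) ^ j := by
      rw [← pow_add, neg_one_pow_eq_pow_mod_two, ← neg_one_mul ((-1 : F) ^ j), ← pow_succ',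
        neg_one_pow_eq_pow_mod_two (n := j + 1), show (i + r) % 2 = (j + 1) % 2 by omega]
    rw [← mul_assoc, ← neg_mul]
    congr 1
    rw [← e3]
    simp
  · rw [if_neg (by omega), if_neg h, neg_zero]

end Forms

end CfsgLib.GLClass.JordanForms
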