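import Cfsg.Agent.Lib.GLClass.JordanFormsTypes
import Cfsg.Agent.Lib.Perm.Trans.QuadB

/-!
# Jordan types in symplectic and orthogonal groups
-/

set_option autoImplicit false
set_option linter.all false

namespace CfsgLib.GLClass.JordanForms

open Matrix Module

variable {F : Type*} [Field F] {t : ℕ} (d : Fin t → ℕ)

theorem count_parity_of_conj {ι : Type} [Fintype ι] [DecidableEq ι] (e : ((k : Fin t) × Fin (d k)) ≃ ι) {B : Matrix ι ι F}
    (h : IsConj (Matrix.reindex e e (Cfsg.jordanTypeMatrix d F)) B) (j : ℕ) (hj : 1 ≤ j)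
    (h1 : Even ((B - 1) ^ (j - 1)).rank) (h2 : Even ((B - 1) ^ (j + 1)).rank) :
    Even (Finset.univ.filter (fun k : Fin t => d k = j)).card := by
  rw [rank_pow_of_similar e _ h] at h1 h2
  exact count_parity d j hj (h1.add h2)

theorem nilpotent_of_conj {ι : Type} [Fintype ι] [DecidableEq ι] (e : ((k : Fin t) × Fin (d k)) ≃ ι) {B : Matrix ι ι F}
    (h : IsConj (Matrix.reindex e e (Cfsg.jordanTypeMatrix d F)) B) : IsNilpotent (B - 1) := by
  refine ⟨∑ k, d k, ?_⟩
  have h0 : ((B - 1) ^ (∑ k, d k)).rank = 0 := by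
    rw [rank_pow_of_similar e _ h, rank_sub_one_pow]
    exact Finset.sum_eq_zero fun k _ =>
      Nat.sub_eq_zero_of_le (Finset.single_le_sum (fun i _ => Nat.zero_le (d i)) (Finset.mem_univ k))
  rw [Matrix.rank, Submodule.finrank_eq_zero, LinearMap.range_eq_bot] at h0
  refine Matrix.ext_of_mulVec_single fun i => ?_
  rw [Matrix.zero_mulVec, ← Matrix.mulVecLin_apply, h0, LinearMap.zero_apply]

theorem reindex_inv {ι : Type} [Fintype ι] [DecidableEq ι] (e : ((k : Fin t) × Fin (d k)) ≃ ι)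
    {A G : Matrix ((k : Fin t) × Fin (d k)) ((k : Fin t) × Fin (d k)) F} (h : Aᵀ * G * A = G) :
    (Matrix.reindex e e A)ᵀ * Matrix.reindex e e G * Matrix.reindex e e A = Matrix.reindex e e G := by
  show (Matrix.reindexAlgEquiv F F e Aᵀ) * Matrix.reindexAlgEquiv F F e G * Matrix.reindexAlgEquiv F F e A =
    Matrix.reindexAlgEquiv F F e G
  rw [← map_mul, ← map_mul, h]

theorem reindex_alt {κ ι : Type} [Fintype κ] [DecidableEq κ] [Fintype ι] [DecidableEq ι] (e : κ ≃ ι) {G : Matrix κ κ F}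
    (h : ∀ x, x ⬝ᵥ (G *ᵥ x) = 0) (x : ι → F) : x ⬝ᵥ (Matrix.reindex e e G *ᵥ x) = 0 := by
  obtain ⟨hd, hs⟩ := diag_of_alt h
  exact alt_of_diag (M := Matrix.reindex e e G) (by rw [Matrix.transpose_reindex, hs]; rfl) (fun i => hd _) x

theorem sp_iff {m : ℕ} (hd : ∀ k, 1 ≤ d k) (hsum : ∑ k, d k = 2 * m) :
    (∃ e : ((k : Fin t) × Fin (d k)) ≃ (Fin m ⊕ Fin m), ∃ A : Matrix.symplecticGroup (Fin m) F,
      IsConj (Matrix.reindex e e (Cfsg.jordanTypeMatrix d F)) (A : Matrix (Fin m ⊕ Fin m) (Fin m ⊕ Fin m) F)) ↔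
    ∀ j : ℕ, Odd j → Even (Finset.univ.filter (fun k : Fin t => d k = j)).card := by
  have hJ : IsUnit (Matrix.J (Fin m) F).det := Matrix.isUnit_det_J _ _
  have hJa : ∀ x, x ⬝ᵥ (Matrix.J (Fin m) F *ᵥ x) = 0 := alt_of_diag (Matrix.J_transpose _ _) (fun i => by
    rcases i with i | i <;> rfl)
  constructor
  · rintro ⟨e, A, hA⟩ j hj
    have hu := SymplecticGroup.mem_iff'.1 A.2
    obtain ⟨i, rfl⟩ := hj
    refine count_parity_of_conj d e hA _ (by omega) ?_ ?_
    · rw [show 2 * i + 1 - 1 = 2 * i by omega]; exact even_rank_even_pow hJ hJa hu i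
    · rw [show 2 * i + 1 + 1 = 2 * (i + 1) by ring]; exact even_rank_even_pow hJ hJa hu (i + 1)
  · intro h
    obtain ⟨G, hG0, hGa, hGi⟩ := exists_alt (F := F) d h
    obtain ⟨e⟩ : Nonempty (((k : Fin t) × Fin (d k)) ≃ (Fin m ⊕ Fin m)) := ⟨Fintype.equivOfCardEq (by simp [hsum]; omega)⟩
    obtain ⟨H, hH⟩ : ∃ H, H = Matrix.reindex e e G := ⟨_, rfl⟩
    obtain ⟨R, hR⟩ : ∃ R, R = Matrix.reindex e e (Cfsg.jordanTypeMatrix d F) := ⟨_, rfl⟩
    have hH0 : H.det ≠ 0 := by rw [hH, Matrix.det_reindex_self]; exact hG0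
    have hHa : ∀ x, x ⬝ᵥ (H *ᵥ x) = 0 := hH ▸ reindex_alt e hGa
    have hHR : Rᵀ * H * R = H := by rw [hH, hR]; exact reindex_inv d e hGi
    obtain ⟨φ, hφ⟩ := CfsgLib.IsometryConj.exists_alt_iso (Matrix.toBilin' (Matrix.J (Fin m) F)) (Matrix.toBilin' H)
      (fun x => by rw [Matrix.toBilin'_apply']; exact hJa x) (fun x => by rw [Matrix.toBilin'_apply']; exact hHa x)
      (LinearMap.BilinForm.nondegenerate_toBilin'_iff_det_ne_zero.2 hJ.ne_zero)
      (LinearMap.BilinForm.nondegenerate_toBilin'_iff_det_ne_zero.2 hH0)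
    obtain ⟨P, hP⟩ : ∃ P, P = LinearMap.toMatrix' φ.toLinearMap := ⟨_, rfl⟩
    have hPJ : Pᵀ * Matrix.J (Fin m) F * P = H := by
      have h1 : (Matrix.toBilin' (Matrix.J (Fin m) F)).comp φ.toLinearMap φ.toLinearMap = Matrix.toBilin' H :=
        LinearMap.ext fun x => LinearMap.ext fun y => hφ x y
      have h2 := congrArg LinearMap.BilinForm.toMatrix' h1
      rwa [LinearMap.BilinForm.toMatrix'_comp, LinearMap.BilinForm.toMatrix'_toBilin',
        LinearMap.BilinForm.toMatrix'_toBilin', ← hP] at h2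
    have hPu : IsUnit P.det := by
      have h1 := congrArg Matrix.det hPJ
      rw [det_mul] at h1
      exact isUnit_of_mul_isUnit_right (h1 ▸ isUnit_iff_ne_zero.2 hH0)
    obtain ⟨P', hP'⟩ := (Matrix.isUnit_iff_isUnit_det _).2 hPu
    obtain ⟨Pi, hPi⟩ : ∃ Pi, Pi = ((P'⁻¹ : (Matrix (Fin m ⊕ Fin m) (Fin m ⊕ Fin m) F)ˣ) : Matrix (Fin m ⊕ Fin m) (Fin m ⊕ Fin m) F) :=
      ⟨_, rfl⟩
    have hPPi : P * Pi = 1 := by rw [hPi, ← hP']; exact Units.mul_inv _
    have hPiP : Pi * P = 1 := mul_eq_one_comm.1 hPPi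
    have hA : P * R * Pi ∈ Matrix.symplecticGroup (Fin m) F := by
      rw [SymplecticGroup.mem_iff', Matrix.transpose_mul, Matrix.transpose_mul]
      calc Piᵀ * (Rᵀ * Pᵀ) * Matrix.J (Fin m) F * (P * R * Pi)
          = Piᵀ * (Rᵀ * (Pᵀ * Matrix.J (Fin m) F * P) * R) * Pi := by simp only [mul_assoc]
        _ = Piᵀ * (Pᵀ * Matrix.J (Fin m) F * P) * Pi := by rw [hPJ, hHR]
        _ = (P * Pi)ᵀ * Matrix.J (Fin m) F * (P * Pi) := by simp only [Matrix.transpose_mul, mul_assoc]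
        _ = Matrix.J (Fin m) F := by rw [hPPi, Matrix.transpose_one, one_mul, mul_one]
    refine ⟨e, ⟨_, hA⟩, ⟨P', ?_⟩⟩
    show (P' : Matrix (Fin m ⊕ Fin m) (Fin m ⊕ Fin m) F) * Matrix.reindex e e (Cfsg.jordanTypeMatrix d F) =
      P * R * Pi * (P' : Matrix (Fin m ⊕ Fin m) (Fin m ⊕ Fin m) F)
    rw [← hR, hP', mul_assoc (P * R), hPiP, mul_one]

theorem orth_odd_iff {n : ℕ} (h2 : (2 : F) ≠ 0) (hd : ∀ k, 1 ≤ d k) (hsum : ∑ k, d k = n) :
    (∃ Q : QuadraticForm F (Fin n → F), (QuadraticMap.polarBilin Q).Nondegenerate ∧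
      ∃ e : ((k : Fin t) × Fin (d k)) ≃ Fin n, ∃ A : ↥(Cfsg.isometryGroup F ⇑Q),
        IsConj (Matrix.reindex e e (Cfsg.jordanTypeMatrix d F)) ((A : Matrix.GeneralLinearGroup (Fin n) F) : Matrix (Fin n) (Fin n) F)) ↔
    ∀ j : ℕ, Even j → 0 < j → Even (Finset.univ.filter (fun k : Fin t => d k = j)).card := by
  constructor
  · rintro ⟨Q, hQ, e, A, hA⟩ j hj hj0
    obtain ⟨M, hM⟩ : ∃ M, M = LinearMap.BilinForm.toMatrix' (QuadraticMap.polarBilin Q) := ⟨_, rfl⟩
    have hM0 : IsUnit M.det := by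
      rw [hM, isUnit_iff_ne_zero, ← LinearMap.BilinForm.nondegenerate_toBilin'_iff_det_ne_zero,
        Matrix.toBilin'_toMatrix']
      exact hQ
    have hMs : Mᵀ = M := Matrix.ext fun a b => by
      rw [hM, Matrix.transpose_apply, LinearMap.BilinForm.toMatrix'_apply, LinearMap.BilinForm.toMatrix'_apply]
      exact QuadraticMap.polar_comm _ _ _
    have hinv : (A.1.1)ᵀ * M * A.1.1 = M := by
      have h1 : LinearMap.BilinForm.comp (QuadraticMap.polarBilin Q) (Matrix.toLin' A.1.1) (Matrix.toLin' A.1.1) = QuadraticMap.polarBilin Q :=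
        LinearMap.ext fun x => LinearMap.ext fun y => by
          show QuadraticMap.polar Q (Matrix.toLin' A.1.1 x) (Matrix.toLin' A.1.1 y) = QuadraticMap.polar Q x y
          rw [Matrix.toLin'_apply, Matrix.toLin'_apply]
          exact CfsgLib.Perm.Trans.Quad.iso_pol A.2 x y
      have h2 := congrArg LinearMap.BilinForm.toMatrix' h1
      rwa [LinearMap.BilinForm.toMatrix'_comp, LinearMap.toMatrix'_toLin', ← hM] at h2
    have hn := nilpotent_of_conj d e hA
    obtain ⟨i, rfl⟩ := hj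
    refine count_parity_of_conj d e hA _ (by omega) ?_ ?_
    · rw [show i + i - 1 = 2 * (i - 1) + 1 by omega]; exact even_rank_odd_pow h2 hM0 hMs hinv hn _
    · rw [show i + i + 1 = 2 * i + 1 by omega]; exact even_rank_odd_pow h2 hM0 hMs hinv hn _
  · intro h
    obtain ⟨G, hG0, hGs, hGi⟩ := exists_sym (F := F) d h2 hd h
    obtain ⟨e⟩ : Nonempty (((k : Fin t) × Fin (d k)) ≃ Fin n) := ⟨Fintype.equivOfCardEq (by simp [hsum])⟩
    obtain ⟨H, hH⟩ : ∃ H, H = Matrix.reindex e e G := ⟨_, rfl⟩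
    obtain ⟨R, hR⟩ : ∃ R, R = Matrix.reindex e e (Cfsg.jordanTypeMatrix d F) := ⟨_, rfl⟩
    have hH0 : H.det ≠ 0 := by rw [hH, Matrix.det_reindex_self]; exact hG0
    have hHs : Hᵀ = H := by rw [hH, Matrix.transpose_reindex, hGs]
    have hHR : Rᵀ * H * R = H := by rw [hH, hR]; exact reindex_inv d e hGi
    obtain ⟨Q, hQ⟩ : ∃ Q : QuadraticForm F (Fin n → F), Q = LinearMap.BilinMap.toQuadraticMap (Matrix.toBilin' H) := ⟨_, rfl⟩
    have hQv : ∀ x, Q x = x ⬝ᵥ (H *ᵥ x) := fun x => by rw [hQ, LinearMap.BilinMap.toQuadraticMap_apply, Matrix.toBilin'_apply']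
    have hpol : ∀ x y, QuadraticMap.polar Q x y = 2 * (x ⬝ᵥ (H *ᵥ y)) := fun x y => by
      simp only [QuadraticMap.polar, hQv, Matrix.mulVec_add, add_dotProduct, dotProduct_add]
      have : y ⬝ᵥ (H *ᵥ x) = x ⬝ᵥ (H *ᵥ y) := by
        rw [Matrix.dotProduct_mulVec, ← Matrix.mulVec_transpose, hHs, dotProduct_comm]
      rw [this]; ring
    have hRu : IsUnit R.det := by
      have h1 := congrArg Matrix.det hHR
      rw [det_mul] at h1
      exact isUnit_of_mul_isUnit_right (h1 ▸ isUnit_iff_ne_zero.2 hH0)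
    obtain ⟨g, hg⟩ := (Matrix.isUnit_iff_isUnit_det _).2 hRu
    refine ⟨Q, ?_, e, ⟨g, CfsgLib.Perm.Trans.Quad.mem_iso.2 fun x => ?_⟩, ?_⟩
    · have hb : QuadraticMap.polarBilin Q = Matrix.toBilin' ((2 : F) • H) := LinearMap.ext fun x => LinearMap.ext fun y => by
        show QuadraticMap.polar Q x y = _
        rw [hpol, Matrix.toBilin'_apply', Matrix.smul_mulVec, dotProduct_smul, smul_eq_mul]
      rw [hb]
      refine LinearMap.BilinForm.nondegenerate_toBilin'_iff_det_ne_zero.2 ?_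
      rw [Matrix.det_smul]
      exact mul_ne_zero (pow_ne_zero _ h2) hH0
    · show Q ((g : Matrix (Fin n) (Fin n) F) *ᵥ x) = Q x
      rw [hQv, hQv, hg]
      conv_rhs => rw [← hHR, ← Matrix.mulVec_mulVec, ← Matrix.mulVec_mulVec, Matrix.dotProduct_mulVec x Rᵀ,
        Matrix.vecMul_transpose]
    · show IsConj _ (g : Matrix (Fin n) (Fin n) F)
      rw [hg, hR]

theorem orth_two_iff [CharP F 2] {m : ℕ} (hd : ∀ k, 1 ≤ d k) (hsum : ∑ k, d k = 2 * m) :
    (∃ Q : QuadraticForm F (Fin (2 * m) → F), (QuadraticMap.polarBilin Q).Nondegenerate ∧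
      ∃ e : ((k : Fin t) × Fin (d k)) ≃ Fin (2 * m), ∃ A : ↥(Cfsg.isometryGroup F ⇑Q),
        IsConj (Matrix.reindex e e (Cfsg.jordanTypeMatrix d F))
          ((A : Matrix.GeneralLinearGroup (Fin (2 * m)) F) : Matrix (Fin (2 * m)) (Fin (2 * m)) F)) ↔
    ∀ j : ℕ, Odd j → Even (Finset.univ.filter (fun k : Fin t => d k = j)).card := by
  constructor
  · rintro ⟨Q, hQ, e, A, hA⟩ j hj
    obtain ⟨M, hM⟩ : ∃ M, M = LinearMap.BilinForm.toMatrix' (QuadraticMap.polarBilin Q) := ⟨_, rfl⟩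
    have hM0 : IsUnit M.det := by
      rw [hM, isUnit_iff_ne_zero, ← LinearMap.BilinForm.nondegenerate_toBilin'_iff_det_ne_zero,
        Matrix.toBilin'_toMatrix']
      exact hQ
    have hMa : ∀ x, x ⬝ᵥ (M *ᵥ x) = 0 := fun x => by
      rw [← Matrix.toBilin'_apply', hM, Matrix.toBilin'_toMatrix']
      show QuadraticMap.polar Q x x = 0
      rw [QuadraticMap.polar_self, two_smul, CharTwo.add_self_eq_zero]
    have hinv : (A.1.1)ᵀ * M * A.1.1 = M := by
      have h1 : LinearMap.BilinForm.comp (QuadraticMap.polarBilin Q) (Matrix.toLin' A.1.1) (Matrix.toLin' A.1.1) = QuadraticMap.polarBilin Q :=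
        LinearMap.ext fun x => LinearMap.ext fun y => by
          show QuadraticMap.polar Q (Matrix.toLin' A.1.1 x) (Matrix.toLin' A.1.1 y) = QuadraticMap.polar Q x y
          rw [Matrix.toLin'_apply, Matrix.toLin'_apply]
          exact CfsgLib.Perm.Trans.Quad.iso_pol A.2 x y
      have h2 := congrArg LinearMap.BilinForm.toMatrix' h1
      rwa [LinearMap.BilinForm.toMatrix'_comp, LinearMap.toMatrix'_toLin', ← hM] at h2
    obtain ⟨i, rfl⟩ := hj
    refine count_parity_of_conj d e hA _ (by omega) ?_ ?_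
    · rw [show 2 * i + 1 - 1 = 2 * i by omega]; exact even_rank_even_pow hM0 hMa hinv i
    · rw [show 2 * i + 1 + 1 = 2 * (i + 1) by ring]; exact even_rank_even_pow hM0 hMa hinv (i + 1)
  · intro h
    classical
    obtain ⟨G, hG0, hGa, hGi⟩ := exists_alt (F := F) d h
    obtain ⟨e⟩ : Nonempty (((k : Fin t) × Fin (d k)) ≃ Fin (2 * m)) := ⟨Fintype.equivOfCardEq (by simp [hsum])⟩
    obtain ⟨H, hH⟩ : ∃ H, H = Matrix.reindex e e G := ⟨_, rfl⟩
    obtain ⟨R, hR⟩ : ∃ R, R = Matrix.reindex e e (Cfsg.jordanTypeMatrix d F) := ⟨_, rfl⟩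
    have hH0 : H.det ≠ 0 := by rw [hH, Matrix.det_reindex_self]; exact hG0
    have hHa : ∀ x, x ⬝ᵥ (H *ᵥ x) = 0 := hH ▸ reindex_alt e hGa
    have hHR : Rᵀ * H * R = H := by rw [hH, hR]; exact reindex_inv d e hGi
    obtain ⟨hHd, hHs⟩ := diag_of_alt hHa
    obtain ⟨U0, hU0⟩ : ∃ U0 : Matrix (Fin (2 * m)) (Fin (2 * m)) F, U0 = Matrix.of fun i j => if i < j then H i j else 0 :=
      ⟨_, rfl⟩
    have hsw : ∀ i j, H j i = H i j := fun i j => by
      have := congrFun (congrFun hHs i) j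
      rwa [Matrix.transpose_apply, Matrix.neg_apply, CharTwo.neg_eq] at this
    have hU0H : U0 + U0ᵀ = H := by
      ext i j
      rw [hU0, Matrix.add_apply, Matrix.transpose_apply, Matrix.of_apply, Matrix.of_apply]
      rcases lt_trichotomy i j with hlt | rfl | hlt
      · rw [if_pos hlt, if_neg (not_lt.2 hlt.le), add_zero]
      · rw [if_neg (lt_irrefl i), add_zero, hHd]
      · rw [if_neg (not_lt.2 hlt.le), if_pos hlt, zero_add, hsw]
    -- the diagonal correction
    obtain ⟨f, hf⟩ : ∃ f : ((k : Fin t) × Fin (d k)) → F, f = fun p => (Rᵀ * U0 * R - U0) (e p) (e p) := ⟨_, rfl⟩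
    obtain ⟨c, hc⟩ : ∃ c : ((k : Fin t) × Fin (d k)) → F, c = fun p =>
        if h : 0 < (p.2 : ℕ) then f ⟨p.1, ⟨(p.2 : ℕ) - 1, by omega⟩⟩ else 0 := ⟨_, rfl⟩
    obtain ⟨U, hU⟩ : ∃ U, U = U0 + Matrix.diagonal (fun i => c (e.symm i)) := ⟨_, rfl⟩
    obtain ⟨Q, hQ⟩ : ∃ Q : QuadraticForm F (Fin (2 * m) → F), Q = LinearMap.BilinMap.toQuadraticMap (Matrix.toBilin' U) :=
      ⟨_, rfl⟩
    have hQv : ∀ x, Q x = x ⬝ᵥ (U *ᵥ x) := fun x => by rw [hQ, LinearMap.BilinMap.toQuadraticMap_apply, Matrix.toBilin'_apply']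
    have hUH : U + Uᵀ = H := by
      rw [hU, Matrix.transpose_add, Matrix.diagonal_transpose, add_add_add_comm, Matrix.diagonal_add]
      simp [CharTwo.add_self_eq_zero, hU0H]
    have hpol : ∀ x y, QuadraticMap.polar Q x y = x ⬝ᵥ (H *ᵥ y) := fun x y => by
      simp only [QuadraticMap.polar, hQv, ← hUH, Matrix.mulVec_add, Matrix.add_mulVec, add_dotProduct, dotProduct_add]
      have : x ⬝ᵥ (Uᵀ *ᵥ y) = y ⬝ᵥ (U *ᵥ x) := by
        rw [Matrix.mulVec_transpose, dotProduct_comm, ← Matrix.dotProduct_mulVec]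
      rw [this]; ring
    have hb : QuadraticMap.polarBilin Q = Matrix.toBilin' H := LinearMap.ext fun x => LinearMap.ext fun y => by
      show QuadraticMap.polar Q x y = _
      rw [hpol, Matrix.toBilin'_apply']
    have hRu : IsUnit R.det := by
      have h1 := congrArg Matrix.det hHR
      rw [det_mul] at h1
      exact isUnit_of_mul_isUnit_right (h1 ▸ isUnit_iff_ne_zero.2 hH0)
    obtain ⟨g, hg⟩ := (Matrix.isUnit_iff_isUnit_det _).2 hRu
    have hJcol : ∀ p x : (k : Fin t) × Fin (d k), Cfsg.jordanTypeMatrix d F x p =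
        (if x = p then 1 else 0) + if x.1 = p.1 ∧ (x.2 : ℕ) = p.2 + 1 then 1 else 0 := by
      intro p x
      have := sub_one_pow_apply (F := F) d 1 x p
      rw [pow_one, Matrix.sub_apply, Matrix.one_apply, sub_eq_iff_eq_add] at this
      rw [this, add_comm]
    have hdiag : ∀ p, (Rᵀ * U * R - U) (e p) (e p) = 0 := by
      intro p
      have hD : (Rᵀ * Matrix.diagonal (fun i => c (e.symm i)) * R) (e p) (e p) =
          ∑ x, c x * (Cfsg.jordanTypeMatrix d F x p) ^ 2 := by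
        rw [mul_assoc, Matrix.mul_apply, ← e.sum_comp]
        refine Finset.sum_congr rfl fun x _ => ?_
        rw [Matrix.diagonal_mul, Matrix.transpose_apply, hR]
        simp [sq, mul_comm, mul_assoc, mul_left_comm]
      have hsum2 : ∑ x, c x * (Cfsg.jordanTypeMatrix d F x p) ^ 2 = c p + f p := by
        have hsq : ∀ x, c x * (Cfsg.jordanTypeMatrix d F x p) ^ 2 = c x * (if x = p then 1 else 0) +
            c x * (if x.1 = p.1 ∧ (x.2 : ℕ) = p.2 + 1 then 1 else 0) := fun x => by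
          rw [hJcol]
          split_ifs with h1 h2
          · exfalso
            obtain ⟨-, h3⟩ := h2
            rw [h1] at h3
            omega
          all_goals simp
        simp only [hsq, Finset.sum_add_distrib]
        rw [Finset.sum_eq_single p (fun x _ hx => by rw [if_neg hx, mul_zero]) (by simp), if_pos rfl, mul_one]
        congr 1
        obtain ⟨k, i⟩ := p
        by_cases hlt : (i : ℕ) + 1 < d k
        · rw [Finset.sum_eq_single (⟨k, ⟨i + 1, hlt⟩⟩ : (k : Fin t) × Fin (d k)) (fun x _ hx => by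
            rw [if_neg, mul_zero]
            rintro ⟨e1, e2⟩
            obtain ⟨kx, ix⟩ := x
            subst e1
            exact hx (by rw [Sigma.mk.inj_iff]; exact ⟨rfl, heq_of_eq (Fin.ext e2)⟩)) (by simp),
            if_pos ⟨rfl, rfl⟩, mul_one, hc]
          simp
        · rw [Finset.sum_eq_zero fun x _ => by
            rw [if_neg, mul_zero]
            rintro ⟨e1, e2⟩
            have hdd : d x.1 = d k := congrArg d e1
            have := x.2.isLt
            simp only at e2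
            omega]
          -- the last vector of a block is fixed
          have hfix : ∀ x, R x (e ⟨k, i⟩) = if x = e ⟨k, i⟩ then 1 else 0 := fun x => by
            obtain ⟨y, rfl⟩ := e.surjective x
            rw [hR, Matrix.reindex_apply, Matrix.submatrix_apply, e.symm_apply_apply, e.symm_apply_apply, hJcol,
              if_neg (show ¬ (y.1 = k ∧ (y.2 : ℕ) = i + 1) from fun ⟨e1, e2⟩ => by
                have hdd : d y.1 = d k := congrArg d e1
                have := y.2.isLt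
                omega), add_zero]
            simp
          rw [hf]
          simp only
          rw [Matrix.sub_apply, mul_assoc, Matrix.mul_apply, Finset.sum_eq_single (e ⟨k, i⟩) (fun x _ hx => by
              rw [Matrix.transpose_apply, hfix, if_neg hx, zero_mul]) (by simp), Matrix.transpose_apply, hfix, if_pos rfl,
            one_mul, Matrix.mul_apply, Finset.sum_eq_single (e ⟨k, i⟩) (fun x _ hx => by rw [hfix, if_neg hx, mul_zero])
              (by simp), hfix, if_pos rfl, mul_one, sub_self]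
      have hf' : (Rᵀ * U0 * R) (e p) (e p) - U0 (e p) (e p) = f p := by rw [hf]; rfl
      rw [hU, mul_add, add_mul, Matrix.sub_apply, Matrix.add_apply, Matrix.add_apply, hD, hsum2,
        Matrix.diagonal_apply_eq, e.symm_apply_apply]
      have := CharTwo.add_self_eq_zero (f p)
      linear_combination hf' + this
    refine ⟨Q, ?_, e, ⟨g, CfsgLib.Perm.Trans.Quad.mem_iso.2 fun x => ?_⟩, ?_⟩
    · rw [hb]; exact LinearMap.BilinForm.nondegenerate_toBilin'_iff_det_ne_zero.2 hH0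
    · show Q ((g : Matrix (Fin (2 * m)) (Fin (2 * m)) F) *ᵥ x) = Q x
      have hx : Q ((g : Matrix (Fin (2 * m)) (Fin (2 * m)) F) *ᵥ x) - Q x = x ⬝ᵥ ((Rᵀ * U * R - U) *ᵥ x) := by
        rw [hQv, hQv, hg, Matrix.sub_mulVec, dotProduct_sub, ← Matrix.mulVec_mulVec, ← Matrix.mulVec_mulVec,
          Matrix.dotProduct_mulVec x Rᵀ, Matrix.vecMul_transpose]
      rw [← sub_eq_zero, hx]
      refine alt_of_diag ?_ (fun i => by obtain ⟨p, rfl⟩ := e.surjective i; exact hdiag p) x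
      have hneg : -(Rᵀ * U * R - U) = Rᵀ * U * R - U := Matrix.ext fun a b => CharTwo.neg_eq _
      rw [hneg, Matrix.transpose_sub, Matrix.transpose_mul, Matrix.transpose_mul, Matrix.transpose_transpose, ← mul_assoc]
      have e1 : Rᵀ * Uᵀ * R + Rᵀ * U * R = Uᵀ + U := by
        rw [← add_mul, ← mul_add, add_comm Uᵀ, hUH, hHR]
      ext a b
      have e2 := congrFun (congrFun e1 a) b
      simp only [Matrix.add_apply, Matrix.sub_apply] at e2 ⊢
      rw [CharTwo.sub_eq_add, CharTwo.sub_eq_add]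
      have h3 := CharTwo.add_self_eq_zero ((Rᵀ * U * R) a b + Uᵀ a b)
      linear_combination e2 + CharTwo.add_self_eq_zero (Uᵀ a b) - CharTwo.add_self_eq_zero ((Rᵀ * U * R) a b)
    · show IsConj _ (g : Matrix (Fin (2 * m)) (Fin (2 * m)) F)
      rw [hg, hR]

end CfsgLib.GLClass.JordanForms
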