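import Cfsg.Agent.Lib.GLClass.JordanForms
import Cfsg.Agent.Lib.IsometryConj.Symplectic
import Cfsg.Prelude.Def_Classical

/-!
# Jordan types of symplectic and orthogonal groups
-/

set_option autoImplicit false
set_option linter.all false

namespace CfsgLib.GLClass.JordanForms

open Matrix Module

variable {F : Type*} [Field F] {t : ℕ} (d : Fin t → ℕ)

theorem altG_diag (k i : ℕ) : altG F k i i = 0 := by
  unfold altG
  split_ifs with h
  · rw [show ((k : ℤ) - 1 - (i : ℕ)) = ((k - 1 - i : ℕ) : ℤ) by omega, Ring.choose_natCast,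
      Nat.choose_eq_zero_of_lt (by omega)]
    simp
  · rfl

theorem exists_pairing (good : ℕ → Prop)
    (h : ∀ j, ¬ good j → Even (Finset.univ.filter (fun k : Fin t => d k = j)).card) :
    ∃ π : Equiv.Perm (Fin t), (∀ k, π (π k) = k) ∧ (∀ k, d (π k) = d k) ∧ ∀ k, π k = k → good (d k) := by
  classical
  have hσ : ∀ j, ∃ σ : Equiv.Perm {k // d k = j}, (∀ x, σ (σ x) = x) ∧ ∀ x, σ x = x → good j := by
    intro j
    by_cases hg : good j
    · exact ⟨1, fun x => rfl, fun _ _ => hg⟩
    · obtain ⟨l, hl⟩ := h j hg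
      obtain ⟨e⟩ : Nonempty ({k // d k = j} ≃ Fin l × Bool) := ⟨Fintype.equivOfCardEq (by
        rw [Fintype.card_subtype, hl]; simp; omega)⟩
      refine ⟨e.symm.permCongr (Equiv.prodCongr (Equiv.refl _) Equiv.boolNot), fun x => ?_, fun x hx => ?_⟩
      · simp [Equiv.permCongr_apply, Prod.map, Equiv.boolNot]
      · exfalso
        have := congrArg e hx
        simp [Equiv.permCongr_apply, Prod.ext_iff] at this
  choose σ hσ1 hσ2 using hσ
  refine ⟨(Equiv.sigmaFiberEquiv d).permCongr (Equiv.sigmaCongrRight σ), fun k => ?_, fun k => ?_, fun k hk => ?_⟩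
  · simp [Equiv.permCongr_apply, Equiv.sigmaFiberEquiv, hσ1]
    have := (σ (d k) ⟨k, rfl⟩).2
    obtain ⟨y, hy⟩ : ∃ y, σ (d k) ⟨k, rfl⟩ = y := ⟨_, rfl⟩
    have key : ∀ j (hj : d y.1 = j) (z : {k // d k = j}), z.1 = y.1 → (σ j z).1 = (σ (d y.1) ⟨y.1, rfl⟩).1 := by
      rintro _ rfl z hz
      rw [show z = ⟨y.1, rfl⟩ from Subtype.ext hz]
    have h2 := key (d k) y.2 y rfl
    rw [← hy, hσ1] at h2
    exact h2.symm
  · simp only [Equiv.permCongr_apply, Equiv.sigmaFiberEquiv, Equiv.coe_fn_mk, Equiv.coe_fn_symm_mk,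
      Equiv.sigmaCongrRight_apply]
    exact (σ (d k) ⟨k, rfl⟩).2
  · refine hσ2 (d k) ⟨k, rfl⟩ (Subtype.ext ?_)
    simpa [Equiv.permCongr_apply, Equiv.sigmaFiberEquiv] using hk

/-- the Gram matrix assembled from a pairing and forms on the fixed blocks -/
def typeGram (π : Equiv.Perm (Fin t)) (S : ℕ → ℕ → ℕ → F) (ε : F) :
    Matrix ((k : Fin t) × Fin (d k)) ((k : Fin t) × Fin (d k)) F :=
  Matrix.of fun p q => if q.1 = π p.1 then
    (if π p.1 = p.1 then S (d p.1) p.2 q.2 else if p.1 < π p.1 then pairG F (d p.1) p.2 q.2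
      else ε * pairG F (d p.1) q.2 p.2) else 0

/-- the block function of a part -/
def blk (π : Equiv.Perm (Fin t)) (S : ℕ → ℕ → ℕ → F) (ε : F) (k : Fin t) (i j : ℕ) : F :=
  if π k = k then S (d k) i j else if k < π k then pairG F (d k) i j else ε * pairG F (d k) j i

variable {π : Equiv.Perm (Fin t)} {S : ℕ → ℕ → ℕ → F} {ε : F} {good : ℕ → Prop}

theorem typeGram_apply (p q : (k : Fin t) × Fin (d k)) :
    typeGram d π S ε p q = if q.1 = π p.1 then blk d π S ε p.1 p.2 q.2 else 0 := rfl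

variable (hπ1 : ∀ k, π (π k) = k) (hπ2 : ∀ k, d (π k) = d k) (hπ3 : ∀ k, π k = k → good (d k))
  (hS : ∀ n, good n → BlockForm n (S n)) (hε : ε * ε = 1)
include hπ1 hπ2 hπ3 hS hε

theorem blk_form (k : Fin t) : BlockForm (d k) (blk d π S ε k) := by
  have hε0 : ε ≠ 0 := left_ne_zero_of_mul_eq_one hε
  unfold blk
  by_cases h : π k = k
  · simp only [if_pos h]; exact hS _ (hπ3 k h)
  · simp only [if_neg h]
    by_cases h' : k < π k
    · simp only [if_pos h']; exact pairG_form _
    · simp only [if_neg h']; exact (pairG_form _).flip hε0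

theorem typeGram_transpose (hsym : ∀ n, good n → ∀ i j, S n j i = ε * S n i j) :
    (typeGram d π S ε)ᵀ = ε • typeGram d π S ε := by
  ext p q
  rw [Matrix.transpose_apply, Matrix.smul_apply, typeGram_apply, typeGram_apply, smul_eq_mul]
  by_cases h : q.1 = π p.1
  · have h' : p.1 = π q.1 := by rw [h, hπ1]
    rw [if_pos h', if_pos h]
    have hd : d q.1 = d p.1 := by rw [h, hπ2]
    generalize (p.2 : ℕ) = a
    generalize (q.2 : ℕ) = b
    unfold blk
    by_cases hfix : π p.1 = p.1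
    · rw [if_pos hfix, if_pos (show π q.1 = q.1 by rw [h, hfix, hfix]), hd]
      exact hsym _ (hπ3 _ hfix) _ _
    · have hfix' : ¬ π q.1 = q.1 := fun e => hfix (by rw [h, hπ1] at e; exact e.symm)
      rw [if_neg hfix, if_neg hfix', hd]
      by_cases hlt : p.1 < π p.1
      · rw [if_pos hlt, if_neg (show ¬ q.1 < π q.1 by rw [h, hπ1]; exact not_lt.2 hlt.le)]
      · have : π p.1 < p.1 := lt_of_le_of_ne (not_lt.1 hlt) hfix
        rw [if_neg hlt, if_pos (show q.1 < π q.1 by rw [h, hπ1]; exact this), ← mul_assoc, hε, one_mul]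
  · rw [if_neg (show ¬ p.1 = π q.1 from fun e => h (by rw [e, hπ1])), if_neg h, mul_zero]

theorem typeGram_inv :
    (Cfsg.jordanTypeMatrix d F)ᵀ * typeGram d π S ε * Cfsg.jordanTypeMatrix d F = typeGram d π S ε := by
  classical
  obtain ⟨G, hG⟩ : ∃ G, G = typeGram d π S ε := ⟨_, rfl⟩
  rw [← hG]
  have hJ : ∀ p q : (k : Fin t) × Fin (d k), Cfsg.jordanTypeMatrix d F p q =
      (if p = q then 1 else 0) + if p.1 = q.1 ∧ (p.2 : ℕ) = q.2 + 1 then 1 else 0 := by
    intro p q
    have := sub_one_pow_apply (F := F) d 1 p q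
    rw [pow_one, Matrix.sub_apply, Matrix.one_apply, sub_eq_iff_eq_add] at this
    rw [this, add_comm]
  have hGv : ∀ p q, G p q = if q.1 = π p.1 then blk d π S ε p.1 p.2 q.2 else 0 := fun p q => hG ▸ rfl
  have hF := blk_form d hπ1 hπ2 hπ3 hS hε
  have hright : ∀ p q, (G * Cfsg.jordanTypeMatrix d F) p q =
      if q.1 = π p.1 then blk d π S ε p.1 p.2 q.2 + blk d π S ε p.1 p.2 ((q.2 : ℕ) + 1) else 0 := by
    intro p q
    rw [Matrix.mul_apply]
    simp only [hJ, mul_add, Finset.sum_add_distrib]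
    rw [Finset.sum_eq_single q (fun x _ hx => by rw [if_neg hx, mul_zero]) (by simp), if_pos rfl, mul_one]
    obtain ⟨k', i'⟩ := q
    by_cases hlt : (i' : ℕ) + 1 < d k'
    · rw [Finset.sum_eq_single (⟨k', ⟨i' + 1, hlt⟩⟩ : (k : Fin t) × Fin (d k)) (fun x _ hx => by
        rw [if_neg, mul_zero]
        rintro ⟨e1, e2⟩
        obtain ⟨kx, ix⟩ := x
        subst e1
        exact hx (by rw [Sigma.mk.inj_iff]; exact ⟨rfl, heq_of_eq (Fin.ext e2)⟩)) (by simp),
        if_pos ⟨rfl, rfl⟩, mul_one, hGv, hGv]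
      simp only
      split_ifs <;> simp
    · rw [Finset.sum_eq_zero fun x _ => by
        rw [if_neg, mul_zero]
        rintro ⟨e1, e2⟩
        have hd : d x.1 = d k' := congrArg d e1
        have := x.2.isLt
        simp only at e2
        omega, add_zero, hGv]
      simp only
      split_ifs with h
      · rw [(hF p.1).zero (p.2 : ℕ) ((i' : ℕ) + 1) (by
          have := hπ2 p.1; rw [← h] at this; omega), add_zero]
      · rfl
  ext p q
  rw [mul_assoc, Matrix.mul_apply]
  simp only [Matrix.transpose_apply, hJ, add_mul, Finset.sum_add_distrib]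
  rw [Finset.sum_eq_single p (fun x _ hx => by rw [if_neg hx, zero_mul]) (by simp), if_pos rfl, one_mul]
  obtain ⟨k, i⟩ := p
  by_cases hlt : (i : ℕ) + 1 < d k
  · rw [Finset.sum_eq_single (⟨k, ⟨i + 1, hlt⟩⟩ : (k : Fin t) × Fin (d k)) (fun x _ hx => by
      rw [if_neg, zero_mul]
      rintro ⟨e1, e2⟩
      obtain ⟨kx, ix⟩ := x
      subst e1
      exact hx (by rw [Sigma.mk.inj_iff]; exact ⟨rfl, heq_of_eq (Fin.ext e2)⟩)) (by simp),
      if_pos ⟨rfl, rfl⟩, one_mul, hright, hright, hGv]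
    simp only
    split_ifs with h
    · linear_combination (hF k).inv (i : ℕ) (q.2 : ℕ)
    · simp
  · rw [Finset.sum_eq_zero fun x _ => by
      rw [if_neg, zero_mul]
      rintro ⟨e1, e2⟩
      have hd : d x.1 = d k := congrArg d e1
      have := x.2.isLt
      simp only at e2
      omega, add_zero, hright, hGv]
    simp only
    split_ifs with h
    · have h0 : ∀ j, blk d π S ε k ((i : ℕ) + 1) j = 0 := fun j => (hF k).zero _ _ (by omega)
      have := (hF k).inv (i : ℕ) (q.2 : ℕ)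
      rw [h0, h0, zero_add, add_zero] at this
      rw [this, add_zero]
    · rfl

theorem typeGram_det : (typeGram d π S ε).det ≠ 0 := by
  classical
  intro h0
  obtain ⟨x, hx, hx0⟩ := Matrix.exists_mulVec_eq_zero_iff.2 h0
  have hF := blk_form d hπ1 hπ2 hπ3 hS hε
  have key : ∀ s, ∀ q : (k : Fin t) × Fin (d k), (q.2 : ℕ) = s → x q = 0 := by
    intro s
    induction s using Nat.strong_induction_on with
    | _ s ih =>
      rintro ⟨k', j⟩ hj
      simp only at hj
      have hd : d (π k') = d k' := hπ2 k'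
      obtain ⟨p, hp⟩ : ∃ p : (k : Fin t) × Fin (d k), p = ⟨π k', ⟨d k' - 1 - j, by omega⟩⟩ := ⟨_, rfl⟩
      have h := congrFun hx0 p
      rw [Pi.zero_apply, Matrix.mulVec, dotProduct, Finset.sum_eq_single (⟨k', j⟩ : (k : Fin t) × Fin (d k))] at h
      · rw [typeGram_apply, if_pos (by rw [hp]; exact (hπ1 k').symm)] at h
        refine (mul_eq_zero.1 h).resolve_left ((hF _).anti _ _ ?_)
        rw [hp]; simp only; omega
      · rintro ⟨k, i⟩ - hne
        rw [typeGram_apply]
        split_ifs with h1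
        · have hk : k = k' := by rw [hp] at h1; simp only at h1; rw [h1, hπ1]
          subst hk
          by_cases hlt : (i : ℕ) < j
          · rw [ih i (by omega) ⟨k, i⟩ rfl, mul_zero]
          · have : (j : ℕ) ≠ i := fun e => hne (congrArg (Sigma.mk k) (Fin.ext e.symm))
            rw [(hF _).zero _ _ (by rw [hp]; simp only; omega), zero_mul]
        · rw [zero_mul]
      · simp
  exact hx (funext fun q => key _ q rfl)

omit hπ1 hπ2 hπ3 hS hε in
/-- alternating invariant forms exist exactly for types whose odd parts come in pairs -/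
theorem exists_alt (h : ∀ j : ℕ, Odd j → Even (Finset.univ.filter (fun k : Fin t => d k = j)).card) :
    ∃ G : Matrix ((k : Fin t) × Fin (d k)) ((k : Fin t) × Fin (d k)) F, G.det ≠ 0 ∧ (∀ x, x ⬝ᵥ (G *ᵥ x) = 0) ∧
      (Cfsg.jordanTypeMatrix d F)ᵀ * G * Cfsg.jordanTypeMatrix d F = G := by
  classical
  obtain ⟨π, h1, h2, h3⟩ := exists_pairing d Even fun j hj => h j (Nat.not_even_iff_odd.1 hj)
  have hS : ∀ n, Even n → BlockForm n ((fun n => altG F (n / 2)) n) := by
    rintro n ⟨k, rfl⟩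
    simpa [show (k + k) / 2 = k by omega, ← two_mul] using altG_form (F := F) k
  have hε : (-1 : F) * -1 = 1 := by ring
  refine ⟨typeGram d π (fun n => altG F (n / 2)) (-1), typeGram_det d h1 h2 h3 hS hε, alt_of_diag ?_ ?_,
    typeGram_inv d h1 h2 h3 hS hε⟩
  · rw [typeGram_transpose d h1 h2 h3 hS hε (fun n _ i j => by rw [altG_skew, neg_one_mul]), neg_one_smul]
  · intro p
    rw [typeGram_apply]
    split_ifs with hp
    · rw [blk, if_pos hp.symm]; exact altG_diag _ _
    · rfl

omit hπ1 hπ2 hπ3 hS hε in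
/-- symmetric invariant forms exist when even parts come in pairs -/
theorem exists_sym (h2F : (2 : F) ≠ 0) (hd : ∀ k, 1 ≤ d k)
    (h : ∀ j : ℕ, Even j → 0 < j → Even (Finset.univ.filter (fun k : Fin t => d k = j)).card) :
    ∃ G : Matrix ((k : Fin t) × Fin (d k)) ((k : Fin t) × Fin (d k)) F, G.det ≠ 0 ∧ Gᵀ = G ∧
      (Cfsg.jordanTypeMatrix d F)ᵀ * G * Cfsg.jordanTypeMatrix d F = G := by
  classical
  obtain ⟨π, h1, h2, h3⟩ := exists_pairing d Odd fun j hj => by
    rcases Nat.eq_zero_or_pos j with rfl | hj0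
    · rw [Finset.filter_false_of_mem (fun k _ => by have := hd k; omega)]; simp
    · exact h j (Nat.not_odd_iff_even.1 hj) hj0
  have hS : ∀ n, Odd n → BlockForm n (symG F n) := fun n hn => symG_form h2F hn
  have hε : (1 : F) * 1 = 1 := one_mul 1
  refine ⟨typeGram d π (symG F) 1, typeGram_det d h1 h2 h3 hS hε, ?_, typeGram_inv d h1 h2 h3 hS hε⟩
  rw [typeGram_transpose d h1 h2 h3 hS hε (fun n _ i j => by rw [one_mul, symG, symG, add_comm]), one_smul]

end CfsgLib.GLClass.JordanForms
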