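import Mathlib

/-!
Semilinear injective maps over an algebraically closed field are spanned by their fixed points
(the Lang-Steinberg theorem for `GL_n`).
-/

set_option autoImplicit false

namespace CfsgLib.GLClass

open Polynomial Module

variable {K : Type*} [Field K] [IsAlgClosed K] {σ : K →+* K} [RingHomSurjective σ]

theorem exists_root_ne_zero {q : ℕ} (Q : K[X]) (hdeg : Q.natDegree = q) (hq : 2 ≤ q)
    (h0 : Q.eval 0 = 0) (h1 : Q.derivative.eval 0 ≠ 0) : ∃ t : K, t ≠ 0 ∧ Q.eval t = 0 := by
  have hQ : Q ≠ 0 := fun h => by simp [h] at hdeg; omega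
  obtain ⟨R, rfl⟩ := (X_dvd_iff.2 (by rwa [coeff_zero_eq_eval_zero]) : X ∣ Q)
  have hR : R ≠ 0 := right_ne_zero_of_mul hQ
  rw [natDegree_mul X_ne_zero hR, natDegree_X] at hdeg
  obtain ⟨t, ht⟩ := IsAlgClosed.exists_root R (by
    rw [degree_eq_natDegree hR]; exact_mod_cast (show R.natDegree ≠ 0 by omega))
  refine ⟨t, fun h => h1 ?_, by simp [ht.eq_zero]⟩
  subst h
  simp [derivative_mul, ht.eq_zero]

variable {p : ℕ} [Fact p.Prime] [CharP K p] {f : ℕ}
  {V : Type*} [AddCommGroup V] [Module K V] [FiniteDimensional K V]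

/-- A nonzero space has a nonzero fixed point. -/
theorem exists_fixed (hf : 1 ≤ f) (hσ : ∀ x, σ x = x ^ p ^ f) (T : V →ₛₗ[σ] V)
    (hT : Function.Injective T) {v : V} (hv : v ≠ 0) : ∃ w : V, w ≠ 0 ∧ T w = w := by
  classical
  set q := p ^ f with hq
  have hp : p.Prime := Fact.out
  have hq2 : 2 ≤ q := hp.two_le.trans (Nat.le_self_pow (by omega) p)
  let u : ℕ → V := fun i => T^[i] v
  have hu : ∀ i, T (u i) = u (i + 1) := fun i => by simp [u, Function.iterate_succ_apply']
  have hex : ∃ m, ¬ LinearIndependent K (fun i : Fin m => u i) := by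
    refine ⟨finrank K V + 1, fun h => ?_⟩
    simpa using h.fintype_card_le_finrank
  obtain ⟨n, hn⟩ : ∃ n, Nat.find hex = n + 1 := by
    refine Nat.exists_eq_add_one_of_ne_zero fun h => ?_
    exact (h ▸ Nat.find_spec hex) linearIndependent_empty_type
  have hind : LinearIndependent K (fun i : Fin n => u i) := by
    by_contra h
    exact Nat.find_min hex (by omega) h
  have hn0 : n ≠ 0 := by
    rintro rfl
    haveI : Unique (Fin (0 + 1)) := inferInstanceAs (Unique (Fin 1))
    refine (hn ▸ Nat.find_spec hex) (linearIndependent_unique_iff.2 ?_)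
    simpa [u] using hv
  have hmem : u n ∈ Submodule.span K (Set.range fun i : Fin n => u i) := by
    by_contra h
    refine (hn ▸ Nat.find_spec hex) ?_
    rw [linearIndependent_finSucc']
    exact ⟨hind, h⟩
  obtain ⟨c, hc⟩ := (Submodule.mem_span_range_iff_exists_fun K).1 hmem
  obtain ⟨n, rfl⟩ := Nat.exists_eq_add_one_of_ne_zero hn0
  have hc0 : c 0 ≠ 0 := by
    intro h0
    choose d hd using fun i : Fin n => RingHom.surjective σ (c i.succ)
    have h1 : u (n + 1) = T (∑ i : Fin n, d i • u i) := by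
      rw [← hc, Fin.sum_univ_succ, h0, zero_smul, zero_add, map_sum]
      exact Finset.sum_congr rfl fun i _ => by rw [map_smulₛₗ, hd, hu]; simp
    rw [← hu] at h1
    have h2 := hT h1
    have h3 : u (Fin.last n : ℕ) ∈
        Submodule.span K ((fun i : Fin (n + 1) => u i) '' {i | i ≠ Fin.last n}) := by
      rw [Fin.val_last, h2]
      exact Submodule.sum_smul_mem _ _ fun i _ => Submodule.subset_span
        ⟨i.castSucc, (Fin.castSucc_lt_last i).ne, rfl⟩
    exact hind.notMem_span_image (s := {i | i ≠ Fin.last n}) (x := Fin.last n) (by simp) h3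
  let c' : ℕ → K := fun i => if h : i < n + 1 then c ⟨i, h⟩ else 0
  let P : ℕ → K[X] := fun i => Nat.rec (C (c' 0) * X ^ q)
    (fun j Pj => Pj ^ q + C (c' (j + 1)) * X ^ q) i
  have hP0 : P 0 = C (c' 0) * X ^ q := rfl
  have hPS : ∀ j, P (j + 1) = P j ^ q + C (c' (j + 1)) * X ^ q := fun j => rfl
  have hc'0 : c' 0 ≠ 0 := by simpa [c'] using hc0
  have hdeg : ∀ i, (P i).natDegree = q ^ (i + 1) := by
    intro i
    induction i with
    | zero => rw [hP0, natDegree_C_mul_X_pow q _ hc'0, pow_one]
    | succ i ih =>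
      rw [hPS, natDegree_add_eq_left_of_natDegree_lt]
      · rw [natDegree_pow, ih, pow_succ']
        ring
      · rw [natDegree_pow, ih]
        refine lt_of_le_of_lt (natDegree_C_mul_X_pow_le _ _) ?_
        calc q < q * q := lt_mul_of_one_lt_left (by omega) (by omega)
          _ ≤ q * q ^ (i + 1) := Nat.mul_le_mul_left q (Nat.le_self_pow (by omega) q)
  have hq0 : (q : K) = 0 := by
    rw [CharP.cast_eq_zero_iff K p]
    exact dvd_pow_self p (by omega)
  have hder : ∀ i, (P i).derivative = 0 := by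
    intro i
    induction i with
    | zero => simp only [hP0, derivative_C_mul, derivative_X_pow, hq0, C_0, zero_mul, mul_zero]
    | succ i ih => simp only [hPS, derivative_add, derivative_pow, derivative_C_mul,
        derivative_X_pow, hq0, C_0, zero_mul, mul_zero, add_zero, ih]
  have hev : ∀ i, (P i).eval 0 = 0 := by
    intro i
    induction i with
    | zero => simp [hP0, zero_pow (show q ≠ 0 by omega)]
    | succ i ih => simp [hPS, ih, zero_pow (show q ≠ 0 by omega)]
  have hbig : 1 < q ^ (n + 1) := Nat.one_lt_pow (by omega) (by omega)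
  obtain ⟨t, ht0, ht⟩ := exists_root_ne_zero (P n - X) (q := q ^ (n + 1))
    (by rw [natDegree_sub_eq_left_of_natDegree_lt (by rw [natDegree_X, hdeg]; exact hbig), hdeg])
    (by omega) (by simp [hev]) (by simp [hder])
  rw [eval_sub, eval_X, sub_eq_zero] at ht
  let a : ℕ → K := fun i => (P i).eval t
  refine ⟨∑ i : Fin (n + 1), a i • u i, fun h => ht0 ?_, ?_⟩
  · have h1 := Fintype.linearIndependent_iff.1 hind (fun i => a i) h (Fin.last n)
    rwa [Fin.val_last, show a n = t from ht] at h1
  · rw [map_sum]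
    have h1 : ∀ i : Fin (n + 1), T (a i • u i) = (a i) ^ q • u (i + 1) := fun i => by
      rw [map_smulₛₗ, hσ, hu]
    rw [Finset.sum_congr rfl fun i _ => h1 i, Fin.sum_univ_castSucc, Fin.val_last, ← hc,
      show a n = t from ht, Finset.smul_sum, Fin.sum_univ_succ
      (f := fun i : Fin (n + 1) => a i • u i), Fin.sum_univ_succ
      (f := fun i : Fin (n + 1) => t ^ q • c i • u i), ← add_assoc,
      add_comm (∑ i : Fin n, _) (t ^ q • _ • _), add_assoc, ← Finset.sum_add_distrib]
    refine congr_arg₂ _ ?_ (Finset.sum_congr rfl fun i _ => ?_)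
    · simp only [a, hP0, c', smul_smul, eval_mul, eval_C, eval_pow, eval_X, Fin.val_zero]
      rw [dif_pos (by omega), mul_comm]
      rfl
    · simp only [Fin.val_castSucc, Fin.val_succ, smul_smul, ← add_smul]
      congr 1
      simp only [a, hPS, c', eval_add, eval_pow, eval_mul, eval_C, eval_X]
      rw [dif_pos (by omega), mul_comm]
      rfl

/-- The fixed points of an injective semilinear map span. -/
theorem span_fixed_eq_top (hf : 1 ≤ f) (hσ : ∀ x, σ x = x ^ p ^ f) (T : V →ₛₗ[σ] V)
    (hT : Function.Injective T) : Submodule.span K {v | T v = v} = ⊤ := by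
  classical
  set W := Submodule.span K {v | T v = v} with hW
  have hle : W ≤ W.comap T := Submodule.span_le.2 fun v hv =>
    show T v ∈ W from (show T v = v from hv).symm ▸ Submodule.subset_span hv
  have hmap : W ≤ W.map T := Submodule.span_le.2 fun v hv =>
    ⟨v, Submodule.subset_span hv, hv⟩
  let T' : (V ⧸ W) →ₛₗ[σ] (V ⧸ W) := W.mapQ W T hle
  have hT' : Function.Injective T' := by
    refine (injective_iff_map_eq_zero T').2 fun x hx => ?_
    obtain ⟨v, rfl⟩ := W.mkQ_surjective x
    rw [Submodule.mkQ_apply, Submodule.mapQ_apply, Submodule.Quotient.mk_eq_zero] at hx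
    obtain ⟨w, hw, hwv⟩ := hmap hx
    rw [Submodule.mkQ_apply, Submodule.Quotient.mk_eq_zero]
    exact hT hwv ▸ hw
  by_contra hne
  obtain ⟨x, hx⟩ : ∃ x : V ⧸ W, x ≠ 0 := by
    obtain ⟨v, -, hv⟩ := SetLike.exists_of_lt (lt_top_iff_ne_top.2 hne)
    exact ⟨W.mkQ v, fun h => hv ((Submodule.Quotient.mk_eq_zero _).1 h)⟩
  obtain ⟨y, hy0, hy⟩ := exists_fixed hf hσ T' hT' hx
  obtain ⟨u, rfl⟩ := W.mkQ_surjective y
  rw [Submodule.mkQ_apply, Submodule.mapQ_apply, Submodule.Quotient.eq] at hy
  have key : ∀ w ∈ W, ∀ c : K, ∃ b ∈ W, T b - b = c • w := by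
    intro w hw
    induction hw using Submodule.span_induction with
    | mem z hz =>
      intro c
      obtain ⟨b, hb⟩ := IsAlgClosed.exists_root (X ^ p ^ f - X - C c) (by
        have h2 : 1 < p ^ f := Nat.one_lt_pow (by omega) (Fact.out : p.Prime).one_lt
        rw [sub_sub, degree_sub_eq_left_of_degree_lt]
        · rw [degree_X_pow]; exact_mod_cast (show p ^ f ≠ 0 by omega)
        · rw [degree_X_pow, degree_X_add_C]; exact_mod_cast h2)
      refine ⟨b • z, Submodule.smul_mem _ _ (Submodule.subset_span hz), ?_⟩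
      simp only [IsRoot, eval_sub, eval_pow, eval_X, eval_C] at hb
      rw [map_smulₛₗ, hσ, show T z = z from hz, ← sub_smul, sub_eq_zero.1 hb]
    | zero => exact fun c => ⟨0, zero_mem _, by simp⟩
    | add a b _ _ ha hb =>
      intro c
      obtain ⟨x, hx, hxa⟩ := ha c
      obtain ⟨y, hy, hyb⟩ := hb c
      exact ⟨x + y, add_mem hx hy, by rw [map_add, smul_add, ← hxa, ← hyb]; abel⟩
    | smul c a ha' iha =>
      intro d
      obtain ⟨x, hx, hxa⟩ := iha (d * c)
      exact ⟨x, hx, by rw [hxa, mul_smul]⟩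
  obtain ⟨b, hb, hbu⟩ := key _ hy 1
  rw [one_smul] at hbu
  have hfix : T (u - b) = u - b := by
    rw [map_sub, sub_eq_sub_iff_sub_eq_sub, hbu]
  have hmem : u - b ∈ W := Submodule.subset_span hfix
  exact hy0 ((Submodule.Quotient.mk_eq_zero _).2 (by simpa using add_mem hmem hb))

end CfsgLib.GLClass
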