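import Mathlib
import Cfsg.Agent.Lib.GLClass.Unipotent

/-!
The number of nilpotent matrices over a finite field (Fine-Herstein) via pairs (nilpotent, vector).
-/

set_option autoImplicit false

namespace CfsgLib.GLClass

open Matrix Module

variable {F : Type*} [Field F]

/-- The shift on the first `k` coordinates. -/
def lowShift (k : ℕ) (F : Type*) [Field F] : Matrix (Fin k) (Fin k) F :=
  Matrix.of fun i j => if i.val = j.val + 1 then 1 else 0

theorem lowShift_pow (k a : ℕ) :
    lowShift k F ^ a = Matrix.of fun (i j : Fin k) => if i.val = j.val + a then 1 else 0 := by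
  induction a with
  | zero =>
    ext i j
    simp [Matrix.one_apply, Fin.ext_iff]
  | succ a ih =>
    ext i j
    rw [pow_succ, ih, Matrix.mul_apply]
    simp only [lowShift, Matrix.of_apply]
    by_cases hj : j.val + 1 < k
    · rw [Finset.sum_eq_single ⟨j.val + 1, hj⟩]
      · simp [add_assoc, add_comm 1 a]
      · intro l _ hl
        rw [if_neg (c := l.val = j.val + 1) (fun h => hl (Fin.ext h)), mul_zero]
      · simp
    · rw [if_neg (by omega)]
      refine Finset.sum_eq_zero fun l _ => ?_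
      rw [if_neg (c := l.val = j.val + 1) (by omega), mul_zero]

theorem lowShift_pow_self (k : ℕ) : lowShift k F ^ k = 0 := by
  rw [lowShift_pow]
  ext i j
  simp
  omega

variable {k m : ℕ}

theorem fromBlocks_pow (C : Matrix (Fin k) (Fin m) F) (A : Matrix (Fin k) (Fin k) F)
    (D : Matrix (Fin m) (Fin m) F) (a : ℕ) :
    ∃ C', (Matrix.fromBlocks A C 0 D) ^ a = Matrix.fromBlocks (A ^ a) C' 0 (D ^ a) := by
  induction a with
  | zero => exact ⟨0, by simp⟩
  | succ a ih =>
    obtain ⟨C', hC'⟩ := ih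
    refine ⟨A ^ a * C + C' * D, ?_⟩
    rw [pow_succ, hC', Matrix.fromBlocks_multiply, pow_succ, pow_succ]
    simp

theorem isNilpotent_fromBlocks_iff (C : Matrix (Fin k) (Fin m) F) (D : Matrix (Fin m) (Fin m) F) :
    IsNilpotent (Matrix.fromBlocks (lowShift k F) C 0 D) ↔ IsNilpotent D := by
  constructor
  · rintro ⟨a, ha⟩
    obtain ⟨C', hC'⟩ := fromBlocks_pow C (lowShift k F) D a
    rw [hC', ← Matrix.fromBlocks_zero, Matrix.fromBlocks_inj] at ha
    exact ⟨a, ha.2.2.2⟩
  · rintro ⟨a, ha⟩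
    obtain ⟨C', hC'⟩ := fromBlocks_pow C (lowShift k F) D k
    obtain ⟨C'', hC''⟩ := fromBlocks_pow C (lowShift k F) D a
    refine ⟨k + a, ?_⟩
    rw [pow_add, hC', hC'', lowShift_pow_self, ha, Matrix.fromBlocks_multiply]
    simp

/-- The number of nilpotent matrices of size `n`. -/
noncomputable def nilCount (n : ℕ) (F : Type*) [Field F] : ℕ :=
  Nat.card {T : Matrix (Fin n) (Fin n) F // IsNilpotent T}

theorem isNilpotent_equiv {R S : Type*} [Semiring R] [Semiring S] (e : R ≃+* S) (x : R) :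
    IsNilpotent (e x) ↔ IsNilpotent x :=
  ⟨fun h => by simpa using h.map e.symm, fun h => h.map e⟩

/-- The orbit relations of a tuple. -/
def Shifts {n : ℕ} (T : Matrix (Fin n) (Fin n) F) (w : Fin k → Fin n → F) : Prop :=
  ∀ j : Fin k, T *ᵥ w j = if h : j.val + 1 < k then w ⟨j.val + 1, h⟩ else 0

theorem lowShift_col (j : Fin k) (i : Fin k) :
    lowShift k F i j = if h : j.val + 1 < k then (if i = ⟨j.val + 1, h⟩ then 1 else 0) else 0 := by
  simp only [lowShift, Matrix.of_apply]
  split_ifs with h1 h2 h3 <;> simp_all [Fin.ext_iff] <;> omega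

theorem card_block_fibre [Fintype F] (k m : ℕ) :
    Nat.card {T : Matrix (Fin k ⊕ Fin m) (Fin k ⊕ Fin m) F // IsNilpotent T ∧
        T.toBlocks₁₁ = lowShift k F ∧ T.toBlocks₂₁ = 0} =
      Fintype.card F ^ (k * m) * nilCount m F := by
  have e : {T : Matrix (Fin k ⊕ Fin m) (Fin k ⊕ Fin m) F // IsNilpotent T ∧
        T.toBlocks₁₁ = lowShift k F ∧ T.toBlocks₂₁ = 0} ≃
      Matrix (Fin k) (Fin m) F × {D : Matrix (Fin m) (Fin m) F // IsNilpotent D} :=
    { toFun := fun T => (T.1.toBlocks₁₂, ⟨T.1.toBlocks₂₂, by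
        have h := T.2.1
        rw [← Matrix.fromBlocks_toBlocks T.1, T.2.2.1, T.2.2.2, isNilpotent_fromBlocks_iff] at h
        exact h⟩)
      invFun := fun p => ⟨Matrix.fromBlocks (lowShift k F) p.1 0 p.2.1,
        (isNilpotent_fromBlocks_iff _ _).2 p.2.2, by simp, by simp⟩
      left_inv := fun T => Subtype.ext (by
        simp only
        conv_rhs => rw [← Matrix.fromBlocks_toBlocks T.1, T.2.2.1, T.2.2.2])
      right_inv := fun p => by simp }
  rw [Nat.card_congr e, Nat.card_prod, nilCount]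
  congr 1
  rw [show Nat.card (Matrix (Fin k) (Fin m) F) = Nat.card (Fin k → Fin m → F) from rfl,
    Nat.card_fun, Nat.card_fun, Nat.card_fin, Nat.card_fin, Nat.card_eq_fintype_card (α := F),
    ← pow_mul, mul_comm]

theorem card_fibre [Fintype F] (w : Fin k → Fin (k + m) → F) (hw : LinearIndependent F w) :
    Nat.card {T : Matrix (Fin (k + m)) (Fin (k + m)) F // IsNilpotent T ∧ Shifts T w} =
      Fintype.card F ^ (k * m) * nilCount m F := by
  classical
  rw [← card_block_fibre k m]
  let W := Submodule.span F (Set.range w)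
  obtain ⟨U, hU⟩ := W.exists_isCompl
  have hWd : finrank F W = k := by
    rw [finrank_span_eq_card hw, Fintype.card_fin]
  have hUd : finrank F U = m := by
    have h1 := Submodule.finrank_add_eq_of_isCompl hU
    rw [hWd, Module.finrank_fin_fun] at h1
    omega
  let B : Basis (Fin k ⊕ Fin m) F (Fin (k + m) → F) :=
    ((Basis.span hw).prod (Module.finBasisOfFinrankEq F U hUd)).map
      (Submodule.prodEquivOfIsCompl W U hU)
  have hB : ∀ j, B (Sum.inl j) = w j := fun j => by
    simp [B, Basis.span_apply]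
  let Φ := LinearMap.toMatrixAlgEquiv (R := F) B
  let Ψ : Matrix (Fin (k + m)) (Fin (k + m)) F ≃ₐ[F] Matrix (Fin k ⊕ Fin m) (Fin k ⊕ Fin m) F :=
    (Matrix.toLinAlgEquiv' (R := F) (n := Fin (k + m))).trans Φ
  refine Nat.card_congr (Equiv.subtypeEquiv Ψ.toEquiv fun T => ?_)
  refine and_congr (isNilpotent_equiv Ψ.toRingEquiv T).symm ?_
  have hentry : ∀ i j, (Ψ T) i (Sum.inl j) = B.repr (T *ᵥ w j) i := fun i j => by
    simp [Ψ, Φ, LinearMap.toMatrixAlgEquiv_apply, hB]
  constructor
  · intro h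
    have hr : ∀ i j, (Ψ T) i (Sum.inl j) =
        if h : j.val + 1 < k then (if i = Sum.inl ⟨j.val + 1, h⟩ then 1 else 0) else 0 := by
      intro i j
      rw [hentry, h j]
      split_ifs with h1 h2
      · rw [← hB, Basis.repr_self, h2, Finsupp.single_eq_same]
      · rw [← hB, Basis.repr_self, Finsupp.single_eq_of_ne h2]
      · simp
    refine ⟨?_, ?_⟩
    · ext i j
      rw [lowShift_col]
      simpa [Matrix.toBlocks₁₁] using hr (Sum.inl i) j
    · ext i j
      simpa [Matrix.toBlocks₂₁] using hr (Sum.inr i) j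
  · rintro ⟨h1, h2⟩ j
    apply B.repr.injective
    ext i
    rw [← hentry]
    rcases i with i | i
    · have := congrFun (congrFun h1 i) j
      simp only [Matrix.toBlocks₁₁, Matrix.of_apply] at this
      change Ψ T (Sum.inl i) (Sum.inl j) = _ at this ⊢
      rw [this, lowShift_col]
      split_ifs with h3 h4
      · rw [← hB, Basis.repr_self, h4, Finsupp.single_eq_same]
      · rw [← hB, Basis.repr_self, Finsupp.single_eq_of_ne (fun e => h4 (Sum.inl_injective e))]
      · simp
    · have := congrFun (congrFun h2 i) j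
      simp only [Matrix.toBlocks₂₁, Matrix.of_apply, Matrix.zero_apply] at this
      change Ψ T (Sum.inr i) (Sum.inl j) = _ at this ⊢
      rw [this]
      split_ifs with h3
      · rw [← hB, Basis.repr_self, Finsupp.single_eq_of_ne (by simp)]
      · simp

theorem shifts_apply {n : ℕ} {T : Matrix (Fin n) (Fin n) F} {v : Fin n → F}
    (hk : T ^ k *ᵥ v = 0) : Shifts T (fun j : Fin k => T ^ (j : ℕ) *ᵥ v) := by
  intro j
  rw [Matrix.mulVec_mulVec, ← pow_succ']
  split_ifs with h
  · rfl
  · rw [show (j : ℕ) + 1 = k by omega, hk]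

theorem card_pairs [Fintype F] (n : ℕ) :
    nilCount n F * Fintype.card F ^ n = ∑ k : Fin (n + 1),
      (∏ i ∈ Finset.range k, (Fintype.card F ^ n - Fintype.card F ^ i)) *
        (Fintype.card F ^ ((k : ℕ) * (n - k)) * nilCount (n - k) F) := by
  classical
  let S := fun (k : Fin (n + 1)) => Σ w : {w : Fin k → Fin n → F // LinearIndependent F w},
    {T : Matrix (Fin n) (Fin n) F // IsNilpotent T ∧ Shifts T w.1}
  have hS : ∀ k : Fin (n + 1), Nat.card (S k) =
      (∏ i ∈ Finset.range k, (Fintype.card F ^ n - Fintype.card F ^ i)) *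
        (Fintype.card F ^ ((k : ℕ) * (n - k)) * nilCount (n - k) F) := by
    intro k
    obtain ⟨k, hk⟩ := k
    obtain ⟨m, rfl⟩ : ∃ m, n = k + m := ⟨n - k, by omega⟩
    simp only [S, Nat.card_sigma, Nat.add_sub_cancel_left]
    rw [Finset.sum_congr rfl fun w _ => card_fibre w.1 w.2, Finset.sum_const, Finset.card_univ,
      smul_eq_mul, ← Nat.card_eq_fintype_card,
      card_linearIndependent (by rw [Module.finrank_fin_fun]; omega), Module.finrank_fin_fun,
      Fin.prod_univ_eq_prod_range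
        (fun i => Fintype.card F ^ (k + m) - Fintype.card F ^ i) k]
  rw [← Finset.sum_congr rfl fun k _ => hS k, ← Nat.card_sigma, nilCount,
    show Fintype.card F ^ n = Nat.card (Fin n → F) by simp, ← Nat.card_prod]
  let ord : ∀ p : {T : Matrix (Fin n) (Fin n) F // IsNilpotent T} × (Fin n → F),
      ∃ a, p.1.1 ^ a *ᵥ p.2 = 0 := fun p =>
    ⟨p.1.2.choose, by rw [p.1.2.choose_spec, Matrix.zero_mulVec]⟩
  have hind : ∀ p, LinearIndependent F (fun j : Fin (Nat.find (ord p)) =>
      p.1.1 ^ (j : ℕ) *ᵥ p.2) := by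
    intro p
    set kk := Nat.find (ord p) with hkk
    refine Fintype.linearIndependent_iff.2 fun a ha => ?_
    by_contra! hne
    have hs : (Finset.univ.filter fun i => a i ≠ 0).Nonempty := by
      obtain ⟨i, hi⟩ := hne
      exact ⟨i, by simpa using hi⟩
    set i := (Finset.univ.filter fun i => a i ≠ 0).min' hs with hi
    have hai : a i ≠ 0 := (Finset.mem_filter.1 (Finset.min'_mem _ hs)).2
    have hmin : p.1.1 ^ (kk - 1) *ᵥ p.2 ≠ 0 := Nat.find_min (ord p) (by omega)
    have h1 := congrArg (fun w => (p.1.1 ^ (kk - 1 - (i : ℕ))) *ᵥ w) ha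
    simp only [Matrix.mulVec_sum, Matrix.mulVec_smul, Matrix.mulVec_mulVec, ← pow_add,
      Matrix.mulVec_zero] at h1
    rw [Finset.sum_eq_single i] at h1
    · rw [show kk - 1 - (i : ℕ) + (i : ℕ) = kk - 1 by omega] at h1
      exact hmin ((smul_eq_zero.1 h1).resolve_left hai)
    · intro j _ hj
      by_cases haj : a j = 0
      · rw [haj, zero_smul]
      · have hle : i ≤ j := Finset.min'_le _ _ (by simpa using haj)
        have hlt : (i : ℕ) < j := lt_of_le_of_ne hle fun e => hj (Fin.ext e.symm)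
        have hbig : kk - 1 - (i : ℕ) + (j : ℕ) = (kk - 1 - (i : ℕ) + (j : ℕ) - kk) + kk := by omega
        have hz : p.1.1 ^ kk *ᵥ p.2 = 0 := Nat.find_spec (ord p)
        rw [hbig, pow_add, ← Matrix.mulVec_mulVec, hz, Matrix.mulVec_zero, smul_zero]
    · simp
  have hle : ∀ p, Nat.find (ord p) < n + 1 := fun p => by
    have := (hind p).fintype_card_le_finrank
    rw [Fintype.card_fin, Module.finrank_fin_fun] at this
    omega
  refine Nat.card_eq_of_bijective (fun p => (⟨⟨Nat.find (ord p), hle p⟩,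
    ⟨_, hind p⟩, p.1.1, p.1.2, shifts_apply (Nat.find_spec (ord p))⟩ : Σ k, S k)) ⟨?_, ?_⟩
  · have key : ∀ p, (if h : 0 < Nat.find (ord p) then p.1.1 ^ (0 : ℕ) *ᵥ p.2 else 0) = p.2 := by
      intro p
      split_ifs with h
      · simp
      · have := Nat.find_spec (ord p)
        rw [Nat.eq_zero_of_not_pos h] at this
        simpa using this.symm
    intro p r hpr
    let g : (Σ k, S k) → Matrix (Fin n) (Fin n) F × (Fin n → F) := fun x =>
      (x.2.2.1, if h : 0 < (x.1 : ℕ) then x.2.1.1 ⟨0, h⟩ else 0)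
    have h1 := congrArg g hpr
    simp only [g, key] at h1
    exact Prod.ext (Subtype.ext (Prod.mk.inj h1).1) (Prod.mk.inj h1).2
  · rintro ⟨⟨k, hk⟩, ⟨w, hw⟩, T, hT, hsh⟩
    dsimp only at w hw hsh
    let v : Fin n → F := if h : 0 < k then w ⟨0, h⟩ else 0
    have hpow : ∀ j : Fin k, T ^ (j : ℕ) *ᵥ v = w j := by
      rintro ⟨j, hj⟩
      induction j with
      | zero => simp [v, hj]
      | succ j ih =>
        rw [pow_succ', ← Matrix.mulVec_mulVec, ih (by omega), hsh ⟨j, by omega⟩, dif_pos hj]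
    have hfind : Nat.find (ord (⟨T, hT⟩, v)) = k := by
      rw [Nat.find_eq_iff]
      refine ⟨?_, fun a ha h => hw.ne_zero ⟨a, ha⟩ ((hpow ⟨a, ha⟩).symm.trans h)⟩
      rcases Nat.eq_zero_or_pos k with h | h
      · subst h; simp [v]
      · have h2 := hsh ⟨k - 1, by omega⟩
        rw [← hpow, dif_neg (by simp; omega), Matrix.mulVec_mulVec, ← pow_succ'] at h2
        rwa [Nat.sub_add_cancel h] at h2
    refine ⟨(⟨T, hT⟩, v), ?_⟩
    have gen : ∀ (k' : ℕ) (hk' : k' < n + 1) (w' : Fin k' → Fin n → F)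
        (h1' : LinearIndependent F w') (h2' : Shifts T w'), k' = k →
        (∀ j : Fin k', w' j = T ^ (j : ℕ) *ᵥ v) →
        (⟨⟨k', hk'⟩, ⟨w', h1'⟩, T, hT, h2'⟩ : Σ k, S k) = ⟨⟨k, hk⟩, ⟨w, hw⟩, T, hT, hsh⟩ := by
      rintro k' hk' w' h1' h2' rfl hw'
      obtain rfl : w' = w := funext fun j => (hw' j).trans (hpow j)
      rfl
    exact gen _ (hle (⟨T, hT⟩, v)) _ (hind (⟨T, hT⟩, v))
      (shifts_apply (Nat.find_spec (ord (⟨T, hT⟩, v)))) hfind fun j => rfl

theorem pow_add_prod_eq [Fintype F] (n : ℕ) : ∀ t, t ≤ n + 1 →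
    (Fintype.card F : ℤ) ^ (n * n) = (∑ k ∈ Finset.range t,
      (∏ i ∈ Finset.range k, ((Fintype.card F : ℤ) ^ n - (Fintype.card F : ℤ) ^ i)) *
        (Fintype.card F : ℤ) ^ ((n - k) * (n - 1))) +
      (∏ i ∈ Finset.range t, ((Fintype.card F : ℤ) ^ n - (Fintype.card F : ℤ) ^ i)) *
        (Fintype.card F : ℤ) ^ ((n - t) * n) := by
  intro t
  induction t with
  | zero => simp
  | succ t ih =>
    intro ht
    rw [ih (by omega), Finset.sum_range_succ, Finset.prod_range_succ, add_assoc]
    congr 1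
    rcases Nat.lt_or_ge t n with h | h
    · obtain ⟨s, rfl⟩ : ∃ s, n = t + 1 + s := ⟨n - t - 1, by omega⟩
      rw [show t + 1 + s - t = s + 1 by omega, show t + 1 + s - (t + 1) = s by omega,
        show t + 1 + s - 1 = t + s by omega]
      ring
    · obtain rfl : t = n := by omega
      simp

theorem nilCount_eq [Fintype F] : ∀ n, nilCount n F = Fintype.card F ^ (n * (n - 1)) := by
  intro n
  induction n using Nat.strong_induction_on with
  | _ n ih =>
    rcases Nat.eq_zero_or_pos n with rfl | hn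
    · rw [nilCount, Nat.zero_mul, pow_zero, Nat.card_eq_one_iff_unique]
      exact ⟨inferInstance, ⟨⟨0, IsNilpotent.zero⟩⟩⟩
    set q := Fintype.card F with hq
    have hq2 : 1 < q := Fintype.one_lt_card
    have h1 := card_pairs (F := F) n
    rw [Fin.sum_univ_eq_sum_range (fun k => (∏ i ∈ Finset.range k, (q ^ n - q ^ i)) *
      (q ^ (k * (n - k)) * nilCount (n - k) F)), Finset.sum_range_succ'] at h1
    simp only [Finset.range_zero, Finset.prod_empty, Nat.zero_mul, pow_zero, one_mul,
      Nat.sub_zero] at h1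
    have h2 : ∀ k ∈ Finset.range n,
        (∏ i ∈ Finset.range (k + 1), (q ^ n - q ^ i)) *
          (q ^ ((k + 1) * (n - (k + 1))) * nilCount (n - (k + 1)) F) =
        (∏ i ∈ Finset.range (k + 1), (q ^ n - q ^ i)) * q ^ ((n - (k + 1)) * (n - 1)) := by
      intro k hk
      rw [Finset.mem_range] at hk
      rw [ih _ (by omega), ← pow_add]
      congr 2
      obtain ⟨s, rfl⟩ : ∃ s, n = k + 1 + s := ⟨n - k - 1, by omega⟩
      rw [Nat.add_sub_cancel_left]
      rcases s with _ | s
      · simp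
      · rw [show s + 1 - 1 = s by omega, show k + 1 + (s + 1) - 1 = k + 1 + s by omega]
        ring
    rw [Finset.sum_congr rfl h2] at h1
    have h3 := pow_add_prod_eq (F := F) n (n + 1) le_rfl
    rw [Finset.sum_range_succ'] at h3
    have hlast : (∏ i ∈ Finset.range (n + 1), ((q : ℤ) ^ n - (q : ℤ) ^ i)) = 0 :=
      Finset.prod_eq_zero (Finset.self_mem_range_succ n) (sub_self _)
    rw [hlast, zero_mul, add_zero] at h3
    simp only [Finset.range_zero, Finset.prod_empty, one_mul, Nat.sub_zero] at h3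
    have h4 := congrArg (fun x : ℕ => (x : ℤ)) h1
    simp only [Nat.cast_add, Nat.cast_mul, Nat.cast_pow, Nat.cast_sum] at h4
    have h5 : ∀ k ∈ Finset.range n, ((∏ i ∈ Finset.range (k + 1), (q ^ n - q ^ i) : ℕ) : ℤ)
        = ∏ i ∈ Finset.range (k + 1), ((q : ℤ) ^ n - (q : ℤ) ^ i) := by
      intro k hk
      rw [Nat.cast_prod]
      refine Finset.prod_congr rfl fun i hi => ?_
      rw [Finset.mem_range] at hk hi
      rw [Nat.cast_sub (Nat.pow_le_pow_right (by omega) (by omega)), Nat.cast_pow, Nat.cast_pow]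
    rw [Finset.sum_congr rfl fun k hk => by rw [h5 k hk]] at h4
    have hnn : n * n = n * (n - 1) + n := by
      rw [Nat.mul_sub, mul_one, Nat.sub_add_cancel (Nat.le_mul_self n)]
    rw [hnn, pow_add] at h3
    have h6 : ((nilCount n F : ℤ) - (q : ℤ) ^ (n * (n - 1))) * ((q : ℤ) ^ n - 1) = 0 := by
      linear_combination h4 - h3
    have h7 : ((q : ℤ) ^ n - 1) ≠ 0 := by
      have : (1 : ℤ) < (q : ℤ) ^ n := one_lt_pow₀ (by exact_mod_cast hq2) (by omega)
      omega
    have h8 := sub_eq_zero.1 ((mul_eq_zero.1 h6).resolve_right h7)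
    exact_mod_cast h8

end CfsgLib.GLClass
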