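import Mathlib
import Cfsg.Agent.Lib.GLClass.Semisimple
import Cfsg.Agent.Lib.GLClass.Special
import Cfsg.Agent.Lib.GLClass.PrimeOrderCount

/-!
Classes of elements of prime order `r` in groups of matrices modulo scalars, when the scalars
contain the `r`-th roots of unity and the group contains the monomial matrices with entries among
the scalars, and conjugacy in it is similarity.
-/

set_option autoImplicit false

namespace CfsgLib.GLClass.Proj

open Polynomial UniqueFactorizationMonoid

variable {F : Type*} [Field F] {n : ℕ}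

/-- monomial matrix with entries `d` along the permutation `σ` -/
def mmat (σ : Equiv.Perm (Fin n)) (d : Fin n → F) : Matrix (Fin n) (Fin n) F :=
  Matrix.of fun i j => if σ j = i then d j else 0

theorem mmat_mul (σ τ : Equiv.Perm (Fin n)) (d e : Fin n → F) :
    mmat σ d * mmat τ e = mmat (σ * τ) fun j => d (τ j) * e j := by
  ext i j
  rw [Matrix.mul_apply, Finset.sum_eq_single (τ j)]
  · by_cases h : σ (τ j) = i
    · have h' : (σ * τ) j = i := h
      simp [mmat, h]
    · have h' : ¬ (σ * τ) j = i := h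
      simp [mmat, h]
  · intro k _ hk
    simp [mmat, Ne.symm hk]
  · exact fun h => absurd (Finset.mem_univ _) h

theorem mmat_one (d : Fin n → F) : mmat (1 : Equiv.Perm (Fin n)) d = Matrix.diagonal d := by
  ext i j
  simp only [mmat, Matrix.of_apply, Equiv.Perm.one_apply, Matrix.diagonal_apply]
  by_cases h : i = j
  · subst h; simp
  · simp [h, Ne.symm h]

/-- monomial matrix as a unit -/
def mono (σ : Equiv.Perm (Fin n)) (d : Fin n → Fˣ) : GL (Fin n) F :=
  ⟨mmat σ fun j => (d j : F), mmat σ⁻¹ fun j => ((d (σ⁻¹ j))⁻¹ : Fˣ),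
    by rw [mmat_mul, mul_inv_cancel, mmat_one]; simp,
    by rw [mmat_mul, inv_mul_cancel, mmat_one]; simp⟩

theorem mono_mul (σ τ : Equiv.Perm (Fin n)) (d e : Fin n → Fˣ) :
    mono σ d * mono τ e = mono (σ * τ) fun j => d (τ j) * e j :=
  Units.ext (by simp [mono, mmat_mul])

theorem mono_scalar_val (c : Fˣ) :
    ((mono 1 fun _ : Fin n => c : GL (Fin n) F) : Matrix (Fin n) (Fin n) F) =
      (c : F) • (1 : Matrix (Fin n) (Fin n) F) := by
  show mmat 1 _ = _
  rw [mmat_one, Matrix.smul_one_eq_diagonal]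

theorem mono_pow (σ : Equiv.Perm (Fin n)) (d : Fin n → Fˣ) :
    ∀ k : ℕ, mono σ d ^ k = mono (σ ^ k) fun j => ∏ s ∈ Finset.range k, d ((σ ^ s) j)
  | 0 => Units.ext (by simp [mono, mmat_one])
  | k + 1 => by
    rw [pow_succ', mono_pow σ d k, mono_mul, ← pow_succ']
    congr 1
    funext j
    rw [Finset.prod_range_succ, mul_comm]

theorem card_sym_orbits {r : ℕ} [Fact r.Prime] (n : ℕ)
    [AddAction (ZMod r) (Sym (ZMod r) n)]
    (hact : ∀ (a : ZMod r) (s : Sym (ZMod r) n), (a +ᵥ s : Sym (ZMod r) n) = s.map (a + ·)) :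
    Nat.card (Quotient (AddAction.orbitRel (ZMod r) (Sym (ZMod r) n))) * r =
      Nat.choose (n + r - 1) (r - 1) + (r - 1) * (if r ∣ n then 1 else 0) := by
  classical
  have hr := (Fact.out : r.Prime)
  have key := AddAction.sum_card_fixedBy_eq_card_orbits_mul_card_addGroup (ZMod r) (Sym (ZMod r) n)
  have h0 : Fintype.card (AddAction.fixedBy (Sym (ZMod r) n) (0 : ZMod r)) =
      Nat.choose (n + r - 1) (r - 1) := by
    have e : AddAction.fixedBy (Sym (ZMod r) n) (0 : ZMod r) ≃ Sym (ZMod r) n :=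
      Equiv.subtypeUnivEquiv fun s => zero_vadd (ZMod r) s
    rw [Fintype.card_congr e, Sym.card_sym_eq_choose, ZMod.card,
      show r + n - 1 = n + r - 1 by omega]
    exact Nat.choose_symm_of_eq_add (by have := hr.pos; omega)
  have hcount : ∀ (a : ZMod r) (s : Sym (ZMod r) n), (a +ᵥ s : Sym (ZMod r) n) = s →
      ∀ x, (s : Multiset (ZMod r)).count (a + x) = (s : Multiset (ZMod r)).count x := by
    intro a s hs x
    conv_lhs => rw [← hs, hact, Sym.coe_map]
    exact Multiset.count_map_eq_count' _ _ (add_right_injective a) x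
  have h1 : ∀ a : ZMod r, a ≠ 0 → Fintype.card (AddAction.fixedBy (Sym (ZMod r) n) a) =
      if r ∣ n then 1 else 0 := by
    intro a ha
    have hall : ∀ s : Sym (ZMod r) n, (a +ᵥ s : Sym (ZMod r) n) = s →
        ∀ x, (s : Multiset (ZMod r)).count x = (s : Multiset (ZMod r)).count 0 := by
      intro s hs x
      have h : ∀ k : ℕ, (s : Multiset (ZMod r)).count ((k : ZMod r) * a) =
          (s : Multiset (ZMod r)).count 0 := by
        intro k
        induction k with
        | zero => simp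
        | succ k ih => rw [Nat.cast_succ, add_mul, one_mul, add_comm, hcount a s hs, ih]
      have := h (x * a⁻¹).val
      rwa [ZMod.natCast_zmod_val, inv_mul_cancel_right₀ ha] at this
    have hn' : ∀ s : Sym (ZMod r) n, (a +ᵥ s : Sym (ZMod r) n) = s →
        n = r * (s : Multiset (ZMod r)).count 0 := by
      intro s hs
      have h2 : n = ∑ x : ZMod r, (s : Multiset (ZMod r)).count x := by
        rw [Multiset.sum_count_eq_card (fun x _ => Finset.mem_univ x)]; exact s.2.symm
      rw [Finset.sum_congr rfl fun x _ => hall s hs x] at h2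
      simpa using h2
    split_ifs with hd
    · obtain ⟨k, hk⟩ := hd
      let s₀ : Sym (ZMod r) n := ⟨k • (Finset.univ : Finset (ZMod r)).val, by
        rw [Multiset.card_nsmul, Finset.card_val, Finset.card_univ, ZMod.card, hk, mul_comm]⟩
      refine Fintype.card_eq_one_iff.2 ⟨⟨s₀, ?_⟩, ?_⟩
      · show (a +ᵥ s₀ : Sym (ZMod r) n) = s₀
        rw [hact]
        refine Sym.coe_injective ?_
        rw [Sym.coe_map]
        show Multiset.map _ (k • (Finset.univ : Finset (ZMod r)).val) = k • (Finset.univ : Finset (ZMod r)).val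
        rw [Multiset.map_nsmul]
        congr 1
        have := congrArg Finset.val (Finset.map_univ_equiv (Equiv.addLeft a))
        rwa [Finset.map_val] at this
      · rintro ⟨s, hs⟩
        refine Subtype.ext (Sym.coe_injective (Multiset.ext.2 fun x => ?_))
        have h3 := hn' s hs
        have h4 := Nat.eq_of_mul_eq_mul_left hr.pos (hk.symm.trans h3)
        show (s : Multiset (ZMod r)).count x = (k • (Finset.univ : Finset (ZMod r)).val).count x
        rw [hall s hs x, ← h4, Multiset.count_nsmul,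
          Multiset.count_eq_one_of_mem Finset.univ.nodup (Finset.mem_univ x), mul_one]
    · exact Fintype.card_eq_zero_iff.2 ⟨fun ⟨s, hs⟩ => hd ⟨_, hn' s hs⟩⟩
  rw [← Finset.add_sum_erase _ _ (Finset.mem_univ (0 : ZMod r)),
    Finset.sum_congr rfl fun a ha => h1 a (Finset.mem_erase.1 ha).1, h0, Finset.sum_const,
    Finset.card_erase_of_mem (Finset.mem_univ _), Finset.card_univ, ZMod.card, smul_eq_mul] at key
  rw [Nat.card_eq_fintype_card, ← key]

theorem classes_arith {orb C r δ : ℕ} (hr : 2 ≤ r) (hδ : δ = 0 ∨ δ = 1)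
    (horb : orb * r = C + (r - 1) * δ) (hC : 1 ≤ C) (hC' : δ = 1 → 2 ≤ C) :
    orb + (r - 1) * δ - 1 = (C - r - δ) / r + r * δ := by
  rcases hδ with rfl | rfl
  · simp only [Nat.sub_zero, mul_zero, add_zero] at horb ⊢
    subst horb
    rw [show orb * r - r = (orb - 1) * r by rw [Nat.sub_mul, one_mul], Nat.mul_div_cancel _ (by omega)]
  · simp only [mul_one] at horb ⊢
    have h2 : 2 ≤ orb := by
      by_contra h
      have : orb * r ≤ 1 * r := Nat.mul_le_mul_right r (by omega)
      have := hC' rfl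
      omega
    have h3 : C - r - 1 = (orb - 2) * r := by rw [Nat.sub_mul]; omega
    rw [h3, Nat.mul_div_cancel _ (by omega)]
    omega

theorem zero_lt_of_prime_dvd_card {r : ℕ} [hr : Fact r.Prime] [Finite F] (μ : Subgroup Fˣ)
    (hrμ : r ∣ Nat.card μ) :
    (r : F) ≠ 0 ∧ ∃ ζ : Fˣ, ζ ∈ μ ∧ orderOf ζ = r := by
  classical
  haveI := Fintype.ofFinite F
  obtain ⟨w, hw⟩ := exists_prime_orderOf_dvd_card' r hrμ
  refine ⟨fun h0 => ?_, w.1, w.2, by rw [Subgroup.orderOf_coe]; exact hw⟩
  have hd : r ∣ Fintype.card F - 1 := by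
    have := hrμ.trans μ.card_subgroup_dvd_card
    rwa [Nat.card_eq_fintype_card, Fintype.card_units] at this
  obtain ⟨p, hp⟩ := CharP.exists F
  haveI := hp
  obtain ⟨f, hpp, hcard⟩ := FiniteField.card F p
  have hrp : p = r := ((Nat.prime_dvd_prime_iff_eq hpp hr.out).1 ((CharP.cast_eq_zero_iff F p r).1 h0))
  have h2 : r ∣ Fintype.card F := by rw [hcard, hrp]; exact dvd_pow_self r f.pos.ne'
  have h3 : r ∣ 1 := by
    have := Nat.dvd_sub h2 hd
    rwa [Nat.sub_sub_self Fintype.card_pos] at this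
  exact hr.out.ne_one (Nat.dvd_one.1 h3)

variable [Fintype F]

theorem card_proj_classes {r : ℕ} (hr : r.Prime) (hn : 1 ≤ n) (G : Subgroup (GL (Fin n) F))
    (μ : Subgroup Fˣ) (hrμ : r ∣ Nat.card μ)
    (hroot : ∀ c ∈ μ, (∃ x : F, x ^ r = (c : F)) → ∃ y ∈ μ, y ^ r = c)
    (hconj : ∀ a b : G, IsConj ((a : GL (Fin n) F) : Matrix (Fin n) (Fin n) F)
      ((b : GL (Fin n) F) : Matrix (Fin n) (Fin n) F) → IsConj a b)
    (hmono : ∀ (σ : Equiv.Perm (Fin n)) (d : Fin n → Fˣ), (∀ j, d j ∈ μ) → mono σ d ∈ G)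
    (hscal : ∀ a : Fˣ, mono 1 (fun _ : Fin n => a) ∈ G → a ∈ μ) :
    Nat.card {C : ConjClasses (G ⧸ Subgroup.center G) //
        ∃ g : G ⧸ Subgroup.center G, ConjClasses.mk g = C ∧ orderOf g = r} =
      (Nat.choose (n + r - 1) (r - 1) - r - (if r ∣ n then 1 else 0)) / r +
        r * (if r ∣ n then 1 else 0) := by
  classical
  haveI : Fact r.Prime := ⟨hr⟩
  obtain ⟨hr0, ζ, hζμ, hζo⟩ := zero_lt_of_prime_dvd_card (r := r) μ hrμ
  have hζp : IsPrimitiveRoot (ζ : F) r := by
    rw [← hζo, ← orderOf_units]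
    exact IsPrimitiveRoot.orderOf _
  let z : ZMod r → Fˣ := fun j => ζ ^ j.val
  have hzμ : ∀ j, z j ∈ μ := fun j => μ.pow_mem hζμ _
  have hζr : ζ ^ r = 1 := by rw [← hζo, pow_orderOf_eq_one]
  have hzr : ∀ j, z j ^ r = 1 := fun j => by
    simp only [z]; rw [← pow_mul, mul_comm, pow_mul, hζr, one_pow]
  have hzc : ∀ k : ℕ, z (k : ZMod r) = ζ ^ k := fun k => by
    simp only [z, ZMod.val_natCast]; exact (pow_eq_pow_mod k hζr).symm
  have hzadd : ∀ a b, z (a + b) = z a * z b := fun a b => by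
    rw [← ZMod.natCast_zmod_val a, ← ZMod.natCast_zmod_val b, ← Nat.cast_add, hzc, hzc, hzc, pow_add]
  have hzinj : Function.Injective fun j => ((z j : Fˣ) : F) := fun a b h =>
    ZMod.val_injective r (hζp.pow_inj (ZMod.val_lt a) (ZMod.val_lt b) (by simpa [z] using h))
  have hrange : ∀ x : Fˣ, x ^ r = 1 → ∃ j, z j = x := fun x hx => by
    obtain ⟨i, hi, hix⟩ := hζp.eq_pow_of_pow_eq_one (ξ := (x : F))
      (by rw [← Units.val_pow_eq_pow_val, hx, Units.val_one])
    exact ⟨i, Units.ext (by rw [hzc, Units.val_pow_eq_pow_val, hix])⟩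
  -- the centre consists of the scalars
  let sc : ∀ c : Fˣ, c ∈ μ → G := fun c hc => ⟨mono 1 fun _ => c, hmono 1 _ fun _ => hc⟩
  have hscv : ∀ (c : Fˣ) (hc : c ∈ μ), (((sc c hc : G) : GL (Fin n) F) : Matrix (Fin n) (Fin n) F) =
      (c : F) • 1 := fun c _ => mono_scalar_val c
  have hscC : ∀ (c : Fˣ) (hc : c ∈ μ), sc c hc ∈ Subgroup.center G := fun c hc =>
    Subgroup.mem_center_iff.2 fun g => Subtype.ext (Units.ext (by
      rw [Subgroup.coe_mul, Subgroup.coe_mul, Units.val_mul, Units.val_mul, hscv c hc, mul_smul_comm, mul_one,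
        smul_mul_assoc, one_mul]))
  have hcent : ∀ g : G, g ∈ Subgroup.center G → ∃ (c : Fˣ) (hc : c ∈ μ), g = sc c hc := by
    intro g hg
    set M := ((g : GL (Fin n) F) : Matrix (Fin n) (Fin n) F) with hM
    have hcomm : ∀ (σ : Equiv.Perm (Fin n)) (d : Fin n → Fˣ), (∀ j, d j ∈ μ) → ∀ i j,
        M (σ i) (σ j) * (d j : F) = (d i : F) * M i j := by
      intro σ d hd i j
      have h := congrArg (fun x : G => ((x : GL (Fin n) F) : Matrix (Fin n) (Fin n) F) (σ i) j)
        ((Subgroup.mem_center_iff.1 hg) ⟨mono σ d, hmono σ d hd⟩)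
      simp only [Subgroup.coe_mul, Units.val_mul, mono, Matrix.mul_apply] at h
      rw [Finset.sum_eq_single i, Finset.sum_eq_single (σ j)] at h
      · simpa [mmat] using h.symm
      all_goals first
        | exact fun hh => absurd (Finset.mem_univ _) hh
        | (intro k _ hk; simp [mmat, hk, Ne.symm hk])
    have h01 : ∀ i j, i ≠ j → M i j = 0 := by
      intro i j hij
      have h := hcomm 1 (fun k => if k = i then ζ else 1) (fun k => by split_ifs; exacts [hζμ, μ.one_mem]) i j
      simp only [Equiv.Perm.one_apply, if_neg (Ne.symm hij), if_true, Units.val_one, mul_one] at h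
      have h1 : ((ζ : F) - 1) * M i j = 0 := by rw [sub_mul, one_mul, ← h, sub_self]
      exact (mul_eq_zero.1 h1).resolve_left (sub_ne_zero.2 (hζp.ne_one hr.one_lt))
    let i₀ : Fin n := ⟨0, hn⟩
    have hdiag : ∀ i, M i i = M i₀ i₀ := by
      intro i
      have h := hcomm (Equiv.swap i₀ i) (fun _ => 1) (fun _ => μ.one_mem) i₀ i₀
      simpa using h
    have hMeq : M = M i₀ i₀ • 1 := by
      ext i j
      by_cases hij : i = j
      · subst hij; simp [hdiag i]
      · simp [h01 i j hij, hij]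
    have hne : M i₀ i₀ ≠ 0 := by
      intro h0
      have hu := (Matrix.isUnit_iff_isUnit_det M).1 (g : GL (Fin n) F).isUnit
      haveI : Nonempty (Fin n) := ⟨i₀⟩
      rw [hMeq, h0, zero_smul, Matrix.det_zero] at hu
      exact not_isUnit_zero hu
    have hgm : (g : GL (Fin n) F) = mono 1 fun _ => Units.mk0 _ hne :=
      Units.ext (by rw [mono_scalar_val, Units.val_mk0]; exact hMeq)
    exact ⟨_, hscal _ (hgm ▸ g.2), Subtype.ext hgm⟩
  set Q := G ⧸ Subgroup.center G
  let π : G →* Q := QuotientGroup.mk' _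
  have hπc : ∀ a b : G, π a = π b ↔ ∃ (c : Fˣ) (hc : c ∈ μ), b = sc c hc * a := fun a b => by
    constructor
    · intro h
      have h1 : b * a⁻¹ ∈ Subgroup.center G := by
        rw [← QuotientGroup.eq_one_iff]
        show π (b * a⁻¹) = 1
        rw [map_mul, map_inv, h, mul_inv_cancel]
      obtain ⟨c, hc, hcc⟩ := hcent _ h1
      exact ⟨c, hc, by rw [← hcc, inv_mul_cancel_right]⟩
    · rintro ⟨c, hc, rfl⟩
      have : π (sc c hc) = 1 := (QuotientGroup.eq_one_iff _).2 (hscC c hc)
      rw [map_mul, this, one_mul]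
  have hconjQ : ∀ a b : G, IsConj (π a) (π b) →
      ∃ (c : Fˣ) (hc : c ∈ μ), IsConj ((((sc c hc * a : G) : GL (Fin n) F)) : Matrix (Fin n) (Fin n) F)
        (((b : GL (Fin n) F)) : Matrix (Fin n) (Fin n) F) := by
    intro a b h
    obtain ⟨y, hy⟩ := isConj_iff.1 h
    obtain ⟨y, rfl⟩ := QuotientGroup.mk'_surjective _ y
    rw [← map_inv, ← map_mul, ← map_mul] at hy
    obtain ⟨c, hc, hb⟩ := (hπc _ _).1 hy
    have key : IsConj (sc c hc * a) b := isConj_iff.2 ⟨y, ?_⟩
    · exact ⟨c, hc, MonoidHom.map_isConj ((Units.coeHom _).comp G.subtype) key⟩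
    have hc' := Subgroup.mem_center_iff.1 (hscC c hc) y
    rw [hb, ← mul_assoc y, hc']
    group
  -- multiplicity patterns
  letI act : AddAction (ZMod r) (Sym (ZMod r) n) :=
    { vadd := fun a s => s.map (a + ·)
      zero_vadd := fun s => by show Sym.map _ s = s; simp
      add_vadd := fun a b s => by
        show Sym.map _ s = Sym.map _ (Sym.map _ s)
        rw [Sym.map_map]
        congr 1
        funext x
        simp [add_assoc] }
  have hact : ∀ (a : ZMod r) (s : Sym (ZMod r) n), (a +ᵥ s : Sym (ZMod r) n) = s.map (a + ·) :=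
    fun a s => rfl
  let fs : Sym (ZMod r) n → Fin n → ZMod r := fun s i =>
    (s : Multiset (ZMod r)).toList.get (Fin.cast (by simp) i)
  have hfs : ∀ s, Finset.univ.val.map (fs s) = (s : Multiset (ZMod r)) := fun s => by
    conv_rhs => rw [← Multiset.coe_toList (s : Multiset (ZMod r))]
    rw [Fin.univ_val_map]
    refine congrArg _ (List.ext_getElem (by simp) fun i h1 h2 => ?_)
    simp [fs]
  let D : (Fin n → ZMod r) → G := fun f => ⟨mono 1 fun i => z (f i), hmono 1 _ fun i => hzμ _⟩
  have hDv : ∀ f, (((D f : G) : GL (Fin n) F) : Matrix (Fin n) (Fin n) F) =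
      Matrix.diagonal fun i => ((z (f i) : Fˣ) : F) := fun f => mmat_one _
  have hDc : ∀ f, (((D f : G) : GL (Fin n) F) : Matrix (Fin n) (Fin n) F).charpoly =
      (((Finset.univ.val.map f).map fun j => ((z j : Fˣ) : F)).map fun x => X - C x).prod := fun f => by
    rw [hDv, Matrix.charpoly_diagonal, Multiset.map_map, Multiset.map_map]
    rfl
  have hDpow : ∀ f, D f ^ r = 1 := fun f => by
    refine Subtype.ext (Units.ext ?_)
    rw [SubmonoidClass.coe_pow, Units.val_pow_eq_pow_val, hDv, Matrix.diagonal_pow]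
    simp only [OneMemClass.coe_one, Units.val_one]
    rw [← Matrix.diagonal_one]
    congr 1
    funext i
    rw [Pi.pow_apply, ← Units.val_pow_eq_pow_val, hzr, Units.val_one]
  have hss : ∀ (g : G) (c : Fˣ), ((g : GL (Fin n) F) : Matrix (Fin n) (Fin n) F) ^ r = (c : F) • 1 →
      IsSS ((g : GL (Fin n) F) : Matrix (Fin n) (Fin n) F) := fun g c h =>
    ⟨X ^ r - C (c : F), (separable_X_pow_sub_C (c : F) hr0 c.ne_zero).squarefree, by
      rw [map_sub, map_pow, aeval_X, aeval_C, h, Algebra.algebraMap_eq_smul_one, sub_self]⟩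
  have hDss : ∀ f, IsSS (((D f : G) : GL (Fin n) F) : Matrix (Fin n) (Fin n) F) := fun f => hss _ 1 (by
    rw [← Units.val_pow_eq_pow_val, ← SubmonoidClass.coe_pow, hDpow]; simp)
  have hscale : ∀ (a : ZMod r) f, sc (z a) (hzμ a) * D f = D fun i => a + f i := fun a f => by
    refine Subtype.ext ?_
    show mono 1 _ * mono 1 _ = mono 1 _
    rw [mono_mul, one_mul]
    congr 1
    funext i
    rw [← hzadd]
  let DS : Sym (ZMod r) n → G := fun s => D (fs s)
  have hDSroots : ∀ s, (((DS s : G) : GL (Fin n) F) : Matrix (Fin n) (Fin n) F).charpoly.roots =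
      (s : Multiset (ZMod r)).map fun j => ((z j : Fˣ) : F) := fun s => by
    rw [hDc, hfs, roots_multiset_prod_X_sub_C]
  have hDeq : ∀ (s : Sym (ZMod r) n) (f : Fin n → ZMod r), Finset.univ.val.map f = (s : Multiset (ZMod r)) →
      IsConj (D f) (DS s) := fun s f hf => hconj _ _ (isConj_of_charpoly_eq (hDss _) (hDss _) (by
    rw [hDc, hDc, hfs, hf]))
  let S := {x : ConjClasses Q // ∃ y : Q, ConjClasses.mk y = x ∧ y ^ r = 1}
  let Ψ : Sym (ZMod r) n → S := fun s =>
    ⟨ConjClasses.mk (π (DS s)), π (DS s), rfl, by rw [← map_pow, hDpow, map_one]⟩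
  have hΨmove : ∀ a s, Ψ (a +ᵥ s) = Ψ s := fun a s => by
    refine Subtype.ext (ConjClasses.mk_eq_mk_iff_isConj.2 ?_)
    have h1 : π (DS s) = π (D fun i => a + fs s i) := (hπc _ _).2 ⟨z a, hzμ a, (hscale a _).symm⟩
    rw [h1]
    refine (MonoidHom.map_isConj π (hDeq (a +ᵥ s) _ ?_)).symm
    rw [hact, Sym.coe_map, ← hfs s, Multiset.map_map]
    rfl
  -- the non-split cosets
  let ρ : μ →* μ := powMonoidHom r
  let Ω := μ ⧸ ρ.range
  have hΩ : Nat.card Ω = r := by
    have h1 : ρ.range.index * Nat.card ρ.range = Nat.card μ := ρ.range.index_mul_card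
    have h2 : ρ.ker.index * Nat.card ρ.ker = Nat.card μ := ρ.ker.index_mul_card
    rw [Subgroup.index_ker] at h2
    have hker : Nat.card ρ.ker = r := by
      let e : ρ.ker ≃ ZMod r := Equiv.symm (Equiv.ofBijective
        (fun j => ⟨⟨z j, hzμ j⟩, Subtype.ext (hzr j)⟩) ⟨fun a b h => hzinj (congrArg
          (fun w : ρ.ker => (((w : μ) : Fˣ) : F)) h), fun w => by
          obtain ⟨j, hj⟩ := hrange ((w : μ) : Fˣ) (congrArg Subtype.val w.2)
          exact ⟨j, Subtype.ext (Subtype.ext hj)⟩⟩)
      rw [Nat.card_congr e, Nat.card_zmod]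
    rw [hker] at h2
    show ρ.range.index = r
    refine Nat.eq_of_mul_eq_mul_right (Nat.card_pos (α := ρ.range)) ?_
    rw [h1, ← h2, mul_comm]
  have hnrt : ∀ c : μ, (c : Ω) ≠ 1 → ∀ x : F, x ^ r ≠ ((c : Fˣ) : F) := fun c hc x hx => by
    obtain ⟨y, hy, hyc⟩ := hroot c c.2 ⟨x, hx⟩
    exact hc ((QuotientGroup.eq_one_iff c).2 ⟨⟨y, hy⟩, Subtype.ext hyc⟩)
  have hirr : ∀ c : μ, (c : Ω) ≠ 1 → Irreducible (X ^ r - C ((c : Fˣ) : F)) := fun c hc =>
    X_pow_sub_C_irreducible_of_prime hr (hnrt c hc)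
  have hnonsplit : ∀ c : μ, (c : Ω) ≠ 1 → ∀ g : G,
      ((g : GL (Fin n) F) : Matrix (Fin n) (Fin n) F) ^ r = ((c : Fˣ) : F) • 1 →
      r ∣ n ∧ ((g : GL (Fin n) F) : Matrix (Fin n) (Fin n) F).charpoly = (X ^ r - C ((c : Fˣ) : F)) ^ (n / r) := by
    intro c hc g hg
    set M := ((g : GL (Fin n) F) : Matrix (Fin n) (Fin n) F)
    set P := X ^ r - C ((c : Fˣ) : F)
    have hPm : P.Monic := monic_X_pow_sub_C _ hr.ne_zero
    have hall := exists_modDecomp_dvd (g := P) (separable_X_pow_sub_C _ hr0 (c : Fˣ).ne_zero).squarefree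
      (A := M) (by rw [map_sub, map_pow, aeval_X, aeval_C, hg, Algebra.algebraMap_eq_smul_one, sub_self])
    have heq : ∀ Q' ∈ normalizedFactors M.charpoly, Q' = P := fun Q' hQ' => by
      rw [← normalize_normalized_factor Q' hQ', ← hPm.normalize_eq_self]
      exact normalize_eq_normalize_iff_associated.2
        ((irreducible_of_normalized_factor Q' hQ').associated_of_dvd (hirr c hc) (hall Q' hQ'))
    have h1 : normalizedFactors M.charpoly =
        Multiset.replicate (Multiset.card (normalizedFactors M.charpoly)) P :=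
      Multiset.eq_replicate_card.2 heq
    have h2 : M.charpoly = P ^ Multiset.card (normalizedFactors M.charpoly) := by
      refine eq_of_monic_of_associated (Matrix.charpoly_monic M) (hPm.pow _) ?_
      rw [← Multiset.prod_replicate, ← h1]
      exact (prod_normalizedFactors (Matrix.charpoly_monic M).ne_zero).symm
    have h3 := congrArg natDegree h2
    rw [Matrix.charpoly_natDegree_eq_dim, Fintype.card_fin, natDegree_pow, natDegree_X_pow_sub_C] at h3
    refine ⟨⟨_, h3.trans (mul_comm _ _)⟩, ?_⟩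
    rw [Nat.div_eq_of_eq_mul_left hr.pos h3]
    exact h2
  have hNS : ∀ ω : {ω : Ω // ω ≠ 1 ∧ r ∣ n}, ∃ g : G,
      ((g : GL (Fin n) F) : Matrix (Fin n) (Fin n) F) ^ r = (((Quotient.out ω.1 : μ) : Fˣ) : F) • 1 := by
    intro ω
    obtain ⟨k, hk⟩ := ω.2.2
    set c : Fˣ := ((Quotient.out ω.1 : μ) : Fˣ)
    have hcard : Fintype.card (Fin k × ZMod r) = n := by simp [hk, mul_comm]
    let e : Fin k × ZMod r ≃ Fin n := Fintype.equivFinOfCardEq hcard
    let τ : Equiv.Perm (Fin k × ZMod r) := Equiv.prodCongr (Equiv.refl _) (Equiv.addRight 1)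
    let σ : Equiv.Perm (Fin n) := e.permCongr τ
    let d : Fin n → Fˣ := fun v => if (e.symm v).2 = 0 then c else 1
    refine ⟨⟨mono σ d, hmono σ d fun v => ?_⟩, ?_⟩
    · show (if (e.symm v).2 = 0 then c else 1) ∈ μ
      split_ifs; exacts [(Quotient.out ω.1 : μ).2, μ.one_mem]
    · have hσ : ∀ (s : ℕ) v, e.symm ((σ ^ s) v) = ((e.symm v).1, (e.symm v).2 + (s : ZMod r)) := by
        intro s
        induction s with
        | zero => intro v; simp
        | succ s ih =>
          intro v
          rw [pow_succ', Equiv.Perm.mul_apply]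
          show e.symm (e (τ (e.symm ((σ ^ s) v)))) = _
          rw [Equiv.symm_apply_apply, ih]
          simp [τ, add_assoc]
      have hσr : σ ^ r = 1 := Equiv.ext fun v => e.symm.injective (by rw [hσ]; simp)
      have hprod : ∀ v, ∏ s ∈ Finset.range r, d ((σ ^ s) v) = c := by
        intro v
        simp only [d, hσ]
        rw [Finset.prod_eq_single ((-(e.symm v).2).val)]
        · rw [ZMod.natCast_zmod_val, add_neg_cancel, if_pos rfl]
        · intro s hs hne
          refine if_neg fun h => hne ?_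
          rw [← ZMod.val_cast_of_lt (Finset.mem_range.1 hs), eq_neg_of_add_eq_zero_right h]
        · exact fun h => absurd (Finset.mem_range.2 (ZMod.val_lt _)) h
      show ((mono σ d : GL (Fin n) F) : Matrix (Fin n) (Fin n) F) ^ r = _
      rw [← Units.val_pow_eq_pow_val, mono_pow, hσr]
      simp only [hprod]
      exact mono_scalar_val c
  choose NS hNS using hNS
  let Θ : {ω : Ω // ω ≠ 1 ∧ r ∣ n} → S := fun ω =>
    ⟨ConjClasses.mk (π (NS ω)), π (NS ω), rfl, by
      rw [← map_pow]
      refine (QuotientGroup.eq_one_iff _).2 ?_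
      have : NS ω ^ r = sc (Quotient.out ω.1 : μ).1 (Quotient.out ω.1 : μ).2 := Subtype.ext (Units.ext (by
        rw [SubmonoidClass.coe_pow, Units.val_pow_eq_pow_val, hNS, hscv _ (Quotient.out ω.1 : μ).2]))
      rw [this]; exact hscC _ (Quotient.out ω.1 : μ).2⟩
  -- invariance of the coset
  have hinv : ∀ (a b : G) (ca cb : μ), ((a : GL (Fin n) F) : Matrix (Fin n) (Fin n) F) ^ r = ((ca : Fˣ) : F) • 1 →
      ((b : GL (Fin n) F) : Matrix (Fin n) (Fin n) F) ^ r = ((cb : Fˣ) : F) • 1 →
      IsConj (π a) (π b) → (ca : Ω) = (cb : Ω) ∧ ∃ (c : μ),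
        IsConj ((((sc _ c.2 * a : G) : GL (Fin n) F)) : Matrix (Fin n) (Fin n) F)
          ((b : GL (Fin n) F) : Matrix (Fin n) (Fin n) F) ∧ c ^ r * ca = cb := by
    intro a b ca cb ha hb h
    obtain ⟨c, hc, hcb⟩ := hconjQ a b h
    obtain ⟨u, hu⟩ := hcb
    have hp := (hu.pow_right r)
    have hpa : (((sc c hc * a : G) : GL (Fin n) F) : Matrix (Fin n) (Fin n) F) ^ r =
        ((c : F) ^ r * ((ca : Fˣ) : F)) • 1 := by
      rw [Subgroup.coe_mul, Units.val_mul, hscv c hc, smul_mul_assoc, one_mul, _root_.smul_pow, ha, smul_smul]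
    have h2 := hp.eq
    rw [hpa, hb, mul_smul_comm, smul_mul_assoc, mul_one, one_mul] at h2
    have h3 : (c : F) ^ r * ((ca : Fˣ) : F) = ((cb : Fˣ) : F) := by
      by_contra hne
      have h4 : ((c : F) ^ r * ((ca : Fˣ) : F) - ((cb : Fˣ) : F)) • (u : Matrix (Fin n) (Fin n) F) = 0 := by
        rw [sub_smul, h2, sub_self]
      rcases smul_eq_zero.1 h4 with h5 | h5
      · exact hne (sub_eq_zero.1 h5)
      · haveI : Nonempty (Fin n) := ⟨⟨0, hn⟩⟩
        exact not_isUnit_zero (h5 ▸ u.isUnit)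
    have h6 : (⟨c, hc⟩ : μ) ^ r * ca = cb := Subtype.ext (Units.ext (by simpa using h3))
    refine ⟨?_, ⟨c, hc⟩, ⟨u, hu⟩, h6⟩
    rw [← h6]
    show (ca : Ω) = (((⟨c, hc⟩ : μ) ^ r * ca : μ) : Ω)
    rw [QuotientGroup.mk_mul,
      (QuotientGroup.eq_one_iff ((⟨c, hc⟩ : μ) ^ r)).2 (MonoidHom.mem_range.2 ⟨⟨c, hc⟩, rfl⟩), one_mul]
  have hDSone : ∀ s, (((DS s : G) : GL (Fin n) F) : Matrix (Fin n) (Fin n) F) ^ r =
      (((1 : μ) : Fˣ) : F) • 1 := fun s => by
    rw [← Units.val_pow_eq_pow_val, ← SubmonoidClass.coe_pow, hDpow]; simp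
  let Orb := Quotient (AddAction.orbitRel (ZMod r) (Sym (ZMod r) n))
  let Ψ' : Orb → S := Quotient.lift Ψ fun s t hst => by
    obtain ⟨a, ha⟩ := hst
    rw [← ha]
    exact hΨmove a t
  have hbij : Function.Bijective (Sum.elim Ψ' Θ) := by
    constructor
    · have hsep : ∀ (s : Sym (ZMod r) n) (ω : {ω : Ω // ω ≠ 1 ∧ r ∣ n}), Ψ s ≠ Θ ω := by
        intro s ω h
        have := (hinv _ _ 1 (Quotient.out ω.1) (hDSone s) (hNS ω)
          (ConjClasses.mk_eq_mk_iff_isConj.1 (congrArg Subtype.val h))).1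
        rw [QuotientGroup.out_eq'] at this
        exact ω.2.1 this.symm
      rintro (o | ω) (o' | ω') h
      · refine congrArg Sum.inl ?_
        induction o using Quotient.ind with | _ s => ?_
        induction o' using Quotient.ind with | _ t => ?_
        obtain ⟨-, c, hcj, hc⟩ := hinv _ _ 1 1 (hDSone s) (hDSone t)
          (ConjClasses.mk_eq_mk_iff_isConj.1 (congrArg Subtype.val h))
        obtain ⟨a, ha⟩ := hrange (c : Fˣ) (by
          have := congrArg Subtype.val hc; simpa using this)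
        refine (Quotient.sound (AddAction.orbitRel_apply.2 (AddAction.mem_orbit_iff.2 ⟨a, ?_⟩))).symm
        show (a +ᵥ s : Sym (ZMod r) n) = t
        refine Sym.coe_injective (Multiset.map_injective hzinj ?_)
        obtain ⟨u, hu⟩ := hcj
        have hcp := (Units.eq_mul_inv_iff_mul_eq u).2 hu.eq.symm
        rw [Matrix.coe_units_inv] at hcp
        have h7 := congrArg Matrix.charpoly hcp
        rw [Matrix.charpoly_units_conj] at h7
        have h8 : (sc _ c.2 * DS s : G) = D fun i => a + fs s i := by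
          have e : c = ⟨z a, hzμ a⟩ := Subtype.ext ha.symm
          subst e
          exact hscale a _
        have h9 := congrArg roots h7
        rw [hDSroots, h8, hDc, roots_multiset_prod_X_sub_C] at h9
        rw [h9, hact, Sym.coe_map, ← hfs s]
        simp [Multiset.map_map, Function.comp_def]
      · induction o using Quotient.ind with | _ s => exact absurd h (hsep s ω')
      · induction o' using Quotient.ind with | _ t => exact absurd h.symm (hsep t ω)
      · refine congrArg Sum.inr (Subtype.ext ?_)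
        have := (hinv _ _ (Quotient.out ω.1) (Quotient.out ω'.1) (hNS ω) (hNS ω')
          (ConjClasses.mk_eq_mk_iff_isConj.1 (congrArg Subtype.val h))).1
        rwa [QuotientGroup.out_eq', QuotientGroup.out_eq'] at this
    · rintro ⟨x, y, rfl, hy⟩
      obtain ⟨g, rfl⟩ := QuotientGroup.mk'_surjective _ y
      rw [← map_pow] at hy
      obtain ⟨c, hc, hgc⟩ := hcent _ ((QuotientGroup.eq_one_iff _).1 hy)
      have hgr : ((g : GL (Fin n) F) : Matrix (Fin n) (Fin n) F) ^ r = (c : F) • 1 := by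
        rw [← Units.val_pow_eq_pow_val, ← SubmonoidClass.coe_pow, hgc, hscv c hc]
      by_cases hω : ((⟨c, hc⟩ : μ) : Ω) = 1
      · obtain ⟨⟨b, hb⟩, hbc⟩ := (QuotientGroup.eq_one_iff _).1 hω
        have hbc' : b ^ r = c := congrArg Subtype.val hbc
        set g' := sc b⁻¹ (μ.inv_mem hb) * g with hg'
        have hπ : π g = π g' := (hπc g g').2 ⟨b⁻¹, μ.inv_mem hb, rfl⟩
        set M := ((g' : GL (Fin n) F) : Matrix (Fin n) (Fin n) F) with hM
        have hMr : M ^ r = 1 := by
          rw [hM, hg', Subgroup.coe_mul, Units.val_mul, hscv _ (μ.inv_mem hb), smul_mul_assoc, one_mul, _root_.smul_pow, hgr,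
            smul_smul, ← Units.val_pow_eq_pow_val, ← Units.val_mul, inv_pow, hbc', inv_mul_cancel,
            Units.val_one, one_smul]
        have hMss : IsSS M := hss g' 1 (by rw [Units.val_one, one_smul]; exact hMr)
        have hfac := exists_modDecomp_dvd (g := X ^ r - 1)
          (X_pow_sub_one_separable_iff.2 hr0).squarefree (A := M)
          (by rw [map_sub, map_pow, aeval_X, map_one, hMr, sub_self])
        have hlin : ∀ P ∈ normalizedFactors M.charpoly, ∃ j, P = X - C ((z j : Fˣ) : F) := by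
          intro P hP
          have hd := hfac P hP
          rw [X_pow_sub_one_eq_prod hr.pos hζp] at hd
          obtain ⟨x, hx, hPx⟩ :=
            (irreducible_of_normalized_factor P hP).prime.exists_mem_finset_dvd hd
          rw [mem_nthRootsFinset hr.pos] at hx
          have hx0 : x ≠ 0 := fun h0 => by rw [h0, zero_pow hr.ne_zero] at hx; exact zero_ne_one hx
          obtain ⟨j, hj⟩ := hrange (Units.mk0 x hx0) (Units.ext (by simpa using hx))
          refine ⟨j, ?_⟩
          rw [hj, Units.val_mk0, ← normalize_normalized_factor P hP,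
            ← (monic_X_sub_C x).normalize_eq_self]
          exact normalize_eq_normalize_iff_associated.2
            ((irreducible_of_normalized_factor P hP).associated_of_dvd (irreducible_X_sub_C x) hPx)
        set N := normalizedFactors M.charpoly
        choose jof hjof using hlin
        let js := N.pmap jof fun a ha => ha
        have hNj : N = js.map fun j => X - C ((z j : Fˣ) : F) := by
          rw [Multiset.map_pmap]
          conv_lhs => rw [← Multiset.map_id N, ← Multiset.pmap_eq_map (fun a => a ∈ N) id N fun a ha => ha]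
          exact Multiset.pmap_congr N fun a _ _ h2 => hjof a h2
        have hchar : M.charpoly = (js.map fun j => X - C ((z j : Fˣ) : F)).prod := by
          rw [← hNj]
          refine eq_of_monic_of_associated (Matrix.charpoly_monic M) ?_
            (prod_normalizedFactors (Matrix.charpoly_monic M).ne_zero).symm
          rw [hNj]
          exact monic_multiset_prod_of_monic _ _ fun j _ => monic_X_sub_C _
        have hjc : Multiset.card js = n := by
          have h1 := congrArg natDegree hchar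
          have hd' : (js.map fun j => X - C ((z j : Fˣ) : F)) =
              (js.map fun j => ((z j : Fˣ) : F)).map fun x => X - C x := by
            rw [Multiset.map_map]; rfl
          rw [Matrix.charpoly_natDegree_eq_dim, Fintype.card_fin, hd',
            natDegree_multiset_prod_X_sub_C_eq_card, Multiset.card_map] at h1
          exact h1.symm
        let s₁ : Sym (ZMod r) n := ⟨js, hjc⟩
        refine ⟨Sum.inl (Quotient.mk _ s₁), Subtype.ext ?_⟩
        refine ConjClasses.mk_eq_mk_iff_isConj.2 ?_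
        show IsConj (π (DS s₁)) (π g)
        rw [hπ]
        refine MonoidHom.map_isConj π (hconj _ _ (isConj_of_charpoly_eq (hDss _) hMss ?_))
        rw [hDc, hfs s₁, hchar, Multiset.map_map]
        rfl
      · obtain ⟨hd, hch⟩ := hnonsplit ⟨c, hc⟩ hω g hgr
        refine ⟨Sum.inr ⟨((⟨c, hc⟩ : μ) : Ω), hω, hd⟩, Subtype.ext (ConjClasses.mk_eq_mk_iff_isConj.2 ?_)⟩
        set ω : {ω : Ω // ω ≠ 1 ∧ r ∣ n} := ⟨((⟨c, hc⟩ : μ) : Ω), hω, hd⟩
        set c' : μ := Quotient.out ω.1
        have hc' : (c' : Ω) = ((⟨c, hc⟩ : μ) : Ω) := QuotientGroup.out_eq' ω.1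
        obtain ⟨b, hb⟩ : (⟨c, hc⟩ : μ)⁻¹ * c' ∈ ρ.range := QuotientGroup.eq.1 hc'.symm
        set g' := sc (b : Fˣ) b.2 * g with hg'
        show IsConj (π (NS ω)) (π g)
        rw [(hπc g g').2 ⟨b, b.2, rfl⟩]
        have hbv : ((b : Fˣ) : F) ^ r * (c : F) = ((c' : Fˣ) : F) := by
          have hbb : b ^ r * (⟨c, hc⟩ : μ) = c' := by
            rw [show b ^ r = ρ b from rfl, hb, mul_comm, ← mul_assoc, mul_inv_cancel, one_mul]
          have := congrArg (fun w : μ => ((w : Fˣ) : F)) hbb
          simpa using this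
        have hg'r : ((g' : GL (Fin n) F) : Matrix (Fin n) (Fin n) F) ^ r = ((c' : Fˣ) : F) • 1 := by
          rw [hg', Subgroup.coe_mul, Units.val_mul, hscv _ b.2, smul_mul_assoc, one_mul, _root_.smul_pow, hgr, smul_smul, hbv]
        have hne : (c' : Ω) ≠ 1 := by rw [hc']; exact hω
        exact MonoidHom.map_isConj π (hconj _ _ (isConj_of_charpoly_eq (hss _ _ (hNS ω)) (hss _ _ hg'r)
          ((hnonsplit c' hne _ (hNS ω)).2.trans (hnonsplit c' hne _ hg'r).2.symm)))
  have hScard : Nat.card S = Nat.card Orb + (r - 1) * (if r ∣ n then 1 else 0) := by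
    rw [← Nat.card_eq_of_bijective _ hbij, Nat.card_sum]
    congr 1
    haveI : Fintype Ω := Fintype.ofFinite _
    split_ifs with hd
    · let e : {ω : Ω // ω ≠ 1 ∧ r ∣ n} ≃ {ω : Ω // ¬ ω = 1} :=
        Equiv.subtypeEquivRight fun ω => and_iff_left hd
      rw [Nat.card_congr e, Nat.card_eq_fintype_card, Fintype.card_subtype_compl, Fintype.card_subtype_eq,
        mul_one, ← Nat.card_eq_fintype_card, hΩ]
    · haveI : IsEmpty {ω : Ω // ω ≠ 1 ∧ r ∣ n} := ⟨fun w => hd w.2.2⟩
      rw [Nat.card_of_isEmpty, mul_zero]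
  let one' : S := ⟨ConjClasses.mk 1, 1, rfl, one_pow r⟩
  let e : {x : ConjClasses Q // ∃ y : Q, ConjClasses.mk y = x ∧ orderOf y = r} ≃ {x : S // ¬ x = one'} :=
    { toFun := fun x => ⟨⟨x.1, by obtain ⟨y, h1, h2⟩ := x.2; exact ⟨y, h1, h2 ▸ pow_orderOf_eq_one y⟩⟩, fun h => by
        obtain ⟨y, h1, h2⟩ := x.2
        have h' : ConjClasses.mk y = ConjClasses.mk 1 := h1.trans (congrArg Subtype.val h)
        rw [isConj_one_left.1 (ConjClasses.mk_eq_mk_iff_isConj.1 h'), orderOf_one] at h2
        exact hr.ne_one h2.symm⟩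
      invFun := fun x => ⟨x.1.1, by
        obtain ⟨y, h1, h2⟩ := x.1.2
        exact ⟨y, h1, orderOf_eq_prime h2 fun h => x.2 (Subtype.ext (h1.symm.trans (congrArg ConjClasses.mk h)))⟩⟩
      left_inv := fun _ => rfl
      right_inv := fun _ => rfl }
  haveI := Fintype.ofFinite S
  rw [Nat.card_congr e, Nat.card_eq_fintype_card, Fintype.card_subtype_compl, Fintype.card_subtype_eq,
    ← Nat.card_eq_fintype_card, hScard]
  refine classes_arith hr.two_le (by split_ifs <;> simp) (card_sym_orbits n hact) ?_ fun _ => ?_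
  · exact Nat.choose_pos (by omega)
  · calc 2 ≤ r := hr.two_le
      _ = Nat.choose r (r - 1) := by
        rw [Nat.choose_symm_of_eq_add (show r = (r - 1) + 1 by have := hr.two_le; omega), Nat.choose_one_right]
      _ ≤ Nat.choose (n + r - 1) (r - 1) := Nat.choose_le_choose _ (by omega)

end CfsgLib.GLClass.Proj
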