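import Mathlib
import Cfsg.Agent.Lib.GLClass.ProjClassCount
import Cfsg.Agent.Lib.IsometryConj.Unitary

/-!
Classes of elements of prime order in `PGL` and `PGU` when the order divides the number of scalars.
-/

set_option autoImplicit false

namespace CfsgLib.GLClass.Proj

open Matrix

theorem card_classes_congr {A B : Type*} [Group A] [Group B] (e : A ≃* B) (r : ℕ) :
    Nat.card {C : ConjClasses A // ∃ g : A, ConjClasses.mk g = C ∧ orderOf g = r} =
      Nat.card {C : ConjClasses B // ∃ g : B, ConjClasses.mk g = C ∧ orderOf g = r} := by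
  refine Nat.card_congr (Equiv.subtypeEquiv
    { toFun := ConjClasses.map e.toMonoidHom
      invFun := ConjClasses.map e.symm.toMonoidHom
      left_inv := fun C => by
        induction C using Quotient.inductionOn with
        | _ g => exact congrArg ConjClasses.mk (e.symm_apply_apply g)
      right_inv := fun C => by
        induction C using Quotient.inductionOn with
        | _ g => exact congrArg ConjClasses.mk (e.apply_symm_apply g) } ?_)
  intro C
  constructor
  · rintro ⟨g, rfl, hg⟩
    exact ⟨e g, rfl, by rw [MulEquiv.orderOf_eq, hg]⟩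
  · rintro ⟨g, hg, hgo⟩
    refine ⟨e.symm g, ?_, by rw [MulEquiv.orderOf_eq, hgo]⟩
    have h := congrArg (ConjClasses.map e.symm.toMonoidHom) hg
    induction C using Quotient.inductionOn with
    | _ x =>
      refine h.trans ?_
      exact congrArg ConjClasses.mk (e.symm_apply_apply x)

variable {F : Type*} [Field F] [Fintype F] {n : ℕ}

theorem card_pgl_classes {r : ℕ} (hn : 1 ≤ n) (hr : r.Prime) (hrq : r ∣ Fintype.card F - 1) :
    Nat.card {C : ConjClasses (GL (Fin n) F ⧸ Subgroup.center (GL (Fin n) F)) //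
      ∃ g : GL (Fin n) F ⧸ Subgroup.center (GL (Fin n) F), ConjClasses.mk g = C ∧ orderOf g = r} =
      (Nat.choose (n + r - 1) (r - 1) - r - (if r ∣ n then 1 else 0)) / r +
        r * (if r ∣ n then 1 else 0) := by
  classical
  rw [← card_proj_classes hr hn (⊤ : Subgroup (GL (Fin n) F)) ⊤
    (by rw [Subgroup.card_top, Nat.card_eq_fintype_card, Fintype.card_units]; exact hrq)
    (fun c _ ⟨x, hx⟩ => by
      have hx0 : x ≠ 0 := fun h => c.ne_zero (by rw [← hx, h, zero_pow hr.ne_zero])
      exact ⟨Units.mk0 x hx0, Subgroup.mem_top _, Units.ext (by simpa using hx)⟩)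
    (fun a b h => by
      obtain ⟨u, hu⟩ := isConj_iff.1 (CfsgLib.GLClass.isConj_units h)
      exact isConj_iff.2 ⟨⟨u, Subgroup.mem_top _⟩, Subtype.ext hu⟩)
    (fun _ _ _ => Subgroup.mem_top _) (fun _ _ => Subgroup.mem_top _)]
  refine card_classes_congr (QuotientGroup.congr _ _ (Subgroup.topEquiv (G := GL (Fin n) F)).symm ?_) r
  ext x
  simp only [Subgroup.mem_map, Subgroup.mem_center_iff]
  constructor
  · rintro ⟨y, hy, rfl⟩ g
    exact Subtype.ext (hy g.1)
  · intro hx
    exact ⟨x.1, fun g => congrArg Subtype.val (hx ⟨g, Subgroup.mem_top g⟩), Subtype.ext rfl⟩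

theorem card_pgu_classes {q r : ℕ} (hF : Fintype.card F = q ^ 2) (hn : 1 ≤ n) (hr : r.Prime)
    (hr2 : r ≠ 2) (hrq : r ∣ q + 1) :
    Nat.card {C : ConjClasses (↥(Cfsg.GU n F q) ⧸ Subgroup.center ↥(Cfsg.GU n F q)) //
      ∃ g : ↥(Cfsg.GU n F q) ⧸ Subgroup.center ↥(Cfsg.GU n F q), ConjClasses.mk g = C ∧ orderOf g = r} =
      (Nat.choose (n + r - 1) (r - 1) - r - (if r ∣ n then 1 else 0)) / r +
        r * (if r ∣ n then 1 else 0) := by
  classical
  obtain ⟨C⟩ := CfsgLib.Classical.uctx_exists hF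
  have hq := CfsgLib.Classical.two_le_q hF
  have hmem : ∀ c : Fˣ, c ∈ C.unitOne ↔ c ^ (q + 1) = 1 := fun c => by
    rw [C.mem_unitOne, C.bar_eq, ← pow_succ', ← Units.val_pow_eq_pow_val, Units.val_eq_one]
  have hcop : r.Coprime (q - 1) := hr.coprime_iff_not_dvd.2 fun hd => by
    have := Nat.dvd_sub hrq hd
    rw [show q + 1 - (q - 1) = 2 by omega] at this
    exact hr2 ((Nat.prime_dvd_prime_iff_eq hr Nat.prime_two).1 this)
  refine card_proj_classes hr hn (Cfsg.GU n F q) C.unitOne ?_ ?_ ?_ ?_ ?_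
  · let e : C.unitOne ≃ {x : F // x * C.bar x = 1} :=
      { toFun := fun u => ⟨((u : Fˣ) : F), u.2⟩
        invFun := fun x => ⟨Units.mk0 x.1 (left_ne_zero_of_mul_eq_one x.2), x.2⟩
        left_inv := fun u => Subtype.ext (Units.ext rfl)
        right_inv := fun x => rfl }
    rw [Nat.card_congr e, CfsgLib.Classical.card_norm_eq_one C hF]
    exact hrq
  · rintro c hc ⟨x, hx⟩
    have hx0 : x ≠ 0 := fun h => c.ne_zero (by rw [← hx, h, zero_pow hr.ne_zero])
    refine ⟨Units.mk0 x hx0, (hmem _).2 ?_, Units.ext (by simpa using hx)⟩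
    set y := Units.mk0 x hx0
    have h1 : (y ^ (q + 1)) ^ r = 1 := by
      rw [← pow_mul, mul_comm, pow_mul, show y ^ r = c from Units.ext (by simpa [y] using hx)]
      exact (hmem c).1 hc
    have h2 : (y ^ (q + 1)) ^ (q - 1) = 1 := by
      rw [← pow_mul, show (q + 1) * (q - 1) = q ^ 2 - 1 by
        rw [← Nat.sq_sub_sq, one_pow], ← hF, ← Fintype.card_units, pow_card_eq_one]
    have := (pow_gcd_eq_one (m := r) (n := q - 1) (a := y ^ (q + 1))).2 ⟨h1, h2⟩
    rwa [hcop.gcd_eq_one, pow_one] at this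
  · intro a b h
    exact (CfsgLib.IsometryConj.gu_isConj_iff hF a b).2 (CfsgLib.GLClass.isConj_units h)
  · intro σ d hd
    refine (CfsgLib.IsometryConj.hermAdjoint_iff C _).2 ?_
    ext i j
    rw [Matrix.mul_apply, Finset.sum_eq_single (σ j)]
    · simp only [CfsgLib.IsometryConj.hermAdjoint, mono, mmat, Matrix.transpose_apply, Matrix.map_apply,
        Matrix.of_apply, if_true, Matrix.one_apply, apply_ite C.bar, map_zero, EmbeddingLike.apply_eq_iff_eq]
      split_ifs with h1
      · subst h1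
        rw [mul_comm]; exact C.mem_unitOne.1 (hd i)
      · simp
    · intro k _ hk
      simp [mono, mmat, Ne.symm hk]
    · exact fun hh => absurd (Finset.mem_univ _) hh
  · intro a ha
    have h1 := congrFun (congrFun ((CfsgLib.IsometryConj.hermAdjoint_iff C _).1 ha) ⟨0, hn⟩) ⟨0, hn⟩
    rw [mono_scalar_val] at h1
    refine C.mem_unitOne.2 ?_
    rw [mul_comm]
    simpa [CfsgLib.IsometryConj.hermAdjoint, Matrix.mul_apply, Matrix.one_apply, apply_ite C.bar] using h1

end CfsgLib.GLClass.Proj
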