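import Mathlib

/-!
Products of two conjugates of a semisimple element in `SL_3`: every non-scalar matrix of determinant
one is similar to a product of a lower and an upper triangular matrix with prescribed diagonals.
-/

set_option autoImplicit false

namespace CfsgLib.GLClass.ThreeCover

open Matrix

variable {F : Type*} [Field F]

/-- `A` is a product of two conjugates of `x`. -/
def Cover (x A : Matrix (Fin 3) (Fin 3) F) : Prop :=
  ∃ P Q : Matrix (Fin 3) (Fin 3) F, P.det ≠ 0 ∧ Q.det ≠ 0 ∧ A = P * x * P⁻¹ * (Q * x * Q⁻¹)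

theorem Cover.similar {x A M R : Matrix (Fin 3) (Fin 3) F} (hR : R.det ≠ 0) (h : A * R = R * M)
    (hM : Cover x M) : Cover x A := by
  obtain ⟨P, Q, hP, hQ, rfl⟩ := hM
  have hu : IsUnit R.det := isUnit_iff_ne_zero.2 hR
  have hA : A = A * R * R⁻¹ := by rw [Matrix.mul_assoc, mul_nonsing_inv R hu, Matrix.mul_one]
  refine ⟨R * P, R * Q, ?_, ?_, ?_⟩
  · rw [det_mul]; exact mul_ne_zero hR hP
  · rw [det_mul]; exact mul_ne_zero hR hQ
  · rw [hA, h, Matrix.mul_inv_rev, Matrix.mul_inv_rev]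
    simp only [Matrix.mul_assoc]
    rw [← Matrix.mul_assoc R⁻¹ R, nonsing_inv_mul R hu, Matrix.one_mul]

theorem cover_of_inverses {x A P Pi Q Qi : Matrix (Fin 3) (Fin 3) F} (hP : P * Pi = 1)
    (hQ : Q * Qi = 1) (h : A = P * x * Pi * (Q * x * Qi)) : Cover x A := by
  refine ⟨P, Q, det_ne_zero_of_right_inverse hP, det_ne_zero_of_right_inverse hQ, ?_⟩
  rw [inv_eq_right_inv hP, inv_eq_right_inv hQ]
  exact h

theorem lu_cover {a b c : F} (ha : a ≠ 0) (hb : b ≠ 0) (hc : c ≠ 0) (hab : a ≠ b) (hac : a ≠ c)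
    (hbc : b ≠ c) (M : Matrix (Fin 3) (Fin 3) F) (h0 : M 0 0 = a * a)
    (h1 : M 0 0 * M 1 1 - M 0 1 * M 1 0 = a * a * (b * b))
    (h2 : M.det = a * a * (b * b) * (c * c)) : Cover (diagonal ![a, b, c]) M := by
  set u01 := M 0 1 / a with hu01
  set u02 := M 0 2 / a with hu02
  set l10 := M 1 0 / a with hl10
  set l20 := M 2 0 / a with hl20
  set u12 := (M 1 2 - l10 * u02) / b with hu12
  set l21 := (M 2 1 - l20 * u01) / b with hl21
  set L : Matrix (Fin 3) (Fin 3) F := !![a, 0, 0; l10, b, 0; l20, l21, c] with hL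
  set U : Matrix (Fin 3) (Fin 3) F := !![a, u01, u02; 0, b, u12; 0, 0, c] with hU
  have e01 : M 0 1 = a * u01 := by rw [hu01]; field_simp
  have e02 : M 0 2 = a * u02 := by rw [hu02]; field_simp
  have e10 : M 1 0 = l10 * a := by rw [hl10]; field_simp
  have e20 : M 2 0 = l20 * a := by rw [hl20]; field_simp
  have e12 : M 1 2 = l10 * u02 + b * u12 := by rw [hu12]; field_simp; ring
  have e21 : M 2 1 = l20 * u01 + l21 * b := by rw [hl21]; field_simp; ring
  have e11 : M 1 1 = l10 * u01 + b * b := by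
    rw [h0, e01, e10] at h1
    apply mul_left_cancel₀ (mul_ne_zero ha ha)
    linear_combination h1
  have e22 : M 2 2 = l20 * u02 + l21 * u12 + c * c := by
    rw [det_fin_three, h0, e01, e02, e10, e20, e12, e21, e11] at h2
    apply mul_left_cancel₀ (mul_ne_zero (mul_ne_zero ha ha) (mul_ne_zero hb hb))
    linear_combination h2
  have hM : M = L * U := by
    ext i j
    fin_cases i <;> fin_cases j <;>
      simp [hL, hU, Matrix.mul_apply, Fin.sum_univ_three, h0, e01, e02, e10, e20, e12, e21, e11,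
        e22] <;> ring
  have hab' : a - b ≠ 0 := sub_ne_zero.2 hab
  have hbc' : b - c ≠ 0 := sub_ne_zero.2 hbc
  have hac' : a - c ≠ 0 := sub_ne_zero.2 hac
  set p10 := l10 / (a - b) with hp10
  set p21 := l21 / (b - c) with hp21
  set p20 := (l20 + l21 * p10) / (a - c) with hp20
  set P : Matrix (Fin 3) (Fin 3) F := !![1, 0, 0; p10, 1, 0; p20, p21, 1] with hP
  set r01 := u01 / (b - a) with hr01
  set r12 := u12 / (c - b) with hr12
  set r02 := (u02 + u01 * r12) / (c - a) with hr02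
  set Q : Matrix (Fin 3) (Fin 3) F := !![1, r01, r02; 0, 1, r12; 0, 0, 1] with hQ
  have d10 : l10 = p10 * (a - b) := by rw [hp10]; field_simp
  have d21 : l21 = p21 * (b - c) := by rw [hp21]; field_simp
  have d20 : l20 + l21 * p10 = p20 * (a - c) := by rw [hp20]; field_simp
  have q01 : u01 = r01 * (b - a) := by
    rw [hr01, div_mul_cancel₀ _ (sub_ne_zero.2 hab.symm)]
  have q12 : u12 = r12 * (c - b) := by
    rw [hr12, div_mul_cancel₀ _ (sub_ne_zero.2 hbc.symm)]
  have q02 : u02 + u01 * r12 = r02 * (c - a) := by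
    rw [hr02, div_mul_cancel₀ _ (sub_ne_zero.2 hac.symm)]
  have hPd : P.det = 1 := by rw [hP, det_fin_three]; simp
  have hQd : Q.det = 1 := by rw [hQ, det_fin_three]; simp
  have hLP : L * P = P * diagonal ![a, b, c] := by
    ext i j
    fin_cases i <;> fin_cases j <;>
      simp [hL, hP, Matrix.mul_apply, Fin.sum_univ_three, diagonal] <;>
      first | linear_combination d10 | linear_combination d21 | linear_combination d20 | ring
  have hUQ : U * Q = Q * diagonal ![a, b, c] := by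
    ext i j
    fin_cases i <;> fin_cases j <;>
      simp [hU, hQ, Matrix.mul_apply, Fin.sum_univ_three, diagonal] <;>
      first | linear_combination q01 | linear_combination q12 | linear_combination q02 | ring
  refine ⟨P, Q, by rw [hPd]; exact one_ne_zero, by rw [hQd]; exact one_ne_zero, ?_⟩
  rw [hM, ← hLP, ← hUQ, Matrix.mul_assoc L P, mul_nonsing_inv P (by rw [hPd]; exact isUnit_one),
    Matrix.mul_assoc U Q, mul_nonsing_inv Q (by rw [hQd]; exact isUnit_one), Matrix.mul_one,
    Matrix.mul_one]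

/-- Companion matrix. -/
def comp (k y z : F) : Matrix (Fin 3) (Fin 3) F := !![0, 0, k; 1, 0, y; 0, 1, z]

/-- Non-cyclic normal form: `r + u φ`. -/
def plane (r s : F) : Matrix (Fin 3) (Fin 3) F := !![0, r * r - r * s, 0; 1, s, 0; 0, 0, r]

theorem exists_normal (A : Matrix (Fin 3) (Fin 3) F) (hA : ¬ ∃ c : F, A = c • 1) :
    ∃ R M : Matrix (Fin 3) (Fin 3) F, R.det ≠ 0 ∧ A * R = R * M ∧
      ((∃ k y z, M = comp k y z) ∨ ∃ r s, M = plane r s) := by
  classical
  let K : (Fin 3 → F) → Matrix (Fin 3) (Fin 3) F :=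
    fun v => (Matrix.of ![v, A *ᵥ v, A *ᵥ (A *ᵥ v)])ᵀ
  by_cases hcyc : ∃ v, (K v).det ≠ 0
  · obtain ⟨v, hv⟩ := hcyc
    set w := (K v)⁻¹ *ᵥ (A *ᵥ (A *ᵥ (A *ᵥ v))) with hw
    refine ⟨K v, comp (w 0) (w 1) (w 2), hv, ?_, Or.inl ⟨_, _, _, rfl⟩⟩
    have hKw : (K v) *ᵥ w = A *ᵥ (A *ᵥ (A *ᵥ v)) := by
      rw [hw, mulVec_mulVec, mul_nonsing_inv _ (isUnit_iff_ne_zero.2 hv), one_mulVec]
    have hcol : ∀ u : Fin 3 → F, ∀ i, (A *ᵥ u) i = A i 0 * u 0 + A i 1 * u 1 + A i 2 * u 2 := by
      intro u i; simp [mulVec, dotProduct, Fin.sum_univ_three]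
    ext i j
    fin_cases j
    · simp [-mulVec_mulVec, Matrix.mul_apply, Fin.sum_univ_three, K, comp, Matrix.transpose_apply,
        hcol v i]
    · simp [-mulVec_mulVec, Matrix.mul_apply, Fin.sum_univ_three, K, comp, Matrix.transpose_apply,
        hcol (A *ᵥ v) i]
    · have h := congrFun hKw i
      simp only [mulVec, dotProduct, Fin.sum_univ_three] at h
      simp [-mulVec_mulVec, Matrix.mul_apply, Fin.sum_univ_three, K, comp, Matrix.transpose_apply, mulVec,
        dotProduct] at h ⊢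
      linear_combination -h
  simp only [not_exists, not_not] at hcyc
  obtain ⟨v, hv⟩ : ∃ v : Fin 3 → F, LinearIndependent F ![v, A *ᵥ v] := by
    by_contra hne
    simp only [not_exists] at hne
    obtain ⟨c, hc⟩ := LinearMap.exists_eq_smul_id_of_forall_notLinearIndependent
      (f := Matrix.toLin' A) (fun v => by simpa [Matrix.toLin'_apply] using hne v)
    refine hA ⟨c, ?_⟩
    apply Matrix.toLin'.injective
    rw [hc, map_smul, Matrix.toLin'_one]
    rfl
  obtain ⟨w, hw⟩ : ∃ w : Fin 3 → F, (Matrix.of ![v, A *ᵥ v, w])ᵀ.det ≠ 0 := by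
    obtain ⟨w, hw⟩ : ∃ w : Fin 3 → F, w ∉ Submodule.span F (Set.range ![v, A *ᵥ v]) := by
      by_contra hne
      simp only [not_exists, not_not] at hne
      have h : Submodule.span F (Set.range ![v, A *ᵥ v]) = ⊤ := eq_top_iff.2 fun w _ => hne w
      have h2 := finrank_span_eq_card hv
      rw [h] at h2
      simp at h2
    refine ⟨w, ?_⟩
    rw [det_transpose, ← isUnit_iff_ne_zero, ← isUnit_iff_isUnit_det,
      ← linearIndependent_rows_iff_isUnit]
    have : LinearIndependent F (Fin.snoc ![v, A *ᵥ v] w : Fin 3 → Fin 3 → F) :=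
      linearIndependent_finSnoc.2 ⟨hv, hw⟩
    convert this using 1
    ext i j; fin_cases i <;> rfl
  set R0 : Matrix (Fin 3) (Fin 3) F := (Matrix.of ![v, A *ᵥ v, w])ᵀ with hR0
  have hR0u : IsUnit R0.det := isUnit_iff_ne_zero.2 hw
  set M := R0⁻¹ * A * R0 with hM
  have hAR : A * R0 = R0 * M := by
    rw [hM, ← Matrix.mul_assoc, ← Matrix.mul_assoc, mul_nonsing_inv _ hR0u, Matrix.one_mul]
  have hcR0 : ∀ u, R0 *ᵥ u = fun i => u 0 * v i + u 1 * (A *ᵥ v) i + u 2 * w i := by
    intro u; funext i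
    simp [hR0, mulVec, dotProduct, Fin.sum_univ_three, Matrix.transpose_apply]; ring
  have hinj : Function.Injective (R0.mulVec) := Matrix.mulVec_injective_of_isUnit
    ((isUnit_iff_isUnit_det _).2 hR0u)
  have hMu : ∀ u, R0 *ᵥ (M *ᵥ u) = A *ᵥ (R0 *ᵥ u) := by
    intro u; rw [mulVec_mulVec, mulVec_mulVec, ← hAR]
  have c0 : M *ᵥ ![1, 0, 0] = ![0, 1, 0] := by
    apply hinj
    show R0 *ᵥ _ = R0 *ᵥ _
    rw [hMu, hcR0, hcR0]
    simp
  have hK : ∀ u, ((Matrix.of ![u, M *ᵥ u, M *ᵥ (M *ᵥ u)])ᵀ).det = 0 := by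
    intro u
    have hmul : K (R0 *ᵥ u) = R0 * (Matrix.of ![u, M *ᵥ u, M *ᵥ (M *ᵥ u)])ᵀ := by
      ext i j
      fin_cases j
      · rfl
      · show (A *ᵥ (R0 *ᵥ u)) i = _
        rw [← hMu]; rfl
      · show (A *ᵥ (A *ᵥ (R0 *ᵥ u))) i = _
        rw [← hMu u, ← hMu]; rfl
    have h := hcyc (R0 *ᵥ u)
    rw [hmul, det_mul] at h
    exact (mul_eq_zero.1 h).resolve_left hw
  have m00 : M 0 0 = 0 := by simpa [mulVec, dotProduct, Fin.sum_univ_three] using congrFun c0 0
  have m10 : M 1 0 = 1 := by simpa [mulVec, dotProduct, Fin.sum_univ_three] using congrFun c0 1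
  have m20 : M 2 0 = 0 := by simpa [mulVec, dotProduct, Fin.sum_univ_three] using congrFun c0 2
  set a := M 0 1 with ha
  set b := M 0 2 with hb
  set s := M 1 1 with hs
  set t := M 1 2 with ht
  set r := M 2 2 with hr
  have m21 : M 2 1 = 0 := by
    have h := hK ![1, 0, 0]
    simpa [-mulVec_mulVec, det_fin_three, Matrix.transpose_apply, mulVec, dotProduct, Fin.sum_univ_three, m00, m10,
      m20] using h
  have f0 : ∀ x : F, ∀ y : F, (-r * x + a * y + b) * ((-r * x + a * y + b) + s * (x + (s - r) * y + t))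
      - a * ((x + (s - r) * y + t) * (x + (s - r) * y + t)) = 0 := by
    intro x y
    have h := hK ![x, y, 1]
    simp [-mulVec_mulVec, det_fin_three, Matrix.transpose_apply, mulVec, dotProduct, Fin.sum_univ_three, m00, m10,
      m20, m21, ← ha, ← hb, ← hs, ← ht, ← hr] at h
    linear_combination h
  have har : a = r * r - r * s := by
    by_contra hne
    have hd : a + r * (s - r) ≠ 0 := fun h => hne (by linear_combination h)
    set y := (1 - b - r * t) / (a + r * (s - r)) with hy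
    have hy' : y * (a + r * (s - r)) = 1 - b - r * t := by rw [hy]; field_simp
    have h := f0 (-(s - r) * y - t) y
    have h1 : -r * (-(s - r) * y - t) + a * y + b = 1 := by linear_combination hy'
    rw [h1] at h
    apply one_ne_zero (α := F)
    linear_combination h
  have hbt : b + r * t = 0 := by
    have h1 := f0 0 0
    have h2 := f0 1 0
    rw [har] at h1 h2
    have h3 : (b + r * t) * (b + (s - r) * t) = 0 := by linear_combination h1
    have h4 : (b + r * t) * (s - 2 * r) = 0 := by linear_combination h2 - h1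
    rcases mul_eq_zero.1 h4 with h5 | h5
    · exact h5
    · have h6 : s - r = r := by linear_combination h5
      rw [h6] at h3
      rcases mul_eq_zero.1 h3 with h7 | h7 <;> exact h7
  set S : Matrix (Fin 3) (Fin 3) F := !![1, 0, -t; 0, 1, 0; 0, 0, 1] with hS
  refine ⟨R0 * S, plane r s, ?_, ?_, Or.inr ⟨r, s, rfl⟩⟩
  · rw [det_mul]
    refine mul_ne_zero hw ?_
    rw [hS, det_fin_three]; simp
  · have : M * S = S * plane r s := by
      ext i j
      fin_cases i <;> fin_cases j <;>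
        simp [hS, plane, Matrix.mul_apply, Fin.sum_univ_three, m00, m10, m20, m21, ← ha, ← hb,
          ← hs, ← ht, ← hr, har] <;>
        first | linear_combination hbt | ring
    rw [← Matrix.mul_assoc, hAR, Matrix.mul_assoc, this, Matrix.mul_assoc]

theorem det_similar {A R M : Matrix (Fin 3) (Fin 3) F} (hR : R.det ≠ 0) (h : A * R = R * M) :
    M.det = A.det := by
  have := congrArg Matrix.det h
  rw [det_mul, det_mul, mul_comm] at this
  exact (mul_left_cancel₀ hR this).symm

theorem cover_generic {a b c : F} (hab : a ≠ b) (hac : a ≠ c) (hbc : b ≠ c) (habc : a * b * c = 1)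
    (A : Matrix (Fin 3) (Fin 3) F) (hA : ¬ ∃ e : F, A = e • 1) (hdet : A.det = 1) :
    Cover (diagonal ![a, b, c]) A := by
  have ha : a ≠ 0 := fun h => by simp [h] at habc
  have hb : b ≠ 0 := fun h => by simp [h] at habc
  have hc : c ≠ 0 := fun h => by simp [h] at habc
  obtain ⟨R, M, hR, hAR, hM⟩ := exists_normal A hA
  refine Cover.similar hR hAR ?_
  have hMd : M.det = 1 := (det_similar hR hAR).trans hdet
  have hd : (1 : F) = a * a * (b * b) * (c * c) := by
    linear_combination -(a * b * c + 1) * habc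
  rcases hM with ⟨k, y, z, rfl⟩ | ⟨r, s, rfl⟩
  · set c1 := a * a with hc1
    set x := a * a * (b * b) with hx
    set P : Matrix (Fin 3) (Fin 3) F := !![1, -c1, x; 0, 1, 0; 0, 0, 1]
    set N : Matrix (Fin 3) (Fin 3) F :=
      !![c1, -c1 * c1 - x, k + (y + x) * c1 - z * x; 1, -c1, y + x; 0, 1, z] with hN
    have hP : P.det ≠ 0 := by simp [P, det_fin_three]
    have hPN : comp k y z * P = P * N := by
      ext i j
      fin_cases i <;> fin_cases j <;> simp [P, N, comp, Matrix.mul_apply, Fin.sum_univ_three] <;> ring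
    refine Cover.similar hP hPN (lu_cover ha hb hc hab hac hbc N (by simp [N, hc1]) ?_ ?_)
    · simp [N, ← hx]
    · rw [det_similar hP hPN, hMd, hd]
  · have hr : r ≠ 0 := by
      intro h
      simp [plane, h, det_fin_three] at hMd
    set a1 := a * a - r with ha1
    set a2 := a * a * (b * b) / r - a * a with ha2
    set a3 := s - 2 * r - a1 - a2 with ha3
    set N : Matrix (Fin 3) (Fin 3) F :=
      !![r + a1, a2, a3; a1, r + a2, a3; a1, a2, r + a3] with hN
    have hN0 : N 0 0 = a * a := by simp [hN, ha1]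
    have hN1 : N 0 0 * N 1 1 - N 0 1 * N 1 0 = a * a * (b * b) := by
      simp [hN, ha1, ha2]; field_simp; ring
    by_cases hz : a1 = 0 ∧ a2 = 0 ∧ a3 = 0
    · obtain ⟨h1, h2, h3⟩ := hz
      have hs : s = 2 * r := by
        rw [h1, h2] at ha3; linear_combination -ha3 + h3
      set T : Matrix (Fin 3) (Fin 3) F := !![r, 1, 0; 0, r, 0; 0, 0, r] with hT
      set P : Matrix (Fin 3) (Fin 3) F := !![-r, 1, 0; 1, 0, 0; 0, 0, 1] with hP'
      have hP : P.det ≠ 0 := by simp [P, det_fin_three]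
      have hPT : plane r s * P = P * T := by
        ext i j
        fin_cases i <;> fin_cases j <;>
          simp [P, T, plane, hs, Matrix.mul_apply, Fin.sum_univ_three] <;> ring
      have h1' : r = a * a := by rw [ha1] at h1; linear_combination -h1
      have h2' : a * a * (b * b) = r * (a * a) := by
        rw [ha2, sub_eq_zero, div_eq_iff hr] at h2
        linear_combination h2
      refine Cover.similar hP hPT (lu_cover ha hb hc hab hac hbc T (by simp [T, h1']) ?_ ?_)
      · simp [T]; linear_combination -h2' + r * h1'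
      · rw [det_similar hP hPT, hMd, hd]
    · obtain ⟨x, y, hxs, hys, hne⟩ : ∃ x y : Fin 3 → F, x 0 + x 1 + x 2 = 1 ∧
          y 0 + y 1 + y 2 = 0 ∧ (Matrix.of ![![a1, a2, a3], x, y]).det ≠ 0 := by
        by_cases g1 : a1 = 0
        · by_cases g2 : a2 = 0
          · refine ⟨![1, 0, 0], ![-1, 1, 0], by simp, by simp, ?_⟩
            have g3 : a3 ≠ 0 := fun g3 => hz ⟨g1, g2, g3⟩
            simpa [det_fin_three] using g3
          · refine ⟨![1, 0, 0], ![-1, 0, 1], by simp, by simp, ?_⟩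
            simpa [det_fin_three] using g2
        · refine ⟨![0, 1, 0], ![0, -1, 1], by simp, by simp, ?_⟩
          simpa [det_fin_three] using g1
      set al : Fin 3 → F := ![a1, a2, a3] with hal
      set P : Matrix (Fin 3) (Fin 3) F :=
        Matrix.of ![fun j => al j + x j * (r - s), x, y] with hP'
      have hP : P.det ≠ 0 := by
        convert hne using 1
        simp [P, al, det_fin_three]; ring
      have hPN : plane r s * P = P * N := by
        ext i j
        fin_cases i <;> fin_cases j <;>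
          simp [P, N, al, plane, Matrix.mul_apply, Fin.sum_univ_three] <;>
          first
            | linear_combination (-a1) * hys
            | linear_combination (-a2) * hys
            | linear_combination (-a3) * hys
            | linear_combination (-a1) * hxs
            | linear_combination (-a2) * hxs
            | linear_combination (-a3) * hxs
            | linear_combination (-a1) * ha3 + (-a1) * (r - s) * hxs
            | linear_combination (-a2) * ha3 + (-a2) * (r - s) * hxs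
            | linear_combination (-a3) * ha3 + (-a3) * (r - s) * hxs
      refine Cover.similar hP hPN (lu_cover ha hb hc hab hac hbc N hN0 hN1 ?_)
      rw [det_similar hP hPN, hMd, hd]

/-- An element of order four in `SL_3`. -/
def xthree : Matrix (Fin 3) (Fin 3) F := !![0, -1, 0; 1, 0, 0; 0, 0, 1]

theorem cover_zmod_comp (y z : ZMod 3) : Cover (xthree (F := ZMod 3)) (comp 1 y z) := by
  fin_cases y <;> fin_cases z
  · exact cover_of_inverses (P := !![0, 0, 1; 0, 1, 0; 2, 0, 0]) (Pi := !![0, 0, 2; 0, 1, 0; 1, 0, 0]) (Q := !![0, 1, 0; 0, 0, 1; 1, 0, 0]) (Qi := !![0, 0, 1; 1, 0, 0; 0, 1, 0])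
      (by decide +kernel) (by decide +kernel) (by decide +kernel)
  · exact cover_of_inverses (P := !![0, 0, 1; 0, 1, 0; 2, 0, 0]) (Pi := !![0, 0, 2; 0, 1, 0; 1, 0, 0]) (Q := !![0, 1, 0; 1, 2, 1; 1, 0, 0]) (Qi := !![0, 0, 1; 1, 0, 0; 1, 1, 2])
      (by decide +kernel) (by decide +kernel) (by decide +kernel)
  · exact cover_of_inverses (P := !![0, 0, 1; 0, 1, 0; 2, 0, 0]) (Pi := !![0, 0, 2; 0, 1, 0; 1, 0, 0]) (Q := !![0, 1, 0; 2, 1, 1; 1, 0, 0]) (Qi := !![0, 0, 1; 1, 0, 0; 2, 1, 1])
      (by decide +kernel) (by decide +kernel) (by decide +kernel)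
  · exact cover_of_inverses (P := !![0, 0, 1; 0, 1, 0; 2, 0, 1]) (Pi := !![1, 0, 2; 0, 1, 0; 1, 0, 0]) (Q := !![0, 1, 0; 2, 1, 1; 1, 0, 0]) (Qi := !![0, 0, 1; 1, 0, 0; 2, 1, 1])
      (by decide +kernel) (by decide +kernel) (by decide +kernel)
  · exact cover_of_inverses (P := !![0, 0, 1; 0, 1, 0; 2, 0, 1]) (Pi := !![1, 0, 2; 0, 1, 0; 1, 0, 0]) (Q := !![0, 1, 0; 0, 0, 1; 1, 0, 0]) (Qi := !![0, 0, 1; 1, 0, 0; 0, 1, 0])
      (by decide +kernel) (by decide +kernel) (by decide +kernel)
  · exact cover_of_inverses (P := !![0, 0, 1; 0, 1, 0; 2, 0, 1]) (Pi := !![1, 0, 2; 0, 1, 0; 1, 0, 0]) (Q := !![0, 1, 0; 1, 2, 1; 1, 0, 0]) (Qi := !![0, 0, 1; 1, 0, 0; 1, 1, 2])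
      (by decide +kernel) (by decide +kernel) (by decide +kernel)
  · exact cover_of_inverses (P := !![0, 0, 1; 0, 1, 0; 2, 0, 2]) (Pi := !![2, 0, 2; 0, 1, 0; 1, 0, 0]) (Q := !![0, 1, 0; 1, 2, 1; 1, 0, 0]) (Qi := !![0, 0, 1; 1, 0, 0; 1, 1, 2])
      (by decide +kernel) (by decide +kernel) (by decide +kernel)
  · exact cover_of_inverses (P := !![0, 0, 1; 0, 1, 0; 2, 0, 2]) (Pi := !![2, 0, 2; 0, 1, 0; 1, 0, 0]) (Q := !![0, 1, 0; 2, 1, 1; 1, 0, 0]) (Qi := !![0, 0, 1; 1, 0, 0; 2, 1, 1])
      (by decide +kernel) (by decide +kernel) (by decide +kernel)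
  · exact cover_of_inverses (P := !![0, 0, 1; 0, 1, 0; 2, 0, 2]) (Pi := !![2, 0, 2; 0, 1, 0; 1, 0, 0]) (Q := !![0, 1, 0; 0, 0, 1; 1, 0, 0]) (Qi := !![0, 0, 1; 1, 0, 0; 0, 1, 0])
      (by decide +kernel) (by decide +kernel) (by decide +kernel)

theorem cover_zmod_one_two : Cover (xthree (F := ZMod 3)) (plane 1 2) :=
  cover_of_inverses (P := !![0, 0, 1; 0, 1, 2; 2, 0, 0]) (Pi := !![0, 0, 2; 1, 1, 0; 1, 0, 0]) (Q := !![0, 1, 1; 2, 0, 2; 1, 1, 0]) (Qi := !![1, 1, 2; 2, 2, 2; 2, 1, 1])
      (by decide +kernel) (by decide +kernel) (by decide +kernel)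

theorem cover_zmod_two_zero : Cover (xthree (F := ZMod 3)) (plane 2 0) :=
  cover_of_inverses (P := !![0, 0, 1; 0, 1, 1; 2, 0, 0]) (Pi := !![0, 0, 2; 2, 1, 0; 1, 0, 0]) (Q := !![0, 1, 2; 1, 0, 2; 1, 1, 0]) (Qi := !![1, 2, 2; 2, 1, 2; 1, 1, 2])
      (by decide +kernel) (by decide +kernel) (by decide +kernel)

theorem cover_zmod (A : Matrix (Fin 3) (Fin 3) (ZMod 3)) (hA : ¬ ∃ e : ZMod 3, A = e • 1)
    (hdet : A.det = 1) : Cover (xthree (F := ZMod 3)) A := by
  obtain ⟨R, M, hR, hAR, hM⟩ := exists_normal A hA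
  refine Cover.similar hR hAR ?_
  have hMd : M.det = 1 := (det_similar hR hAR).trans hdet
  rcases hM with ⟨k, y, z, rfl⟩ | ⟨r, s, rfl⟩
  · have hk : k = 1 := by simpa [comp, det_fin_three] using hMd
    subst hk
    exact cover_zmod_comp y z
  · have h : r * r * (s - r) = 1 := by
      simp [plane, det_fin_three] at hMd
      linear_combination hMd
    have hkey : ∀ r s : ZMod 3, r * r * (s - r) = 1 → (r = 1 ∧ s = 2) ∨ (r = 2 ∧ s = 0) := by decide
    have := hkey r s h
    rcases this with ⟨rfl, rfl⟩ | ⟨rfl, rfl⟩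
    · exact cover_zmod_one_two
    · exact cover_zmod_two_zero

theorem Cover.map {G : Type*} [Field G] (f : F →+* G) {x A : Matrix (Fin 3) (Fin 3) F}
    (h : Cover x A) : Cover (f.mapMatrix x) (f.mapMatrix A) := by
  obtain ⟨P, Q, hP, hQ, rfl⟩ := h
  have hP' : IsUnit P.det := isUnit_iff_ne_zero.2 hP
  have hQ' : IsUnit Q.det := isUnit_iff_ne_zero.2 hQ
  refine cover_of_inverses (P := f.mapMatrix P) (Pi := f.mapMatrix P⁻¹) (Q := f.mapMatrix Q)
    (Qi := f.mapMatrix Q⁻¹) ?_ ?_ ?_
  · rw [← map_mul, mul_nonsing_inv _ hP', map_one]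
  · rw [← map_mul, mul_nonsing_inv _ hQ', map_one]
  · simp only [map_mul]

theorem cover_card_three [Fintype F] (hF : Fintype.card F = 3) (A : Matrix (Fin 3) (Fin 3) F)
    (hA : ¬ ∃ e : F, A = e • 1) (hdet : A.det = 1) : Cover (xthree (F := F)) A := by
  haveI : Fact (Nat.Prime 3) := ⟨Nat.prime_three⟩
  let e : ZMod 3 ≃+* F := ZMod.ringEquivOfPrime F Nat.prime_three hF
  set B := e.symm.toRingHom.mapMatrix A with hB
  have hBA : e.toRingHom.mapMatrix B = A := by ext i j; simp [hB]
  have hdetB : B.det = 1 := by rw [hB, ← RingHom.map_det, hdet, map_one]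
  have hne : ¬ ∃ c : ZMod 3, B = c • 1 := by
    rintro ⟨c, hc⟩
    refine hA ⟨e c, ?_⟩
    rw [← hBA, hc]
    ext i j
    by_cases hij : i = j <;> simp [hij]
  have h := (cover_zmod B hne hdetB).map e.toRingHom
  rw [hBA] at h
  convert h using 1
  ext i j
  fin_cases i <;> fin_cases j <;> simp [xthree]

end CfsgLib.GLClass.ThreeCover
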