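import Mathlib
import Cfsg.Agent.Lib.GLClass.JordanForms

/-!
# The centraliser of a unipotent matrix of given Jordan type in the general linear group

A matrix commuting with the nilpotent part is built from lower triangular Toeplitz blocks. The corner
entries of the square blocks give a multiplicative retraction with nilpotent kernel onto the block
diagonal matrices indexed by the block sizes.
-/

set_option autoImplicit false
set_option linter.all false

namespace CfsgLib.GLClass.Toeplitz

open Matrix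

variable {F : Type*} [Field F] {t : ℕ} (d : Fin t → ℕ)

local notation "ι" => ((k : Fin t) × Fin (d k))

/-- entry with natural number indices, zero outside -/
def ent (X : Matrix ι ι F) (k : Fin t) (a : ℕ) (l : Fin t) (b : ℕ) : F :=
  if h : a < d k ∧ b < d l then X ⟨k, ⟨a, h.1⟩⟩ ⟨l, ⟨b, h.2⟩⟩ else 0

theorem ent_apply (X : Matrix ι ι F) (p q : ι) : ent d X p.1 p.2 q.1 q.2 = X p q := by
  rw [ent, dif_pos ⟨p.2.isLt, q.2.isLt⟩]

/-- commuting with the Jordan matrix, in entries -/
def IsComm (X : Matrix ι ι F) : Prop :=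
  X * Cfsg.jordanTypeMatrix d F = Cfsg.jordanTypeMatrix d F * X

theorem ent_mul_shift (X : Matrix ι ι F) (k : Fin t) (a : ℕ) (l : Fin t) (b : ℕ) (ha : a < d k) (hb : b < d l) :
    ent d (X * (Cfsg.jordanTypeMatrix d F - 1)) k a l b = ent d X k a l (b + 1) := by
  rw [ent, dif_pos ⟨ha, hb⟩, Matrix.mul_apply]
  have hN : ∀ p q : ι, (Cfsg.jordanTypeMatrix d F - 1) p q = if p.1 = q.1 ∧ (p.2 : ℕ) = q.2 + 1 then 1 else 0 := by
    intro p q
    have := JordanForms.sub_one_pow_apply (F := F) d 1 p q
    rwa [pow_one] at this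
  by_cases hlt : b + 1 < d l
  · rw [Finset.sum_eq_single (⟨l, ⟨b + 1, hlt⟩⟩ : ι) (fun x _ hx => by
      rw [hN, if_neg, mul_zero]
      rintro ⟨e1, e2⟩
      obtain ⟨kx, ix⟩ := x
      subst e1
      exact hx (by rw [Sigma.mk.inj_iff]; exact ⟨rfl, heq_of_eq (Fin.ext e2)⟩)) (by simp), hN, if_pos ⟨rfl, rfl⟩,
      mul_one, ent, dif_pos ⟨ha, hlt⟩]
  · rw [Finset.sum_eq_zero, ent, dif_neg (by omega)]
    intro x _
    rw [hN, if_neg, mul_zero]
    rintro ⟨e1, e2⟩
    have := x.2.isLt
    have hd : d x.1 = d l := congrArg d e1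
    simp only at e2
    omega

theorem ent_shift_mul (X : Matrix ι ι F) (k : Fin t) (a : ℕ) (l : Fin t) (b : ℕ) (ha : a < d k) (hb : b < d l) :
    ent d ((Cfsg.jordanTypeMatrix d F - 1) * X) k a l b = if a = 0 then 0 else ent d X k (a - 1) l b := by
  rw [ent, dif_pos ⟨ha, hb⟩, Matrix.mul_apply]
  have hN : ∀ p q : ι, (Cfsg.jordanTypeMatrix d F - 1) p q = if p.1 = q.1 ∧ (p.2 : ℕ) = q.2 + 1 then 1 else 0 := by
    intro p q
    have := JordanForms.sub_one_pow_apply (F := F) d 1 p q
    rwa [pow_one] at this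
  by_cases h0 : a = 0
  · rw [if_pos h0, Finset.sum_eq_zero]
    intro x _
    rw [hN, if_neg, zero_mul]
    rintro ⟨e1, e2⟩
    simp only at e2
    omega
  · rw [if_neg h0, Finset.sum_eq_single (⟨k, ⟨a - 1, by omega⟩⟩ : ι) (fun x _ hx => by
      rw [hN, if_neg, zero_mul]
      rintro ⟨e1, e2⟩
      obtain ⟨kx, ix⟩ := x
      subst e1
      simp only at e2
      exact hx (by rw [Sigma.mk.inj_iff]; exact ⟨rfl, heq_of_eq (Fin.ext (by simp only; omega))⟩)) (by simp), hN,
      if_pos ⟨rfl, by simp only; omega⟩, one_mul, ent, dif_pos ⟨by omega, hb⟩]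

theorem isComm_iff (X : Matrix ι ι F) : IsComm d X ↔ ∀ k a l b, a < d k → b < d l →
    (if a = 0 then 0 else ent d X k (a - 1) l b) = ent d X k a l (b + 1) := by
  have h : IsComm d X ↔ (Cfsg.jordanTypeMatrix d F - 1) * X = X * (Cfsg.jordanTypeMatrix d F - 1) := by
    rw [IsComm, sub_mul, one_mul, mul_sub, mul_one, sub_left_inj, eq_comm]
  rw [h]
  constructor
  · intro e k a l b ha hb
    rw [← ent_shift_mul d X k a l b ha hb, ← ent_mul_shift d X k a l b ha hb, e]
  · intro e
    refine Matrix.ext fun p q => ?_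
    rw [← ent_apply d ((Cfsg.jordanTypeMatrix d F - 1) * X) p q, ← ent_apply d (X * (Cfsg.jordanTypeMatrix d F - 1)) p q, ent_shift_mul d X _ _ _ _ p.2.isLt q.2.isLt,
      ent_mul_shift d X _ _ _ _ p.2.isLt q.2.isLt]
    exact e _ _ _ _ p.2.isLt q.2.isLt

theorem ent_of_le (X : Matrix ι ι F) (hX : IsComm d X) (k l : Fin t) : ∀ b a : ℕ, a < d k → b < d l →
    ent d X k a l b = if b ≤ a then ent d X k (a - b) l 0 else 0 := by
  intro b
  induction b with
  | zero => intro a _ _; simp
  | succ b ih =>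
    intro a ha hb
    rw [← (isComm_iff d X).1 hX k a l b ha (by omega)]
    by_cases h0 : a = 0
    · subst h0; simp
    · rw [if_neg h0, ih (a - 1) (by omega) (by omega)]
      by_cases h : b + 1 ≤ a
      · rw [if_pos h, if_pos (by omega), show a - 1 - b = a - (b + 1) by omega]
      · rw [if_neg h, if_neg (by omega)]

theorem ent_first_zero (X : Matrix ι ι F) (hX : IsComm d X) (k l : Fin t) (hl : 0 < d l) (c : ℕ)
    (h : d l + c < d k) : ent d X k c l 0 = 0 := by
  have e := (isComm_iff d X).1 hX k (c + d l) l (d l - 1) (by omega) (by omega)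
  rw [if_neg (by omega), show d l - 1 + 1 = d l by omega] at e
  have z : ent d X k (c + d l) l (d l) = 0 := by rw [ent, dif_neg (by omega)]
  rw [z, ent_of_le d X hX k l (d l - 1) (c + d l - 1) (by omega) (by omega), if_pos (by omega),
    show c + d l - 1 - (d l - 1) = c by omega] at e
  exact e

/-- the Toeplitz matrix with given first columns of blocks -/
def toep (g : Fin t → Fin t → ℕ → F) : Matrix ι ι F :=
  Matrix.of fun p q => if (q.2 : ℕ) ≤ p.2 ∧ d p.1 ≤ d q.1 + (p.2 - q.2) then g p.1 q.1 (p.2 - q.2) else 0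

theorem ent_toep (g : Fin t → Fin t → ℕ → F) (k l : Fin t) (a b : ℕ) (ha : a < d k) (hb : b < d l) :
    ent d (toep d g) k a l b = if b ≤ a ∧ d k ≤ d l + (a - b) then g k l (a - b) else 0 := by
  rw [ent, dif_pos ⟨ha, hb⟩]
  rfl

theorem isComm_toep (g : Fin t → Fin t → ℕ → F) : IsComm d (toep d g) := by
  rw [isComm_iff]
  intro k a l b ha hb
  by_cases hb1 : b + 1 < d l
  · rw [ent_toep d g k l a (b + 1) ha hb1]
    by_cases h0 : a = 0
    · subst h0; rw [if_pos rfl, if_neg (by omega)]
    · rw [if_neg h0, ent_toep d g k l (a - 1) b (by omega) hb]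
      simp only [show a - 1 - b = a - (b + 1) by omega]
      by_cases h : b + 1 ≤ a ∧ d k ≤ d l + (a - (b + 1))
      · rw [if_pos h, if_pos ⟨by omega, h.2⟩]
      · rw [if_neg h, if_neg]
        rintro ⟨h1, h2⟩
        exact h ⟨by omega, h2⟩
  · rw [show ent d (toep d g) k a l (b + 1) = 0 by rw [ent, dif_neg (by omega)]]
    by_cases h0 : a = 0
    · rw [if_pos h0]
    · rw [if_neg h0, ent_toep d g k l (a - 1) b (by omega) hb, if_neg (by omega)]

/-- commuting matrices are determined by free coordinates -/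
noncomputable def commEquiv : {X : Matrix ι ι F // IsComm d X} ≃
    ((x : Fin t × Fin t) → Fin (min (d x.1) (d x.2)) → F) where
  toFun X x j := ent d X.1 x.1 (d x.1 - 1 - j.1) x.2 0
  invFun g := ⟨toep d (fun k l c => if h : d k - 1 - c < min (d k) (d l) then g (k, l) ⟨_, h⟩ else 0),
    isComm_toep d _⟩
  left_inv X := Subtype.ext <| Matrix.ext fun p q => by
    have hp := p.2.isLt
    have hq := q.2.isLt
    show toep d (fun k l c => if h : d k - 1 - c < min (d k) (d l) then ent d X.1 k (d k - 1 - (d k - 1 - c)) l 0 else 0) p q = X.1 p q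
    rw [← ent_apply d (toep d _) p q, ← ent_apply d X.1 p q, ent_toep d _ _ _ _ _ hp hq, ent_of_le d X.1 X.2 _ _ _ _ hp hq]
    by_cases h : (q.2 : ℕ) ≤ p.2
    · rw [if_pos h]
      by_cases h2 : d p.1 ≤ d q.1 + ((p.2 : ℕ) - q.2)
      · rw [if_pos ⟨h, h2⟩, dif_pos (by omega)]
        congr 1
        omega
      · rw [if_neg (fun e => h2 e.2), ent_first_zero d X.1 X.2 _ _ (by omega) _ (by omega)]
    · rw [if_neg h, if_neg (fun e => h e.1)]
  right_inv g := by
    funext x j
    have hj := j.isLt
    obtain ⟨k, l⟩ := x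
    simp only
    simp only at hj
    rw [ent_toep d _ _ _ _ _ (by omega) (by omega), if_pos ⟨by omega, by omega⟩, Nat.sub_zero,
      dif_pos (by omega)]
    congr 1
    exact Fin.ext (by simp only; omega)

/-- the corner entries of square blocks -/
def red (X : Matrix ι ι F) : Matrix (Fin t) (Fin t) F :=
  Matrix.of fun k l => if d k = d l then ent d X k 0 l 0 else 0

/-- block diagonal with respect to the block sizes -/
def IsBlk (Z : Matrix (Fin t) (Fin t) F) : Prop := ∀ k l, d k ≠ d l → Z k l = 0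

theorem isBlk_red (X : Matrix ι ι F) : IsBlk d (red d X) := fun k l h => by simp [red, h]

/-- section of `red` -/
def sect (Z : Matrix (Fin t) (Fin t) F) : Matrix ι ι F := toep d (fun k l c => if c = 0 ∧ d k = d l then Z k l else 0)

theorem red_sect (hd : ∀ k, 1 ≤ d k) {Z : Matrix (Fin t) (Fin t) F} (hZ : IsBlk d Z) : red d (sect d Z) = Z := by
  ext k l
  by_cases h : d k = d l
  · have hk := hd k
    simp only [red, Matrix.of_apply, if_pos h, sect]
    rw [ent_toep d _ _ _ _ _ (by omega) (by omega), if_pos ⟨le_rfl, by omega⟩, Nat.sub_zero, if_pos ⟨rfl, h⟩]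
  · simp [red, h, hZ k l h]

theorem red_add (X Y : Matrix ι ι F) : red d (X + Y) = red d X + red d Y := by
  ext k l
  simp only [red, Matrix.of_apply, Matrix.add_apply]
  by_cases h : d k = d l
  · simp only [if_pos h, ent]
    split <;> simp
  · simp [h]

theorem red_one (hd : ∀ k, 1 ≤ d k) : red d (1 : Matrix ι ι F) = 1 := by
  ext k l
  have hk := hd k
  have hl := hd l
  simp only [red, Matrix.of_apply]
  by_cases h : d k = d l
  · rw [if_pos h, ent, dif_pos ⟨by omega, by omega⟩]
    by_cases hkl : k = l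
    · subst hkl; simp
    · rw [Matrix.one_apply_ne hkl, Matrix.one_apply_ne (fun e => hkl (congrArg Sigma.fst e))]
  · rw [if_neg h, Matrix.one_apply_ne (fun e => h (congrArg d e))]

theorem red_mul (hd : ∀ k, 1 ≤ d k) {X Y : Matrix ι ι F} (hX : IsComm d X) (hY : IsComm d Y) :
    red d (X * Y) = red d X * red d Y := by
  ext k l
  have hk := hd k
  have hl := hd l
  rw [Matrix.mul_apply]
  by_cases h : d k = d l
  · simp only [red, Matrix.of_apply, if_pos h]
    rw [ent, dif_pos ⟨by omega, by omega⟩, Matrix.mul_apply, Fintype.sum_sigma]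
    refine Finset.sum_congr rfl fun r _ => ?_
    have hr := hd r
    rw [Finset.sum_eq_single (⟨0, by omega⟩ : Fin (d r)) (fun c _ hc => ?_) (by simp)]
    · by_cases hkr : d k = d r
      · rw [if_pos hkr, if_pos (by omega), ent, dif_pos ⟨by omega, by omega⟩, ent, dif_pos ⟨by omega, by omega⟩]
      · rw [if_neg hkr, zero_mul]
        by_cases hlt : d r < d k
        · rw [← ent_apply d X ⟨k, ⟨0, by omega⟩⟩ ⟨r, ⟨0, by omega⟩⟩]
          simp only
          rw [ent_first_zero d X hX k r (by omega) 0 (by omega), zero_mul]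
        · rw [← ent_apply d Y ⟨r, ⟨0, by omega⟩⟩ ⟨l, ⟨0, by omega⟩⟩]
          simp only
          rw [ent_first_zero d Y hY r l (by omega) 0 (by omega), mul_zero]
    · rw [← ent_apply d X ⟨k, ⟨0, by omega⟩⟩ ⟨r, c⟩]
      simp only
      rw [ent_of_le d X hX k r _ _ (by omega) c.isLt, if_neg, zero_mul]
      intro hle
      exact hc (Fin.ext (by simp only; omega))
  · have : ∀ r, red d X k r * red d Y r l = 0 := by
      intro r
      by_cases hkr : d k = d r
      · rw [isBlk_red d Y r l (by omega), mul_zero]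
      · rw [isBlk_red d X k r hkr, zero_mul]
    rw [Finset.sum_eq_zero (fun r _ => this r)]
    exact isBlk_red d _ k l h

theorem isNilpotent_of_red {X : Matrix ι ι F} (hX : IsComm d X) (h0 : red d X = 0) : IsNilpotent X := by
  classical
  let w : ι → ℤ := fun p => 2 * (p.2 : ℕ) - (d p.1 : ℕ)
  have step : ∀ p q, X p q ≠ 0 → w q < w p := by
    intro p q hne
    have hp := p.2.isLt
    have hq := q.2.isLt
    rw [← ent_apply d X p q, ent_of_le d X hX _ _ _ _ hp hq] at hne
    have hle : (q.2 : ℕ) ≤ p.2 := by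
      by_contra hh
      rw [if_neg hh] at hne
      exact hne rfl
    rw [if_pos hle] at hne
    have h2 : d p.1 ≤ d q.1 + ((p.2 : ℕ) - q.2) := by
      by_contra hh
      exact hne (ent_first_zero d X hX _ _ (by omega) _ (by omega))
    have h3 : ¬((p.2 : ℕ) = q.2 ∧ d p.1 = d q.1) := by
      rintro ⟨e1, e2⟩
      have := congrFun (congrFun h0 p.1) q.1
      simp only [red, Matrix.of_apply, if_pos e2, Matrix.zero_apply] at this
      rw [show (p.2 : ℕ) - q.2 = 0 by omega] at hne
      exact hne this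
    simp only [w]
    omega
  have hpow : ∀ (n : ℕ) p q, (X ^ n) p q ≠ 0 → w q + n ≤ w p := by
    intro n
    induction n with
    | zero =>
      intro p q hne
      rw [pow_zero, Matrix.one_apply] at hne
      by_cases e : p = q
      · subst e; simp
      · rw [if_neg e] at hne; exact absurd rfl hne
    | succ n ih =>
      intro p q hne
      rw [pow_succ, Matrix.mul_apply] at hne
      obtain ⟨r, _, hr⟩ := Finset.exists_ne_zero_of_sum_ne_zero hne
      have h1 := ih p r (left_ne_zero_of_mul hr)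
      have h2 := step r q (right_ne_zero_of_mul hr)
      push_cast
      omega
  refine ⟨4 * (Finset.univ.sup d) + 1, Matrix.ext fun p q => ?_⟩
  by_contra hne
  have h1 := hpow _ p q (by simpa using hne)
  have hp := p.2.isLt
  have hq := q.2.isLt
  have hdp : d p.1 ≤ Finset.univ.sup d := Finset.le_sup (Finset.mem_univ _)
  have hdq : d q.1 ≤ Finset.univ.sup d := Finset.le_sup (Finset.mem_univ _)
  simp only [w] at h1
  push_cast at h1
  omega

theorem isComm_mul {X Y : Matrix ι ι F} (hX : IsComm d X) (hY : IsComm d Y) : IsComm d (X * Y) :=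
  Commute.mul_left hX hY

theorem isComm_sub {X Y : Matrix ι ι F} (hX : IsComm d X) (hY : IsComm d Y) : IsComm d (X - Y) :=
  Commute.sub_left hX hY

theorem isUnit_iff (hd : ∀ k, 1 ≤ d k) {X : Matrix ι ι F} (hX : IsComm d X) :
    IsUnit X ↔ IsUnit (red d X) := by
  constructor
  · rintro ⟨u, rfl⟩
    have hi : IsComm d (↑u⁻¹ : Matrix ι ι F) := Commute.units_inv_left hX
    exact ⟨⟨red d (u : Matrix ι ι F), red d (↑u⁻¹ : Matrix ι ι F),
      by rw [← red_mul d hd hX hi, Units.mul_inv, red_one d hd],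
      by rw [← red_mul d hd hi hX, Units.inv_mul, red_one d hd]⟩, rfl⟩
  · rintro ⟨u, hu⟩
    have hblk : IsBlk d (↑u⁻¹ : Matrix (Fin t) (Fin t) F) := by
      classical
      -- the inverse of a block diagonal matrix is block diagonal: it is a polynomial in it
      intro k l hkl
      let D : Matrix (Fin t) (Fin t) F := Matrix.diagonal fun i => if d i = d k then 1 else 0
      have hc : Commute D (u : Matrix (Fin t) (Fin t) F) := by
        refine Matrix.ext fun i j => ?_
        simp only [D, Matrix.diagonal_mul, Matrix.mul_diagonal]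
        by_cases hij : d i = d j
        · simp [hij]
        · rw [hu, isBlk_red d X i j hij]; simp
      have := congrFun (congrFun (hc.units_inv_right).eq k) l
      simpa [D, Matrix.diagonal_mul, Matrix.mul_diagonal, Ne.symm hkl] using this
    set Y := sect d (↑u⁻¹ : Matrix (Fin t) (Fin t) F)
    have hY : IsComm d Y := isComm_toep d _
    have h1 : red d (X * Y) = 1 := by rw [red_mul d hd hX hY, red_sect d hd hblk, ← hu, Units.mul_inv]
    have h2 : red d (X * Y - 1) = 0 := by
      have e := red_add d (X * Y - 1) 1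
      rw [sub_add_cancel, h1, red_one d hd] at e
      exact right_eq_add.1 e
    have hn := isNilpotent_of_red d (isComm_sub d (isComm_mul d hX hY) (Commute.one_left _)) h2
    have hunit : IsUnit (X * Y) := by simpa using hn.isUnit_add_one
    have := (Matrix.isUnit_iff_isUnit_det _).1 hunit
    rw [Matrix.det_mul] at this
    exact (Matrix.isUnit_iff_isUnit_det _).2 (isUnit_of_mul_isUnit_left this)

/-- the kernel of `red` on commuting matrices -/
def Ker : Type _ := {X : Matrix ι ι F // IsComm d X ∧ red d X = 0}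

/-- splitting by the retraction -/
noncomputable def splitEquiv (hd : ∀ k, 1 ≤ d k) (P : Matrix (Fin t) (Fin t) F → Prop) :
    {X : Matrix ι ι F // IsComm d X ∧ P (red d X)} ≃
      {Z : Matrix (Fin t) (Fin t) F // IsBlk d Z ∧ P Z} × {X : Matrix ι ι F // IsComm d X ∧ red d X = 0} where
  toFun X := (⟨red d X.1, isBlk_red d _, X.2.2⟩, ⟨X.1 - sect d (red d X.1), isComm_sub d X.2.1 (isComm_toep d _), by
    have e := red_add d (X.1 - sect d (red d X.1)) (sect d (red d X.1))
    rw [sub_add_cancel, red_sect d hd (isBlk_red d _)] at e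
    exact right_eq_add.1 e⟩)
  invFun x := ⟨sect d x.1.1 + x.2.1, Commute.add_left (isComm_toep d _) x.2.2.1, by
    rw [red_add, red_sect d hd x.1.2.1, x.2.2.2, add_zero]; exact x.1.2.2⟩
  left_inv X := Subtype.ext (by simp)
  right_inv x := by
    have e : red d (sect d x.1.1 + x.2.1) = x.1.1 := by rw [red_add, red_sect d hd x.1.2.1, x.2.2.2, add_zero]
    refine Prod.ext (Subtype.ext e) (Subtype.ext ?_)
    simp [e]

section Count

variable [Fintype F]

theorem card_comm : Nat.card {X : Matrix ι ι F // IsComm d X} =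
    Fintype.card F ^ (∑ k, ∑ l, min (d k) (d l)) := by
  classical
  rw [Nat.card_congr (commEquiv d), Nat.card_eq_fintype_card, Fintype.card_pi]
  simp only [Fintype.card_fun, Fintype.card_fin]
  rw [Finset.prod_pow_eq_pow_sum, Fintype.sum_prod_type]

/-- block diagonal matrices as entries on equal-size pairs -/
noncomputable def blkEquiv : {Z : Matrix (Fin t) (Fin t) F // IsBlk d Z} ≃
    ({x : Fin t × Fin t // d x.1 = d x.2} → F) where
  toFun Z x := Z.1 x.1.1 x.1.2
  invFun g := ⟨Matrix.of fun k l => if h : d k = d l then g ⟨(k, l), h⟩ else 0, fun k l h => by simp [h]⟩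
  left_inv Z := Subtype.ext <| Matrix.ext fun k l => by
    by_cases h : d k = d l
    · simp [h]
    · simp [h, Z.2 k l h]
  right_inv g := funext fun x => by simp [x.2]

theorem card_blk : Nat.card {Z : Matrix (Fin t) (Fin t) F // IsBlk d Z} =
    Fintype.card F ^ (∑ k, ∑ l, if d k = d l then 1 else 0) := by
  classical
  rw [Nat.card_congr (blkEquiv d), Nat.card_eq_fintype_card, Fintype.card_fun, Fintype.card_subtype,
    Finset.card_filter, Fintype.sum_prod_type]

theorem card_ker (hd : ∀ k, 1 ≤ d k) (E : ℕ)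
    (hE : (∑ k, ∑ l, min (d k) (d l)) = (∑ k, ∑ l, if d k = d l then 1 else 0) + E) :
    Nat.card {X : Matrix ι ι F // IsComm d X ∧ red d X = 0} = Fintype.card F ^ E := by
  have h := Nat.card_congr (splitEquiv (F := F) d hd (fun _ => True))
  simp only [and_true, Nat.card_prod] at h
  rw [card_comm, card_blk, hE, pow_add] at h
  exact (Nat.eq_of_mul_eq_mul_left (pow_pos Fintype.card_pos _) h).symm

end Count

section Units

variable {κ : Type} [Fintype κ] [DecidableEq κ]

/-- units among block diagonal matrices are tuples of invertible blocks -/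
noncomputable def blkUnitEquiv (f : Fin t → κ) (hf : ∀ k l, f k = f l ↔ d k = d l) :
    {Z : Matrix (Fin t) (Fin t) F // IsBlk d Z ∧ IsUnit Z} ≃ (∀ i, GL {k // f k = i} F) where
  toFun Z i := Matrix.GeneralLinearGroup.mkOfDetNeZero
    (Matrix.of fun a b => Z.1 a.1 b.1) (by
      obtain ⟨u, hu⟩ := Z.2.2
      have h1 : Z.1 * (↑u⁻¹ : Matrix (Fin t) (Fin t) F) = 1 := by rw [← hu, Units.mul_inv]
      refine Matrix.det_ne_zero_of_right_inverse
        (B := Matrix.of fun a b => (↑u⁻¹ : Matrix (Fin t) (Fin t) F) a.1 b.1) (Matrix.ext fun a b => ?_)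
      have e := congrFun (congrFun h1 a.1) b.1
      rw [Matrix.mul_apply] at e ⊢
      rw [← Finset.sum_filter_of_ne (p := fun k => f k = i) (fun x _ hx => by
        by_contra hh
        apply hx
        rw [Z.2.1 a.1 x (fun hh2 => hh (((hf a.1 x).2 hh2).symm.trans a.2)), zero_mul]),
        Finset.sum_subtype _ (p := fun k => f k = i) (fun x => by simp)] at e
      simp only [Matrix.of_apply]
      rw [e]
      simp [Matrix.one_apply, Subtype.ext_iff])
  invFun M := ⟨Matrix.reindex (Equiv.sigmaFiberEquiv f) (Equiv.sigmaFiberEquiv f)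
      (Matrix.blockDiagonal' fun i => (M i : Matrix {k // f k = i} {k // f k = i} F)), by
    intro k l h
    simp only [Matrix.reindex_apply, Matrix.submatrix_apply, Matrix.blockDiagonal'_apply, Equiv.sigmaFiberEquiv]
    exact dif_neg fun e => h ((hf k l).1 e), by
    rw [Matrix.isUnit_iff_isUnit_det, Matrix.det_reindex_self]
    refine IsUnit.mk0 _ (Matrix.det_ne_zero_of_right_inverse
      (B := Matrix.blockDiagonal' fun i => (↑(M i)⁻¹ : Matrix {k // f k = i} {k // f k = i} F)) ?_)
    rw [← Matrix.blockDiagonal'_mul, ← Matrix.blockDiagonal'_one]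
    exact congrArg _ (funext fun i => Units.mul_inv _)⟩
  left_inv Z := Subtype.ext <| Matrix.ext fun k l => by
    show Matrix.blockDiagonal' (fun i => (Matrix.of fun (a b : {k // f k = i}) => Z.1 a.1 b.1))
      (⟨f k, ⟨k, rfl⟩⟩ : (i : κ) × {k // f k = i}) ⟨f l, ⟨l, rfl⟩⟩ = Z.1 k l
    rw [Matrix.blockDiagonal'_apply]
    by_cases h : f k = f l
    · rw [dif_pos h]
      have key : ∀ (i j : κ) (e : j = i) (x : {k // f k = i}) (y : {k // f k = j}),
          (Matrix.of fun (a b : {k // f k = i}) => Z.1 a.1 b.1) x (cast (by rw [e]) y) = Z.1 x.1 y.1 := by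
        intro i j e x y
        subst e
        rfl
      exact key _ _ h.symm ⟨k, rfl⟩ ⟨l, rfl⟩
    · rw [dif_neg h]
      exact (Z.2.1 k l fun e => h ((hf k l).2 e)).symm
  right_inv M := funext fun i => Units.ext <| Matrix.ext fun a b => by
    obtain ⟨a, rfl⟩ := a
    obtain ⟨b, hb⟩ := b
    show Matrix.blockDiagonal' (fun i => (M i : Matrix {k // f k = i} {k // f k = i} F))
      (⟨f a, ⟨a, rfl⟩⟩ : (i : κ) × {k // f k = i}) ⟨f b, ⟨b, rfl⟩⟩ = (M (f a) : Matrix {k // f k = f a} {k // f k = f a} F) ⟨a, rfl⟩ ⟨b, hb⟩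
    have : (⟨f b, ⟨b, rfl⟩⟩ : (i : κ) × {k // f k = i}) = ⟨f a, ⟨b, hb⟩⟩ := Sigma.subtype_ext hb rfl
    rw [this, Matrix.blockDiagonal'_apply_eq]

theorem card_GL_type [Fintype F] (α : Type) [Fintype α] [DecidableEq α] :
    Nat.card (GL α F) = ∏ j : Fin (Fintype.card α), (Fintype.card F ^ Fintype.card α - Fintype.card F ^ (j : ℕ)) := by
  rw [Nat.card_congr (Units.mapEquiv (Matrix.reindexAlgEquiv F F (Fintype.equivFin α)).toMulEquiv).toEquiv,
    Matrix.card_GL_field]

theorem card_blk_units [Fintype F] :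
    Nat.card {Z : Matrix (Fin t) (Fin t) F // IsBlk d Z ∧ IsUnit Z} =
      ∏ i ∈ Finset.range (Finset.univ.sup d + 1), ∏ j : Fin ((Finset.univ.filter (fun k : Fin t => d k = i)).card),
        (Fintype.card F ^ (Finset.univ.filter (fun k : Fin t => d k = i)).card - Fintype.card F ^ (j : ℕ)) := by
  classical
  let f : Fin t → Fin (Finset.univ.sup d + 1) := fun k => ⟨d k, Nat.lt_succ_of_le (Finset.le_sup (Finset.mem_univ k))⟩
  rw [Nat.card_congr (blkUnitEquiv d f (fun k l => by simp [f, Fin.ext_iff])), Nat.card_pi, ← Fin.prod_univ_eq_prod_range]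
  refine Finset.prod_congr rfl fun i _ => ?_
  rw [card_GL_type]
  have h : Fintype.card {k // f k = i} = (Finset.univ.filter (fun k : Fin t => d k = (i : ℕ))).card := by
    rw [Fintype.card_subtype]
    simp [f, Fin.ext_iff]
  rw [h]

/-- the exponent of the unipotent part -/
theorem sum_min_eq (hd : ∀ k, 1 ≤ d k) :
    (∑ k, ∑ l, min (d k) (d l)) = (∑ k, ∑ l, if d k = d l then 1 else 0) +
      (2 * (∑ i ∈ Finset.range (Finset.univ.sup d + 1), ∑ j ∈ Finset.range (Finset.univ.sup d + 1),
        if i < j then i * (Finset.univ.filter (fun k : Fin t => d k = i)).card *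
          (Finset.univ.filter (fun k : Fin t => d k = j)).card else 0) +
      ∑ i ∈ Finset.range (Finset.univ.sup d + 1), (i - 1) * (Finset.univ.filter (fun k : Fin t => d k = i)).card ^ 2) := by
  classical
  set R := Finset.range (Finset.univ.sup d + 1)
  set m : ℕ → ℕ := fun i => (Finset.univ.filter (fun k : Fin t => d k = i)).card
  have hsum : ∀ g : ℕ → ℕ, ∑ k, g (d k) = ∑ i ∈ R, m i * g i := by
    intro g
    rw [← Finset.sum_fiberwise_of_maps_to (g := d) (t := R)
      (fun k _ => Finset.mem_range.2 (Nat.lt_succ_of_le (Finset.le_sup (Finset.mem_univ k))))]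
    refine Finset.sum_congr rfl fun i _ => ?_
    rw [Finset.sum_congr rfl (g := fun _ => g i) (fun k hk => by rw [(Finset.mem_filter.1 hk).2]), Finset.sum_const,
      smul_eq_mul]
  have hdbl : ∀ g : ℕ → ℕ → ℕ, ∑ k, ∑ l, g (d k) (d l) = ∑ i ∈ R, ∑ j ∈ R, m i * m j * g i j := by
    intro g
    rw [hsum (fun i => ∑ l, g i (d l))]
    refine Finset.sum_congr rfl fun i _ => ?_
    rw [hsum, Finset.mul_sum]
    exact Finset.sum_congr rfl fun j _ => by ring
  rw [hdbl (fun a b => min a b), hdbl (fun a b => if a = b then 1 else 0)]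
  have hsym : (∑ i ∈ R, ∑ j ∈ R, if j < i then j * m i * m j else 0) = ∑ i ∈ R, ∑ j ∈ R, if i < j then i * m i * m j else 0 := by
    rw [Finset.sum_comm]
    exact Finset.sum_congr rfl fun i _ => Finset.sum_congr rfl fun j _ => by split <;> ring
  have hdiag : (∑ i ∈ R, (i - 1) * m i ^ 2) = ∑ i ∈ R, ∑ j ∈ R, if i = j then (i - 1) * m i * m j else 0 := by
    refine Finset.sum_congr rfl fun i hi => ?_
    rw [Finset.sum_ite_eq, if_pos hi]
    ring
  rw [two_mul, hdiag]
  nth_rewrite 2 [← hsym]
  simp only [← Finset.sum_add_distrib]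
  refine Finset.sum_congr rfl fun i _ => Finset.sum_congr rfl fun j _ => ?_
  rcases lt_trichotomy i j with h | h | h
  · simp [h, h.ne, h.not_gt, min_eq_left h.le]; ring
  · subst h
    simp only [min_self, lt_irrefl, if_false, if_true, zero_add, if_pos rfl]
    rcases Nat.eq_zero_or_pos i with h0 | h0
    · subst h0
      have : m 0 = 0 := Finset.card_eq_zero.2 (Finset.filter_eq_empty_iff.2 fun k _ => by have := hd k; omega)
      simp [this]
    · obtain ⟨i, rfl⟩ : ∃ i', i = i' + 1 := ⟨i - 1, by omega⟩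
      simp only [Nat.add_sub_cancel]
      ring
  · simp [h, h.ne', h.not_gt, min_eq_right h.le]; ring

end Units

end CfsgLib.GLClass.Toeplitz
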