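import Mathlib
import Cfsg.Agent.Lib.GLClass.Special

/-!
The centraliser of a transvection in `GL_n(q)`.
-/

set_option autoImplicit false

namespace CfsgLib.GLClass

open Matrix

variable {F : Type*} [Field F] {m : ℕ}

/-- The index type `1 + m + 1`. -/
abbrev Idx (m : ℕ) : Type := (Fin 1 ⊕ Fin m) ⊕ Fin 1

/-- The off-diagonal corner entry. -/
def cornerE (m : ℕ) (F : Type*) [Field F] : Matrix (Idx m) (Idx m) F :=
  Matrix.fromBlocks 0 0 (Matrix.of fun _ j => Sum.elim (fun _ => 1) (fun _ => 0) j) 0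

/-- A matrix commuting with the corner entry. -/
def centMat (c : F) (D : Matrix (Fin m) (Fin m) F) (v w : Fin m → F) (x : F) :
    Matrix (Idx m) (Idx m) F :=
  Matrix.fromBlocks
    (Matrix.fromBlocks (Matrix.of fun _ _ => c) 0 (Matrix.of fun i _ => v i) D) 0
    (Matrix.of fun _ j => Sum.elim (fun _ => x) w j) (Matrix.of fun _ _ => c)

theorem det_centMat (c : F) (D : Matrix (Fin m) (Fin m) F) (v w : Fin m → F) (x : F) :
    (centMat c D v w x).det = c ^ 2 * D.det := by
  rw [centMat, Matrix.det_fromBlocks_zero₁₂, Matrix.det_fromBlocks_zero₁₂]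
  simp only [Matrix.det_unique, Matrix.of_apply]
  ring

theorem mul_cornerE_apply (M : Matrix (Idx m) (Idx m) F) (i j : Idx m) :
    (M * cornerE m F) i j = if j = Sum.inl (Sum.inl 0) then M i (Sum.inr 0) else 0 := by
  rcases j with (a | b) | c <;>
    simp [Matrix.mul_apply, cornerE, Fintype.sum_sum_type, Subsingleton.elim _ (0 : Fin 1)]

theorem cornerE_mul_apply (M : Matrix (Idx m) (Idx m) F) (i j : Idx m) :
    (cornerE m F * M) i j = if i = Sum.inr 0 then M (Sum.inl (Sum.inl 0)) j else 0 := by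
  rcases i with (a | b) | c <;>
    simp [Matrix.mul_apply, cornerE, Fintype.sum_sum_type, Subsingleton.elim _ (0 : Fin 1)]

theorem commute_centMat (c : F) (D : Matrix (Fin m) (Fin m) F) (v w : Fin m → F) (x : F) :
    centMat c D v w x * cornerE m F = cornerE m F * centMat c D v w x := by
  ext i j
  rw [mul_cornerE_apply, cornerE_mul_apply]
  rcases i with (a | b) | d <;> rcases j with (a' | b') | d' <;>
    simp [centMat, Subsingleton.elim _ (0 : Fin 1)]

theorem exists_centMat {M : Matrix (Idx m) (Idx m) F}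
    (h : M * cornerE m F = cornerE m F * M) : ∃ c D v w x, centMat c D v w x = M := by
  have key : ∀ i j, (if j = Sum.inl (Sum.inl 0) then M i (Sum.inr 0) else 0)
      = (if i = Sum.inr 0 then M (Sum.inl (Sum.inl 0)) j else 0) := fun i j => by
    rw [← mul_cornerE_apply, ← cornerE_mul_apply, h]
  refine ⟨M (Sum.inr 0) (Sum.inr 0),
    Matrix.of fun i j => M (Sum.inl (Sum.inr i)) (Sum.inl (Sum.inr j)),
    fun i => M (Sum.inl (Sum.inr i)) (Sum.inl (Sum.inl 0)),
    fun j => M (Sum.inr 0) (Sum.inl (Sum.inr j)), M (Sum.inr 0) (Sum.inl (Sum.inl 0)), ?_⟩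
  have h1 := key (Sum.inr 0) (Sum.inl (Sum.inl 0))
  have h2 := fun j : Fin m => key (Sum.inr 0) (Sum.inl (Sum.inr j))
  have h3 := key (Sum.inr 0) (Sum.inr 0)
  have h4 := fun i : Fin m => key (Sum.inl (Sum.inr i)) (Sum.inl (Sum.inl 0))
  have h5 := key (Sum.inl (Sum.inl 0)) (Sum.inl (Sum.inl 0))
  simp at h1 h2 h3 h4 h5
  ext i j
  rcases i with (a | b) | d <;> rcases j with (a' | b') | d' <;>
    simp [centMat, Subsingleton.elim _ (0 : Fin 1), h1, ← h2, ← h3, h4, h5]

theorem centMat_injective {c c' : F} {D D' : Matrix (Fin m) (Fin m) F} {v v' w w' : Fin m → F}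
    {x x' : F} (h : centMat c D v w x = centMat c' D' v' w' x') :
    c = c' ∧ D = D' ∧ v = v' ∧ w = w' ∧ x = x' := by
  refine ⟨?_, ?_, ?_, ?_, ?_⟩
  · simpa [centMat] using congrFun (congrFun h (Sum.inr 0)) (Sum.inr 0)
  · ext i j
    simpa [centMat] using congrFun (congrFun h (Sum.inl (Sum.inr i))) (Sum.inl (Sum.inr j))
  · funext i
    simpa [centMat] using congrFun (congrFun h (Sum.inl (Sum.inr i))) (Sum.inl (Sum.inl 0))
  · funext j
    simpa [centMat] using congrFun (congrFun h (Sum.inr 0)) (Sum.inl (Sum.inr j))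
  · simpa [centMat] using congrFun (congrFun h (Sum.inr 0)) (Sum.inl (Sum.inl 0))

theorem card_commuting_cornerE [Fintype F] :
    Nat.card {g : GL (Idx m) F // (g : Matrix (Idx m) (Idx m) F) * cornerE m F
        = cornerE m F * (g : Matrix (Idx m) (Idx m) F)} =
      Fintype.card F ^ (2 * m + 1) * (Fintype.card F - 1) *
        ∏ i : Fin m, (Fintype.card F ^ m - Fintype.card F ^ (i : ℕ)) := by
  classical
  let T := Fˣ × GL (Fin m) F × (Fin m → F) × (Fin m → F) × F
  have hu : ∀ t : T, IsUnit (centMat (t.1 : F) t.2.1 t.2.2.1 t.2.2.2.1 t.2.2.2.2) := fun t => by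
    rw [Matrix.isUnit_iff_isUnit_det, det_centMat]
    exact (t.1.isUnit.pow 2).mul ((Matrix.isUnit_iff_isUnit_det _).1 t.2.1.isUnit)
  let f : T → {g : GL (Idx m) F // (g : Matrix (Idx m) (Idx m) F) * cornerE m F
        = cornerE m F * (g : Matrix (Idx m) (Idx m) F)} := fun t =>
    ⟨(hu t).unit, by rw [IsUnit.unit_spec]; exact commute_centMat _ _ _ _ _⟩
  have hf : Function.Bijective f := by
    refine ⟨fun s t h => ?_, fun g => ?_⟩
    · have h1 := congrArg (fun g : {g : GL (Idx m) F // _} =>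
        ((g.1 : GL (Idx m) F) : Matrix (Idx m) (Idx m) F)) h
      simp only [f, IsUnit.unit_spec] at h1
      obtain ⟨a, b, c, d, e⟩ := centMat_injective h1
      exact Prod.ext (Units.ext a) (Prod.ext (Units.ext b) (Prod.ext c (Prod.ext d e)))
    · obtain ⟨c, D, v, w, x, hM⟩ := exists_centMat g.2
      have hdet := (Matrix.isUnit_iff_isUnit_det _).1 g.1.isUnit
      rw [← hM, det_centMat, IsUnit.mul_iff] at hdet
      have hc : IsUnit c := (isUnit_pow_iff two_ne_zero).1 hdet.1
      have hD : IsUnit D := (Matrix.isUnit_iff_isUnit_det _).2 hdet.2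
      exact ⟨(hc.unit, hD.unit, v, w, x), Subtype.ext (Units.ext (by simp [f, hM]))⟩
  rw [← Nat.card_eq_of_bijective f hf]
  rw [Nat.card_prod, Nat.card_prod, Nat.card_prod, Nat.card_prod, Matrix.card_GL_field,
    Nat.card_units, Nat.card_fun, Nat.card_fin]
  simp only [Nat.card_eq_fintype_card]
  ring

end CfsgLib.GLClass
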