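import Mathlib
import Cfsg.Agent.Lib.IsometryConj.Conj

/-!
# Lifting isometries through a filtered nilpotent ideal with anti-involution
-/

set_option autoImplicit false
set_option linter.all false

namespace CfsgLib.GLClass.UnitaryLift

open CfsgLib.IsometryConj

variable {M : Type*} [Ring M]

/-- a filtered nilpotent piece stable under the adjoint, with central trace and skew scalars -/
structure Setup (J : Adjoint M) where
  T : ℕ → AddSubgroup M
  mul_left : ∀ {k} {a b : M}, a ∈ T 1 → b ∈ T k → a * b ∈ T (k + 1)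
  mul_right : ∀ {k} {a b : M}, a ∈ T k → b ∈ T 1 → a * b ∈ T (k + 1)
  anti : ∀ {k}, T (k + 1) ≤ T k
  top : ∃ N, ∀ x ∈ T N, x = 0
  st_mem : ∀ {a : M}, a ∈ T 1 → J.st a ∈ T 1
  c : M
  c_comm : ∀ x, Commute c x
  c_trace : c + J.st c = 1
  c_mem : ∀ {k} {a : M}, a ∈ T k → c * a ∈ T k
  cbar_mem : ∀ {k} {a : M}, a ∈ T k → J.st c * a ∈ T k
  θ : Mˣ
  θ_comm : ∀ x, Commute (θ : M) x
  θ_skew : J.st (θ : M) = -θ
  θ_mem : ∀ {a : M}, a ∈ T 1 → (θ : M) * a ∈ T 1
  θinv_mem : ∀ {a : M}, a ∈ T 1 → ((θ⁻¹ : Mˣ) : M) * a ∈ T 1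

variable {J : Adjoint M} (S : Setup J)

theorem st_zero : J.st 0 = 0 := by
  have := J.st_add 0 0
  rwa [add_zero, left_eq_add] at this

theorem st_neg (x : M) : J.st (-x) = -J.st x := by
  have h := J.st_add (-x) x
  rw [neg_add_cancel, st_zero] at h
  exact eq_neg_of_add_eq_zero_left h.symm

theorem st_sub (x y : M) : J.st (x - y) = J.st x - J.st y := by
  rw [sub_eq_add_neg, J.st_add, st_neg, ← sub_eq_add_neg]

/-- the quadratic remainder -/
def rem (h n : M) : M := J.st n * h + h * n + J.st n * ((1 + h) * n)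

/-- the triangular substitution -/
def subst (h n : M) : M := n + S.c * rem (J := J) h n

theorem st_rem {h : M} (hh : J.st h = h) (n : M) : J.st (rem (J := J) h n) = rem (J := J) h n := by
  simp only [rem, J.st_add, J.st_mul, J.st_st, hh, Adjoint.st_one]
  noncomm_ring

theorem mul_one_one {a b : M} (ha : a ∈ S.T 1) (hb : b ∈ S.T 1) : a * b ∈ S.T 1 := S.anti (S.mul_left ha hb)

theorem shift_mem {h n : M} (hh : h ∈ S.T 1) (hn : n ∈ S.T 1) : (1 + h) * n ∈ S.T 1 := by
  rw [add_mul, one_mul]; exact add_mem hn (mul_one_one S hh hn)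

theorem rem_mem {h n : M} (hh : h ∈ S.T 1) (hn : n ∈ S.T 1) : rem (J := J) h n ∈ S.T 1 :=
  add_mem (add_mem (mul_one_one S (S.st_mem hn) hh) (mul_one_one S hh hn))
    (mul_one_one S (S.st_mem hn) (shift_mem S hh hn))

theorem subst_mem {h n : M} (hh : h ∈ S.T 1) (hn : n ∈ S.T 1) : subst S h n ∈ S.T 1 :=
  add_mem hn (S.c_mem (rem_mem S hh hn))

theorem subst_injOn {h : M} (hh : h ∈ S.T 1) (hsh : J.st h = h) {n m : M} (hn : n ∈ S.T 1) (hm : m ∈ S.T 1)
    (e : subst S h n = subst S h m) : n = m := by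
  set d := n - m with hd
  have key : d = -(S.c * (rem (J := J) h n - rem (J := J) h m)) := by
    simp only [subst] at e
    rw [hd, mul_sub]
    have : n = m + S.c * rem (J := J) h m - S.c * rem (J := J) h n := by rw [← e]; abel
    nth_rewrite 1 [this]
    abel
  have keyst : J.st d = -(J.st S.c * (rem (J := J) h n - rem (J := J) h m)) := by
    rw [key, st_neg, J.st_mul, st_sub, st_rem hsh, st_rem hsh]
    congr 1
    -- the adjoint of a central element is central
    have hc : Commute (J.st S.c) (rem (J := J) h n - rem (J := J) h m) := by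
      have := J.commute (S.c_comm (J.st (rem (J := J) h n - rem (J := J) h m)))
      rwa [J.st_st] at this
    exact hc.eq.symm
  have hdiff : rem (J := J) h n - rem (J := J) h m =
      J.st d * h + h * d + J.st d * ((1 + h) * n) + (J.st m + J.st m * h) * d := by
    simp only [rem, hd, st_sub]
    noncomm_ring
  have hk : ∀ k, 1 ≤ k → d ∈ S.T k ∧ J.st d ∈ S.T k := by
    intro k hk
    induction k, hk using Nat.le_induction with
    | base => exact ⟨sub_mem hn hm, S.st_mem (sub_mem hn hm)⟩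
    | succ k _ ih =>
      have hD : rem (J := J) h n - rem (J := J) h m ∈ S.T (k + 1) := by
        rw [hdiff]
        refine add_mem (add_mem (add_mem (S.mul_right ih.2 hh) (S.mul_left hh ih.1))
          (S.mul_right ih.2 (shift_mem S hh hn))) ?_
        exact S.mul_left (add_mem (S.st_mem hm) (mul_one_one S (S.st_mem hm) hh)) ih.1
      exact ⟨key ▸ neg_mem (S.c_mem hD), keyst ▸ neg_mem (S.cbar_mem hD)⟩
  obtain ⟨N, hN⟩ := S.top
  have hz : d ∈ S.T N := by
    rcases Nat.eq_zero_or_pos N with h0 | h0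
    · subst h0; exact S.anti (hk 1 le_rfl).1
    · exact (hk N h0).1
  exact sub_eq_zero.1 (hN d hz)

/-- lifts of the identity -/
def Lifts (h : M) : Type _ := {n : M // n ∈ S.T 1 ∧ J.st (1 + n) * (1 + h) * (1 + n) = 1}

theorem st_subst {h n : M} (hsh : J.st h = h) :
    subst S h n + J.st (subst S h n) + h = J.st (1 + n) * (1 + h) * (1 + n) - 1 := by
  have hq : subst S h n + J.st (subst S h n) = n + J.st n + (S.c + J.st S.c) * rem (J := J) h n := by
    simp only [subst, J.st_add, J.st_mul, st_rem hsh]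
    have hc : Commute (J.st S.c) (rem (J := J) h n) := by
      have := J.commute (S.c_comm (rem (J := J) h n))
      rwa [st_rem hsh] at this
    rw [← hc.eq, add_mul]
    abel
  rw [hq, S.c_trace, one_mul, J.st_add, Adjoint.st_one]
  simp only [rem]
  noncomm_ring

/-- the number of lifts squares to the size of the first piece -/
theorem card_lifts [Finite M] {h : M} (hh : h ∈ S.T 1) (hsh : J.st h = h) :
    Nat.card {n : M // n ∈ S.T 1 ∧ J.st (1 + n) * (1 + h) * (1 + n) = 1} ^ 2 = Nat.card (S.T 1) := by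
  have hbij : Function.Bijective (fun n : S.T 1 => (⟨subst S h n.1, subst_mem S hh n.2⟩ : S.T 1)) :=
    Finite.injective_iff_bijective.1 fun a b e => Subtype.ext (subst_injOn S hh hsh a.2 b.2 (congrArg Subtype.val e))
  have e1 : Nat.card {n : M // n ∈ S.T 1 ∧ J.st (1 + n) * (1 + h) * (1 + n) = 1} =
      Nat.card {x : M // x ∈ S.T 1 ∧ x + J.st x = 0} := by
    refine Nat.card_congr (Equiv.ofBijective
      (fun n => ⟨subst S h n.1 + S.c * h, add_mem (subst_mem S hh n.2.1) (S.c_mem hh), ?_⟩) ⟨?_, ?_⟩)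
    · have h1 := st_subst S (n := n.1) hsh
      rw [n.2.2, sub_self] at h1
      have hc : Commute (J.st S.c) h := by
        have := J.commute (S.c_comm h)
        rwa [hsh] at this
      rw [J.st_add, J.st_mul, hsh, ← hc.eq]
      calc subst S h n.1 + S.c * h + (J.st (subst S h n.1) + J.st S.c * h)
          = subst S h n.1 + J.st (subst S h n.1) + (S.c + J.st S.c) * h := by rw [add_mul]; abel
        _ = 0 := by rw [S.c_trace, one_mul, h1]
    · intro a b e
      exact Subtype.ext (subst_injOn S hh hsh a.2.1 b.2.1 (add_right_cancel (congrArg Subtype.val e)))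
    · intro x
      obtain ⟨⟨n, hn⟩, e⟩ := hbij.2 ⟨x.1 - S.c * h, sub_mem x.2.1 (S.c_mem hh)⟩
      have e' : subst S h n = x.1 - S.c * h := congrArg Subtype.val e
      refine ⟨⟨n, hn, ?_⟩, Subtype.ext (by show subst S h n + S.c * h = x.1; rw [e', sub_add_cancel])⟩
      have h1 := st_subst S (n := n) hsh
      have hc : Commute (J.st S.c) h := by
        have := J.commute (S.c_comm h)
        rwa [hsh] at this
      rw [e', st_sub, J.st_mul, hsh, ← hc.eq] at h1
      refine sub_eq_zero.1 (h1.symm.trans ?_)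
      calc x.1 - S.c * h + (J.st x.1 - J.st S.c * h) + h
          = x.1 + J.st x.1 + (h - (S.c + J.st S.c) * h) := by rw [add_mul]; abel
        _ = 0 := by rw [S.c_trace, one_mul, x.2.2, sub_self, add_zero]
  have e2 : Nat.card (S.T 1) = Nat.card {x : M // x ∈ S.T 1 ∧ J.st x = x} * Nat.card {x : M // x ∈ S.T 1 ∧ x + J.st x = 0} := by
    rw [← Nat.card_prod]
    have hc : ∀ y : M, J.st y = y → Commute (J.st S.c) y := fun y hy => by
      have := J.commute (S.c_comm y)
      rwa [hy] at this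
    refine Nat.card_congr
      { toFun := fun n => (⟨n.1 + J.st n.1, add_mem n.2 (S.st_mem n.2), by rw [J.st_add, J.st_st, add_comm]⟩,
          ⟨n.1 - S.c * (n.1 + J.st n.1), sub_mem n.2 (S.c_mem (add_mem n.2 (S.st_mem n.2))), by
            have hy : J.st (n.1 + J.st n.1) = n.1 + J.st n.1 := by rw [J.st_add, J.st_st, add_comm]
            rw [st_sub, J.st_mul, hy, ← (hc _ hy).eq]
            calc n.1 - S.c * (n.1 + J.st n.1) + (J.st n.1 - J.st S.c * (n.1 + J.st n.1))
                = n.1 + J.st n.1 - (S.c + J.st S.c) * (n.1 + J.st n.1) := by rw [add_mul]; abel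
              _ = 0 := by rw [S.c_trace, one_mul, sub_self]⟩)
        invFun := fun y => ⟨S.c * y.1.1 + y.2.1, add_mem (S.c_mem y.1.2.1) y.2.2.1⟩
        left_inv := fun n => Subtype.ext (by simp)
        right_inv := fun y => by
          have h1 : S.c * y.1.1 + y.2.1 + J.st (S.c * y.1.1 + y.2.1) = y.1.1 := by
            rw [J.st_add, J.st_mul, y.1.2.2, ← (hc _ y.1.2.2).eq]
            calc S.c * y.1.1 + y.2.1 + (J.st S.c * y.1.1 + J.st y.2.1)
                = (S.c + J.st S.c) * y.1.1 + (y.2.1 + J.st y.2.1) := by rw [add_mul]; abel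
              _ = y.1.1 := by rw [S.c_trace, one_mul, y.2.2.2, add_zero]
          refine Prod.ext (Subtype.ext h1) (Subtype.ext ?_)
          show S.c * y.1.1 + y.2.1 - S.c * (S.c * y.1.1 + y.2.1 + J.st (S.c * y.1.1 + y.2.1)) = y.2.1
          rw [h1]; abel }
  have e3 : Nat.card {x : M // x ∈ S.T 1 ∧ J.st x = x} = Nat.card {x : M // x ∈ S.T 1 ∧ x + J.st x = 0} :=
    Nat.card_congr
      { toFun := fun x => ⟨(S.θ : M) * x.1, S.θ_mem x.2.1, by
          rw [J.st_mul, x.2.2, S.θ_skew, mul_neg, ← (S.θ_comm x.1).eq, add_neg_cancel]⟩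
        invFun := fun x => ⟨((S.θ⁻¹ : Mˣ) : M) * x.1, S.θinv_mem x.2.1, by
          have hcm : Commute ((S.θ⁻¹ : Mˣ) : M) x.1 := (S.θ_comm x.1).units_inv_left
          have hst : J.st ((S.θ⁻¹ : Mˣ) : M) = -((S.θ⁻¹ : Mˣ) : M) := by
            have h1 : J.st ((S.θ⁻¹ : Mˣ) : M) * J.st (S.θ : M) = 1 := by
              rw [← J.st_mul, Units.mul_inv, Adjoint.st_one]
            rw [S.θ_skew] at h1
            have h2 : (-J.st ((S.θ⁻¹ : Mˣ) : M)) * (S.θ : M) = 1 := by rw [neg_mul, ← mul_neg, h1]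
            rw [← neg_eq_iff_eq_neg]
            exact Units.eq_inv_of_mul_eq_one_right h2
          rw [J.st_mul, hst, eq_neg_of_add_eq_zero_right x.2.2, neg_mul_neg, hcm.eq]⟩
        left_inv := fun x => Subtype.ext (by simp)
        right_inv := fun x => Subtype.ext (by simp) }
  rw [e1, e2, e3, sq]

end CfsgLib.GLClass.UnitaryLift
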