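import Mathlib
import Cfsg.Agent.Lib.GLClass.ToeplitzCentralizer
import Cfsg.Agent.Lib.GLClass.UnitaryLift
import Cfsg.Agent.Lib.IsometryConj.Unitary
import Cfsg.Agent.Lib.Descent.Hermitian

/-!
# Isometries commuting with a Jordan matrix for an invariant Hermitian form
-/

set_option autoImplicit false
set_option linter.all false

namespace CfsgLib.GLClass.Toeplitz

open Matrix CfsgLib.SU CfsgLib.IsometryConj

variable {F : Type*} [Field F] {t q : ℕ} (d : Fin t → ℕ)

local notation "ι" => ((k : Fin t) × Fin (d k))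

/-- weight used to filter the commutant -/
def wt (p : ι) : ℤ := 2 * (p.2 : ℕ) - (d p.1 : ℕ)

theorem wt_le {X : Matrix ι ι F} (hX : IsComm d X) (p q : ι) (hne : X p q ≠ 0) :
    wt d q ≤ wt d p ∧ (wt d q = wt d p → (p.2 : ℕ) = q.2 ∧ d p.1 = d q.1 ∧ X p q = ent d X p.1 0 q.1 0) := by
  have hp := p.2.isLt
  have hq := q.2.isLt
  have hne' := hne
  rw [← ent_apply d X p q, ent_of_le d X hX _ _ _ _ hp hq] at hne
  have hle : (q.2 : ℕ) ≤ p.2 := by
    by_contra hh
    rw [if_neg hh] at hne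
    exact hne rfl
  rw [if_pos hle] at hne
  have h2 : d p.1 ≤ d q.1 + ((p.2 : ℕ) - q.2) := by
    by_contra hh
    exact hne (ent_first_zero d X hX _ _ (by omega) _ (by omega))
  refine ⟨by simp only [wt]; omega, fun e => ?_⟩
  simp only [wt] at e
  refine ⟨by omega, by omega, ?_⟩
  rw [← ent_apply d X p q, ent_of_le d X hX _ _ _ _ hp hq, if_pos hle, show (p.2 : ℕ) - q.2 = 0 by omega]

/-- commuting matrices raising the weight by at least `k` -/
def fil (k : ℕ) : AddSubgroup (Matrix ι ι F) where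
  carrier := {X | IsComm d X ∧ ∀ p q, wt d p < wt d q + k → X p q = 0}
  zero_mem' := ⟨Commute.zero_left _, fun _ _ _ => rfl⟩
  add_mem' := by
    rintro X Y ⟨hX, hX'⟩ ⟨hY, hY'⟩
    exact ⟨Commute.add_left hX hY, fun p q h => by simp [hX' p q h, hY' p q h]⟩
  neg_mem' := by
    rintro X ⟨hX, hX'⟩
    exact ⟨Commute.neg_left hX, fun p q h => by simp [hX' p q h]⟩

theorem mem_fil_one_iff (hd : ∀ k, 1 ≤ d k) (X : Matrix ι ι F) : X ∈ fil d 1 ↔ IsComm d X ∧ red d X = 0 := by
  constructor
  · rintro ⟨hX, hX'⟩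
    refine ⟨hX, ?_⟩
    ext k l
    have hk := hd k
    have hl := hd l
    by_cases h : d k = d l
    · simp only [red, Matrix.of_apply, if_pos h, Matrix.zero_apply]
      rw [ent, dif_pos ⟨by omega, by omega⟩]
      exact hX' _ _ (by simp only [wt]; omega)
    · simp [red, h]
  · rintro ⟨hX, h0⟩
    refine ⟨hX, fun p q h => ?_⟩
    by_contra hne
    obtain ⟨h1, h2⟩ := wt_le d hX p q hne
    obtain ⟨-, h4, h5⟩ := h2 (by push_cast at h; omega)
    have := congrFun (congrFun h0 p.1) q.1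
    simp only [red, Matrix.of_apply, if_pos h4, Matrix.zero_apply] at this
    exact hne (h5.trans this)

theorem mul_mem_fil {j k : ℕ} {X Y : Matrix ι ι F} (hX : X ∈ fil d j) (hY : Y ∈ fil d k) :
    X * Y ∈ fil d (j + k) := by
  refine ⟨Commute.mul_left hX.1 hY.1, fun p q h => ?_⟩
  rw [Matrix.mul_apply]
  refine Finset.sum_eq_zero fun r _ => ?_
  by_cases h1 : wt d p < wt d r + j
  · rw [hX.2 p r h1, zero_mul]
  · rw [hY.2 r q (by push_cast at h; omega), mul_zero]

theorem smul_mem_fil {k : ℕ} (x : F) {X : Matrix ι ι F} (hX : X ∈ fil d k) :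
    (x • 1 : Matrix ι ι F) * X ∈ fil d k := by
  rw [smul_mul_assoc, one_mul]
  exact ⟨Commute.smul_left hX.1 x, fun p q h => by simp [hX.2 p q h]⟩

/-- the conjugate transpose -/
def adj (C : UCtx F q) {κ μ : Type} (X : Matrix κ μ F) : Matrix μ κ F := (X.map C.bar)ᵀ

variable (C : UCtx F q)

theorem adj_mul {κ μ ν : Type} [Fintype μ] (X : Matrix κ μ F) (Y : Matrix μ ν F) :
    adj C (X * Y) = adj C Y * adj C X := by
  rw [adj, adj, adj, Matrix.map_mul, Matrix.transpose_mul]

theorem adj_adj {κ μ : Type} (X : Matrix κ μ F) : adj C (adj C X) = X := by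
  ext i j; simp [adj, C.bar_bar]

theorem adj_one {κ : Type} [DecidableEq κ] : adj C (1 : Matrix κ κ F) = 1 := by
  ext i j; simp [adj, Matrix.one_apply, eq_comm, apply_ite C.bar]

theorem adj_apply {κ μ : Type} (X : Matrix κ μ F) (i : μ) (j : κ) : adj C X i j = C.bar (X j i) := rfl

theorem adj_smul {κ μ : Type} (x : F) (X : Matrix κ μ F) : adj C (x • X) = C.bar x • adj C X := by
  ext i j; simp [adj]

/-- entries of an invariant form vanish below the antidiagonals -/
theorem form_ent_zero {H : Matrix ι ι F}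
    (hJ : adj C (Cfsg.jordanTypeMatrix d F) * H * Cfsg.jordanTypeMatrix d F = H) (k l : Fin t) :
    ∀ (r b a : ℕ), d l ≤ b + r → d l ≤ a + b → ent d H k a l b = 0 := by
  obtain ⟨N, hN⟩ : ∃ N, N = Cfsg.jordanTypeMatrix d F - 1 := ⟨_, rfl⟩
  have hJN : Cfsg.jordanTypeMatrix d F = 1 + N := by rw [hN]; abel
  have hNap : ∀ p q : ι, N p q = if p.1 = q.1 ∧ (p.2 : ℕ) = q.2 + 1 then 1 else 0 := by
    intro p q
    have := JordanForms.sub_one_pow_apply (F := F) d 1 p q
    rwa [pow_one, ← hN] at this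
  have hrel : adj C N * H + H * N + adj C N * (H * N) = 0 := by
    have e : adj C (1 + N) = 1 + adj C N := by
      ext i j; simp [adj, Matrix.one_apply, eq_comm, apply_ite C.bar]
    rw [hJN, e] at hJ
    rw [← sub_eq_zero.2 hJ]
    noncomm_ring
  have hL : ∀ (X : Matrix ι ι F) (k : Fin t) (a : ℕ) (l : Fin t) (b : ℕ), a < d k → b < d l →
      ent d (adj C N * X) k a l b = ent d X k (a + 1) l b := by
    intro X k a l b ha hb
    rw [ent, dif_pos ⟨ha, hb⟩, Matrix.mul_apply]
    by_cases hlt : a + 1 < d k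
    · rw [Finset.sum_eq_single (⟨k, ⟨a + 1, hlt⟩⟩ : ι) (fun x _ hx => by
        rw [adj_apply, hNap, if_neg, map_zero, zero_mul]
        rintro ⟨e1, e2⟩
        obtain ⟨kx, ix⟩ := x
        subst e1
        exact hx (by rw [Sigma.mk.inj_iff]; exact ⟨rfl, heq_of_eq (Fin.ext e2)⟩)) (by simp), adj_apply, hNap,
        if_pos ⟨rfl, rfl⟩, map_one, one_mul, ent, dif_pos ⟨hlt, hb⟩]
    · rw [Finset.sum_eq_zero, ent, dif_neg (by omega)]
      intro x _
      rw [adj_apply, hNap, if_neg, map_zero, zero_mul]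
      rintro ⟨e1, e2⟩
      have := x.2.isLt
      have hdd : d x.1 = d k := congrArg d e1
      simp only at e2
      omega
  have hR : ∀ (k : Fin t) (a : ℕ) (l : Fin t) (b : ℕ), b < d l →
      ent d (H * N) k a l b = ent d H k a l (b + 1) := by
    intro k a l b hb
    by_cases ha : a < d k
    · rw [hN, ent_mul_shift d H k a l b ha hb]
    · rw [ent, dif_neg (by omega), ent, dif_neg (by omega)]
  intro r
  induction r with
  | zero => intro b a hb _; rw [ent, dif_neg (by omega)]
  | succ r ih =>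
    intro b a hb hab
    by_cases h' : d l ≤ b + r
    · exact ih b a h' hab
    by_cases hin : a < d k ∧ b < d l
    · obtain ⟨a, rfl⟩ : ∃ a', a = a' + 1 := ⟨a - 1, by omega⟩
      have e : ent d (adj C N * H + H * N + adj C N * (H * N)) k a l b = 0 := by
        rw [hrel, ent]; split <;> rfl
      rw [ent, dif_pos ⟨by omega, hin.2⟩, Matrix.add_apply, Matrix.add_apply,
        ← ent_apply d (adj C N * H) ⟨k, ⟨a, by omega⟩⟩ ⟨l, ⟨b, hin.2⟩⟩,
        ← ent_apply d (H * N) ⟨k, ⟨a, by omega⟩⟩ ⟨l, ⟨b, hin.2⟩⟩,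
        ← ent_apply d (adj C N * (H * N)) ⟨k, ⟨a, by omega⟩⟩ ⟨l, ⟨b, hin.2⟩⟩] at e
      simp only at e
      rw [hL H k a l b (by omega) hin.2, hR k a l b hin.2, hL (H * N) k a l b (by omega) hin.2,
        hR k (a + 1) l b hin.2, ih (b + 1) a (by omega) (by omega), ih (b + 1) (a + 1) (by omega) (by omega),
        add_zero, add_zero] at e
      exact e
    · rw [ent, dif_neg hin]

/-- the recurrence along an antidiagonal -/
theorem form_ent_anti {H : Matrix ι ι F}
    (hJ : adj C (Cfsg.jordanTypeMatrix d F) * H * Cfsg.jordanTypeMatrix d F = H) (k l : Fin t) (i : ℕ)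
    (hk : d k = i) (hl : d l = i) :
    ∀ a, a < i → ent d H k a l (i - 1 - a) = (-1) ^ a * ent d H k 0 l (i - 1) := by
  intro a
  induction a with
  | zero => intro _; simp
  | succ a ih =>
    intro ha
    obtain ⟨b, hb⟩ : ∃ b, b = i - 1 - (a + 1) := ⟨_, rfl⟩
    rw [← hb]
    obtain ⟨N, hN⟩ : ∃ N, N = Cfsg.jordanTypeMatrix d F - 1 := ⟨_, rfl⟩
    have hJN : Cfsg.jordanTypeMatrix d F = 1 + N := by rw [hN]; abel
    have hNap : ∀ p q : ι, N p q = if p.1 = q.1 ∧ (p.2 : ℕ) = q.2 + 1 then 1 else 0 := by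
      intro p q
      have := JordanForms.sub_one_pow_apply (F := F) d 1 p q
      rwa [pow_one, ← hN] at this
    have hrel : adj C N * H + H * N + adj C N * (H * N) = 0 := by
      have e : adj C (1 + N) = 1 + adj C N := by
        ext i j; simp [adj, Matrix.one_apply, eq_comm, apply_ite C.bar]
      rw [hJN, e] at hJ
      rw [← sub_eq_zero.2 hJ]
      noncomm_ring
    have hrow : ∀ X : Matrix ι ι F, (adj C N * X) ⟨k, ⟨a, by omega⟩⟩ ⟨l, ⟨b, by omega⟩⟩ = ent d X k (a + 1) l b := by
      intro X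
      rw [Matrix.mul_apply, Finset.sum_eq_single (⟨k, ⟨a + 1, by omega⟩⟩ : ι) (fun x _ hx => by
        rw [adj_apply, hNap, if_neg, map_zero, zero_mul]
        rintro ⟨e1, e2⟩
        obtain ⟨kx, ix⟩ := x
        subst e1
        exact hx (by rw [Sigma.mk.inj_iff]; exact ⟨rfl, heq_of_eq (Fin.ext e2)⟩)) (by simp), adj_apply, hNap,
        if_pos ⟨rfl, rfl⟩, map_one, one_mul, ent, dif_pos ⟨by omega, by omega⟩]
    have e := congrFun (congrFun hrel ⟨k, ⟨a, by omega⟩⟩) ⟨l, ⟨b, by omega⟩⟩
    rw [Matrix.add_apply, Matrix.add_apply, hrow, hrow, ← ent_apply d (H * N) ⟨k, ⟨a, by omega⟩⟩ ⟨l, ⟨b, by omega⟩⟩,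
      Matrix.zero_apply] at e
    simp only at e
    rw [hN, ent_mul_shift d H k a l b (by omega) (by omega), ent_mul_shift d H k (a + 1) l b (by omega) (by omega),
      show b + 1 = i - 1 - a by omega,
      form_ent_zero d C hJ k l (d l) (i - 1 - a) (a + 1) (by omega) (by omega), ih (by omega), add_zero] at e
    rw [pow_succ]
    linear_combination e

theorem form_ent_zero_left {H : Matrix ι ι F} (hH : adj C H = H)
    (hJ : adj C (Cfsg.jordanTypeMatrix d F) * H * Cfsg.jordanTypeMatrix d F = H) (k l : Fin t) (a b : ℕ)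
    (hab : d k ≤ a + b) : ent d H k a l b = 0 := by
  have h := form_ent_zero d C hJ l k (d k) a b (by omega) (by omega)
  rw [ent] at h ⊢
  split_ifs with hin
  · rw [dif_pos ⟨hin.2, hin.1⟩] at h
    have := congrFun (congrFun hH ⟨k, ⟨a, hin.1⟩⟩) ⟨l, ⟨b, hin.2⟩⟩
    rw [← this, adj_apply, h, map_zero]
  · rfl

/-- pairing of generators with bottom vectors -/
def cornerForm (H : Matrix ι ι F) : Matrix (Fin t) (Fin t) F :=
  Matrix.of fun k l => ent d H k 0 l (d l - 1)

/-- its block diagonal part -/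
def blockForm (H : Matrix ι ι F) : Matrix (Fin t) (Fin t) F :=
  Matrix.of fun k l => if d k = d l then ent d H k 0 l (d l - 1) else 0

theorem isBlk_blockForm (H : Matrix ι ι F) : IsBlk d (blockForm d H) := fun k l h => by simp [blockForm, h]

/-- the adjoint with respect to the form -/
noncomputable def formAdjoint {H : Matrix ι ι F} (hH : adj C H = H) (hHu : IsUnit H) : IsometryConj.Adjoint (Matrix ι ι F) where
  st X := H⁻¹ * adj C X * H
  st_add X Y := by
    rw [show adj C (X + Y) = adj C X + adj C Y by ext i j; simp [adj], mul_add, add_mul]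
  st_mul X Y := by
    have hdet := (Matrix.isUnit_iff_isUnit_det _).1 hHu
    rw [adj_mul]
    simp only [mul_assoc, Matrix.mul_nonsing_inv_cancel_left _ _ hdet]
  st_st X := by
    have hdet := (Matrix.isUnit_iff_isUnit_det _).1 hHu
    have hinv : adj C H⁻¹ = H⁻¹ := by
      refine (Matrix.inv_eq_left_inv ?_).symm
      calc adj C H⁻¹ * H = adj C H⁻¹ * adj C H := by rw [hH]
        _ = 1 := by rw [← adj_mul, Matrix.mul_nonsing_inv _ hdet, adj_one]
    rw [adj_mul, adj_mul, hH, hinv, adj_adj]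
    simp only [mul_assoc, Matrix.nonsing_inv_mul_cancel_left _ _ hdet, Matrix.nonsing_inv_mul _ hdet, mul_one]

section Form

variable {H : Matrix ((i : Fin t) × Fin (d i)) ((i : Fin t) × Fin (d i)) F} (hd : ∀ k, 1 ≤ d k) (hH : adj C H = H) (hHu : IsUnit H)
  (hJ : adj C (Cfsg.jordanTypeMatrix d F) * H * Cfsg.jordanTypeMatrix d F = H)

include hd hH hHu hJ

theorem isUnit_blockForm : IsUnit (blockForm d H) := by
  classical
  obtain ⟨hu, hhu⟩ := hHu
  have hinj : ∀ x : Fin t → F, cornerForm d H *ᵥ x = 0 → x = 0 := by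
    intro x hx
    obtain ⟨v, hv⟩ : ∃ v : ι → F, v = fun p => if (p.2 : ℕ) = d p.1 - 1 then x p.1 else 0 := ⟨_, rfl⟩
    have hHv : H *ᵥ v = 0 := by
      funext p
      have hp := p.2.isLt
      show ∑ r : ι, H p r * v r = 0
      rw [Fintype.sum_sigma]
      have : ∀ r : Fin t, ∑ c : Fin (d r), H p ⟨r, c⟩ * v ⟨r, c⟩ = ent d H p.1 p.2 r (d r - 1) * x r := by
        intro r
        have hr := hd r
        rw [Finset.sum_eq_single (⟨d r - 1, by omega⟩ : Fin (d r)) (fun c _ hc => by
          rw [hv]; dsimp only; rw [if_neg (fun e => hc (Fin.ext e)), mul_zero]) (by simp)]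
        rw [hv]; dsimp only; rw [if_pos rfl, ent, dif_pos ⟨hp, by omega⟩]
      simp only [this]
      rcases Nat.eq_zero_or_pos (p.2 : ℕ) with h0 | h0
      · rw [h0]
        exact congrFun hx p.1
      · refine Finset.sum_eq_zero fun r _ => ?_
        rw [form_ent_zero d C hJ p.1 r (d r) (d r - 1) p.2 (by omega) (by have := hd r; omega), zero_mul]
    have hv0 : v = 0 := by
      have := congrArg ((↑hu⁻¹ : Matrix ι ι F) *ᵥ ·) hHv
      rwa [Matrix.mulVec_mulVec, ← hhu, Units.inv_mul, Matrix.one_mulVec, Matrix.mulVec_zero] at this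
    funext r
    have hr := hd r
    have := congrFun hv0 ⟨r, ⟨d r - 1, by omega⟩⟩
    rw [hv] at this
    simpa using this
  have hu2 : IsUnit (cornerForm d H).det := by
    refine isUnit_iff_ne_zero.2 fun h0 => ?_
    obtain ⟨x, hx0, hx⟩ := Matrix.exists_mulVec_eq_zero_iff.2 h0
    exact hx0 (hinj x hx)
  have hT : (cornerForm d H)ᵀ.BlockTriangular d := by
    intro i j hij
    have hi := hd i
    exact form_ent_zero_left d C hH hJ j i 0 (d i - 1) (by omega)
  have hB : (blockForm d H)ᵀ.BlockTriangular d := fun i j hij => by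
    simp [blockForm, hij.ne]
  have e : (cornerForm d H).det = (blockForm d H).det := by
    rw [← Matrix.det_transpose, hT.det, ← Matrix.det_transpose (blockForm d H), hB.det]
    refine Finset.prod_congr rfl fun a _ => ?_
    congr 1
    ext ⟨i, hi⟩ ⟨j, hj⟩
    simp [Matrix.toSquareBlock_def, cornerForm, blockForm, hi, hj]
  rw [e] at hu2
  exact (Matrix.isUnit_iff_isUnit_det _).2 hu2

/-- the block form is Hermitian up to the sign of each block -/
theorem blockForm_symm (k l : Fin t) :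
    C.bar (blockForm d H l k) = (-1) ^ (d k - 1) * blockForm d H k l := by
  have hk := hd k
  have hl := hd l
  by_cases h : d k = d l
  · simp only [blockForm, Matrix.of_apply, if_pos h, if_pos h.symm]
    have h1 := form_ent_anti d C hJ k l (d k) rfl h.symm (d k - 1) (by omega)
    rw [Nat.sub_self] at h1
    rw [h] at h1 ⊢
    rw [← h1, show ent d H l 0 k (d l - 1) = H ⟨l, ⟨0, by omega⟩⟩ ⟨k, ⟨d l - 1, by omega⟩⟩ from dif_pos ⟨by omega, by omega⟩,
      show ent d H k (d l - 1) l 0 = H ⟨k, ⟨d l - 1, by omega⟩⟩ ⟨l, ⟨0, by omega⟩⟩ from dif_pos ⟨by omega, by omega⟩]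
    exact congrFun (congrFun hH ⟨k, ⟨d l - 1, by omega⟩⟩) ⟨l, ⟨0, by omega⟩⟩
  · simp [blockForm, h, Ne.symm h]

theorem isComm_formAdjoint {X : Matrix ι ι F} (hX : IsComm d X) :
    IsComm d ((formAdjoint d C hH hHu).st X) := by
  have hdet := (Matrix.isUnit_iff_isUnit_det _).1 hHu
  obtain ⟨J, hJd⟩ : ∃ J, J = Cfsg.jordanTypeMatrix d F := ⟨_, rfl⟩
  rw [← hJd] at hJ
  unfold IsComm at hX ⊢
  rw [← hJd] at hX ⊢
  show H⁻¹ * adj C X * H * J = J * (H⁻¹ * adj C X * H)
  have hu : IsUnit (adj C J * H).det := by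
    have h1 : (adj C J * H * J).det ≠ 0 := by rw [hJ]; exact hdet.ne_zero
    rw [Matrix.det_mul] at h1
    exact IsUnit.mk0 _ (left_ne_zero_of_mul h1)
  have e : adj C J * H * (H⁻¹ * adj C X * H * J) = adj C J * H * (J * (H⁻¹ * adj C X * H)) := by
    rw [← mul_assoc (adj C J * H) J, hJ]
    simp only [mul_assoc, Matrix.mul_nonsing_inv_cancel_left _ _ hdet]
    rw [← mul_assoc (adj C J) (adj C X), ← adj_mul, hX, adj_mul, mul_assoc, ← mul_assoc (adj C J) H J, hJ]
  calc H⁻¹ * adj C X * H * J = (adj C J * H)⁻¹ * (adj C J * H * (H⁻¹ * adj C X * H * J)) :=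
        (Matrix.nonsing_inv_mul_cancel_left _ _ hu).symm
    _ = J * (H⁻¹ * adj C X * H) := by rw [e, Matrix.nonsing_inv_mul_cancel_left _ _ hu]

/-- reduction turns the form adjoint into the block form adjoint -/
theorem blockForm_red_adjoint {X : Matrix ι ι F} (hX : IsComm d X) :
    blockForm d H * red d ((formAdjoint d C hH hHu).st X) = adj C (red d X) * blockForm d H := by
  classical
  have hdet := (Matrix.isUnit_iff_isUnit_det _).1 hHu
  obtain ⟨Y, hY⟩ : ∃ Y, Y = (formAdjoint d C hH hHu).st X := ⟨_, rfl⟩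
  have hYc : IsComm d Y := hY ▸ isComm_formAdjoint d C hd hH hHu hJ hX
  have hrel : H * Y = adj C X * H := by
    rw [hY]
    show H * (H⁻¹ * adj C X * H) = _
    rw [mul_assoc H⁻¹, Matrix.mul_nonsing_inv_cancel_left _ _ hdet]
  rw [← hY]
  ext k l
  have hk := hd k
  have hl := hd l
  by_cases h : d k = d l
  · have e := congrFun (congrFun hrel ⟨k, ⟨0, by omega⟩⟩) ⟨l, ⟨d l - 1, by omega⟩⟩
    rw [Matrix.mul_apply, Matrix.mul_apply, Fintype.sum_sigma, Fintype.sum_sigma] at e
    rw [Matrix.mul_apply, Matrix.mul_apply]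
    refine Eq.trans ?_ (e.trans ?_)
    · refine Finset.sum_congr rfl fun r _ => ?_
      have hr := hd r
      rw [Finset.sum_eq_single (⟨d r - 1, by omega⟩ : Fin (d r)) (fun c _ hc => ?_) (by simp)]
      · rw [← ent_apply d H ⟨k, ⟨0, by omega⟩⟩ ⟨r, ⟨d r - 1, by omega⟩⟩,
          ← ent_apply d Y ⟨r, ⟨d r - 1, by omega⟩⟩ ⟨l, ⟨d l - 1, by omega⟩⟩]
        simp only
        rw [ent_of_le d Y hYc r l _ _ (by omega) (by omega)]
        by_cases hkr : d k = d r
        · simp only [blockForm, red, Matrix.of_apply, if_pos hkr, if_pos (show d r = d l by omega)]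
          rw [if_pos (by omega), show d r - 1 - (d l - 1) = 0 by omega]
        · simp only [blockForm, Matrix.of_apply, if_neg hkr, zero_mul]
          by_cases hlt : d l ≤ d r
          · rw [form_ent_zero_left d C hH hJ k r 0 (d r - 1) (by omega), zero_mul]
          · rw [if_neg (by omega), mul_zero]
      · rw [← ent_apply d Y ⟨r, c⟩ ⟨l, ⟨d l - 1, by omega⟩⟩]
        simp only
        rw [ent_of_le d Y hYc r l _ _ c.isLt (by omega)]
        have hclt := c.isLt
        have hcne : (c : ℕ) ≠ d r - 1 := fun e => hc (Fin.ext e)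
        by_cases hle : d l - 1 ≤ (c : ℕ)
        · rw [if_pos hle, ent_first_zero d Y hYc r l (by omega) _ (by omega), mul_zero]
        · rw [if_neg hle, mul_zero]
    · refine Finset.sum_congr rfl fun r _ => ?_
      have hr := hd r
      rw [Finset.sum_eq_single (⟨0, by omega⟩ : Fin (d r)) (fun c _ hc => ?_) (by simp)]
      · rw [adj_apply, ← ent_apply d H ⟨r, ⟨0, by omega⟩⟩ ⟨l, ⟨d l - 1, by omega⟩⟩,
          ← ent_apply d X ⟨r, ⟨0, by omega⟩⟩ ⟨k, ⟨0, by omega⟩⟩, adj_apply]
        simp only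
        by_cases hrk : d r = d k
        · simp only [blockForm, red, Matrix.of_apply, if_pos hrk, if_pos (show d r = d l by omega)]
        · simp only [blockForm, red, Matrix.of_apply, if_neg hrk, map_zero, zero_mul]
          by_cases hlt : d k < d r
          · rw [ent_first_zero d X hX r k (by omega) 0 (by omega), map_zero, zero_mul]
          · rw [form_ent_zero_left d C hH hJ r l 0 (d l - 1) (by omega), mul_zero]
      · rw [← ent_apply d H ⟨r, c⟩ ⟨l, ⟨d l - 1, by omega⟩⟩]
        simp only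
        have hcne : (c : ℕ) ≠ 0 := fun e => hc (Fin.ext e)
        rw [form_ent_zero d C hJ r l (d l) (d l - 1) c (by omega) (by omega), mul_zero]
  · have hl' : ∀ Z W : Matrix (Fin t) (Fin t) F, IsBlk d Z → IsBlk d W → (Z * W) k l = 0 := by
      intro Z W hZ hW
      rw [Matrix.mul_apply]
      refine Finset.sum_eq_zero fun r _ => ?_
      by_cases hkr : d k = d r
      · rw [hW r l (by omega), mul_zero]
      · rw [hZ k r hkr, zero_mul]
    rw [hl' _ _ (isBlk_blockForm d H) (isBlk_red d Y),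
      hl' _ _ (fun i j hij => by rw [adj_apply, isBlk_red d X j i (Ne.symm hij), map_zero]) (isBlk_blockForm d H)]

end Form

end CfsgLib.GLClass.Toeplitz
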