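import Mathlib
import Cfsg.Agent.Lib.GLClass.UnitaryJordan

/-!
# Counting isometries commuting with a Jordan matrix
-/

set_option autoImplicit false
set_option linter.all false

namespace CfsgLib.GLClass.Toeplitz

open Matrix CfsgLib.SU CfsgLib.IsometryConj

variable {F : Type*} [Field F] [Fintype F] {t q : ℕ} (d : Fin t → ℕ) (C : UCtx F q)

local notation "ι" => ((k : Fin t) × Fin (d k))

theorem scalar_skew_unit : ∃ x : F, x ≠ 0 ∧ C.bar x = -x := by
  obtain ⟨x, h0, h⟩ := C.exists_trace_zero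
  exact ⟨x, h0, eq_neg_of_add_eq_zero_right h⟩

theorem card_hermitian_isometries {α : Type} [Fintype α] [DecidableEq α] (b : Matrix α α F) (hb : IsUnit b)
    (ε : F) (hε : ε ≠ 0) (hsym : adj C (ε • b) = ε • b) :
    Nat.card {M : GL α F // adj C (M : Matrix α α F) * b * (M : Matrix α α F) = b} =
      Nat.card (Cfsg.GU (Fintype.card α) F q) := by
  classical
  obtain ⟨bu, hbu⟩ := hb
  have hA : IsUnit (ε • b) := by
    rw [← hbu, show ε • (bu : Matrix α α F) = (ε • 1 : Matrix α α F) * (bu : Matrix α α F) by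
      rw [smul_mul_assoc, one_mul]]
    refine IsUnit.mul ⟨⟨ε • 1, ε⁻¹ • 1, ?_, ?_⟩, rfl⟩ bu.isUnit
    · rw [smul_mul_smul_comm, mul_inv_cancel₀ hε, one_mul, one_smul]
    · rw [smul_mul_smul_comm, inv_mul_cancel₀ hε, one_mul, one_smul]
  obtain ⟨A, hA'⟩ := hA
  obtain ⟨B, hB⟩ := CfsgLib.Descent.exists_hermitian_decomp C.bar C.order_two A (by rw [hA']; exact hsym)
  obtain ⟨Bd, hBd⟩ : ∃ Bd : GL α F, (Bd : Matrix α α F) = adj C (B : Matrix α α F) :=
    ⟨⟨adj C (B : Matrix α α F), adj C ((B⁻¹ : GL α F) : Matrix α α F),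
      by rw [← adj_mul, Units.inv_mul, adj_one], by rw [← adj_mul, Units.mul_inv, adj_one]⟩, rfl⟩
  have hdec : ε • b = (B : Matrix α α F) * (Bd : Matrix α α F) := by rw [← hA', hB, hBd]; rfl
  let e := Fintype.equivFin α
  let r : GL α F ≃* GL (Fin (Fintype.card α)) F := Units.mapEquiv (Matrix.reindexAlgEquiv F F e).toMulEquiv
  have hadj : ∀ M : Matrix α α F, adj C (Matrix.reindex e e M) = Matrix.reindex e e (adj C M) := fun M => rfl
  have key : ∀ M : GL α F, adj C (M : Matrix α α F) * b * (M : Matrix α α F) = b ↔ r (Bd * M * Bd⁻¹) ∈ Cfsg.GU (Fintype.card α) F q := by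
    intro M
    have hval : ((r (Bd * M * Bd⁻¹) : GL _ F) : Matrix _ _ F) = Matrix.reindexAlgEquiv F F e ((Bd * M * Bd⁻¹ : GL α F) : Matrix α α F) := rfl
    have hst : (hermAdjoint C (Fintype.card α)).st ((r (Bd * M * Bd⁻¹) : GL _ F) : Matrix _ _ F) =
        Matrix.reindexAlgEquiv F F e (adj C ((Bd * M * Bd⁻¹ : GL α F) : Matrix α α F)) := rfl
    rw [hermAdjoint_iff C, hst, hval, ← map_mul, EmbeddingLike.map_eq_one_iff]
    have hBinv : adj C ((Bd⁻¹ : GL α F) : Matrix α α F) = ((B⁻¹ : GL α F) : Matrix α α F) := by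
      have h1 : adj C ((Bd⁻¹ : GL α F) : Matrix α α F) * (B : Matrix α α F) = 1 := by
        calc adj C ((Bd⁻¹ : GL α F) : Matrix α α F) * (B : Matrix α α F)
            = adj C (adj C (B : Matrix α α F) * ((Bd⁻¹ : GL α F) : Matrix α α F)) := by rw [adj_mul, adj_adj]
          _ = 1 := by rw [← hBd, Units.mul_inv, adj_one]
      calc _ = adj C ((Bd⁻¹ : GL α F) : Matrix α α F) * ((B : Matrix α α F) * ((B⁻¹ : GL α F) : Matrix α α F)) := by
            rw [Units.mul_inv, mul_one]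
        _ = _ := by rw [← mul_assoc, h1, one_mul]
    have hBadj : adj C (Bd : Matrix α α F) = (B : Matrix α α F) := by rw [hBd, adj_adj]
    rw [Units.val_mul, Units.val_mul, adj_mul, adj_mul, hBadj, hBinv]
    have hcalc : ((B⁻¹ : GL α F) : Matrix α α F) * (adj C (M : Matrix α α F) * (B : Matrix α α F)) *
        ((Bd : Matrix α α F) * (M : Matrix α α F) * ((Bd⁻¹ : GL α F) : Matrix α α F)) =
        ((B⁻¹ : GL α F) : Matrix α α F) * (ε • (adj C (M : Matrix α α F) * b * (M : Matrix α α F))) *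
          ((Bd⁻¹ : GL α F) : Matrix α α F) := by
      rw [← smul_mul_assoc, ← mul_smul_comm, hdec]
      simp only [mul_assoc]
    rw [hcalc]
    constructor
    · intro h
      rw [h, hdec]
      simp [← mul_assoc]
    · intro h
      apply smul_right_injective (Matrix α α F) hε
      show ε • _ = ε • b
      rw [hdec]
      calc ε • (adj C (M : Matrix α α F) * b * (M : Matrix α α F))
          = (B : Matrix α α F) * (((B⁻¹ : GL α F) : Matrix α α F) * (ε • (adj C (M : Matrix α α F) * b * (M : Matrix α α F))) *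
              ((Bd⁻¹ : GL α F) : Matrix α α F)) * (Bd : Matrix α α F) := by simp [mul_assoc]
        _ = _ := by rw [h, mul_one]
  refine Nat.card_congr (Equiv.subtypeEquiv ((MulAut.conj Bd).toEquiv.trans r.toEquiv) (fun M => ?_))
  exact key M

variable {H : Matrix ((i : Fin t) × Fin (d i)) ((i : Fin t) × Fin (d i)) F} (hd : ∀ k, 1 ≤ d k) (hH : adj C H = H) (hHu : IsUnit H)
  (hJ : adj C (Cfsg.jordanTypeMatrix d F) * H * Cfsg.jordanTypeMatrix d F = H)

include hd hH hHu hJ

theorem card_blk_isometries :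
    Nat.card {Z : Matrix (Fin t) (Fin t) F // IsBlk d Z ∧ adj C Z * blockForm d H * Z = blockForm d H} =
      ∏ i ∈ Finset.range (Finset.univ.sup d + 1),
        Nat.card (Cfsg.GU (Finset.univ.filter (fun k : Fin t => d k = i)).card F q) := by
  classical
  obtain ⟨x, hx0, hx⟩ := scalar_skew_unit C
  let f : Fin t → Fin (Finset.univ.sup d + 1) := fun k => ⟨d k, Nat.lt_succ_of_le (Finset.le_sup (Finset.mem_univ k))⟩
  have hf : ∀ k l, f k = f l ↔ d k = d l := fun k l => by simp [f, Fin.ext_iff]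
  let E := blkUnitEquiv (F := F) d f hf
  have hBu := isUnit_blockForm d C hd hH hHu hJ
  let Bi : ∀ i, Matrix {k // f k = i} {k // f k = i} F := fun i => Matrix.of fun a b => blockForm d H a.1 b.1
  have hunit : ∀ Z : Matrix (Fin t) (Fin t) F, adj C Z * blockForm d H * Z = blockForm d H → IsUnit Z := by
    intro Z hZ
    rw [Matrix.isUnit_iff_isUnit_det] at hBu ⊢
    rw [← hZ, Matrix.det_mul] at hBu
    exact isUnit_of_mul_isUnit_right hBu
  -- restriction to a fibre is multiplicative on block diagonal matrices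
  have hres : ∀ (Z W : Matrix (Fin t) (Fin t) F), IsBlk d Z → ∀ i (a b : {k // f k = i}),
      (Z * W) a.1 b.1 = ∑ c : {k // f k = i}, Z a.1 c.1 * W c.1 b.1 := by
    intro Z W hZ i a b
    rw [Matrix.mul_apply, ← Finset.sum_filter_of_ne (p := fun k => f k = i) (fun x _ hx => by
      by_contra hh
      apply hx
      rw [hZ a.1 x (fun hh2 => hh (((hf a.1 x).2 hh2).symm.trans a.2)), zero_mul])]
    exact Finset.sum_subtype _ (fun x => by simp) _
  have hblk2 : ∀ Z W : Matrix (Fin t) (Fin t) F, IsBlk d Z → IsBlk d W → IsBlk d (Z * W) := by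
    intro Z W hZ hW k l h
    rw [Matrix.mul_apply]
    refine Finset.sum_eq_zero fun r _ => ?_
    by_cases hkr : d k = d r
    · rw [hW r l (by omega), mul_zero]
    · rw [hZ k r hkr, zero_mul]
  have hiff : ∀ Z : {Z : Matrix (Fin t) (Fin t) F // IsBlk d Z ∧ IsUnit Z},
      adj C Z.1 * blockForm d H * Z.1 = blockForm d H ↔
      ∀ i, adj C (E Z i : Matrix {k // f k = i} {k // f k = i} F) * Bi i * (E Z i : Matrix {k // f k = i} {k // f k = i} F) = Bi i := by
    intro Z
    have hadjblk : IsBlk d (adj C Z.1) := fun i j hij => by rw [adj_apply, Z.2.1 j i (Ne.symm hij), map_zero]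
    have hval : ∀ i (a b : {k // f k = i}),
        (adj C (E Z i : Matrix {k // f k = i} {k // f k = i} F) * Bi i * (E Z i : Matrix {k // f k = i} {k // f k = i} F)) a b =
          (adj C Z.1 * blockForm d H * Z.1) a.1 b.1 := by
      intro i a b
      rw [hres _ _ (hblk2 _ _ hadjblk (isBlk_blockForm d H)) i a b, Matrix.mul_apply]
      refine Finset.sum_congr rfl fun c _ => ?_
      rw [hres _ _ hadjblk i a c, Matrix.mul_apply]
      rfl
    constructor
    · intro h i
      ext a b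
      rw [hval, h]
      rfl
    · intro h
      ext k l
      by_cases hkl : f k = f l
      · have := congrFun (congrFun (h (f k)) ⟨k, rfl⟩) ⟨l, hkl.symm⟩
        rw [hval] at this
        exact this
      · have hne : d k ≠ d l := fun e => hkl ((hf k l).2 e)
        rw [hblk2 _ _ (hblk2 _ _ hadjblk (isBlk_blockForm d H)) Z.2.1 k l hne, isBlk_blockForm d H k l hne]
  have e1 : {Z : Matrix (Fin t) (Fin t) F // IsBlk d Z ∧ adj C Z * blockForm d H * Z = blockForm d H} ≃
      {Z : {Z : Matrix (Fin t) (Fin t) F // IsBlk d Z ∧ IsUnit Z} // adj C Z.1 * blockForm d H * Z.1 = blockForm d H} :=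
    { toFun := fun Z => ⟨⟨Z.1, Z.2.1, hunit _ Z.2.2⟩, Z.2.2⟩
      invFun := fun Z => ⟨Z.1.1, Z.1.2.1, Z.2⟩
      left_inv := fun Z => rfl
      right_inv := fun Z => rfl }
  rw [Nat.card_congr e1, Nat.card_congr (Equiv.subtypeEquiv (q := fun M => ∀ i, adj C (M i : Matrix {k // f k = i} {k // f k = i} F) * Bi i * (M i : Matrix {k // f k = i} {k // f k = i} F) = Bi i) E hiff),
    Nat.card_congr (Equiv.subtypePiEquivPi (p := fun i (M : GL {k // f k = i} F) => adj C (M : Matrix {k // f k = i} {k // f k = i} F) * Bi i * (M : Matrix {k // f k = i} {k // f k = i} F) = Bi i)), Nat.card_pi, ← Fin.prod_univ_eq_prod_range]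
  refine Finset.prod_congr rfl fun i _ => ?_
  have hcard : Fintype.card {k // f k = i} = (Finset.univ.filter (fun k : Fin t => d k = (i : ℕ))).card := by
    rw [Fintype.card_subtype]
    simp [f, Fin.ext_iff]
  rw [← hcard]
  have hBiu : IsUnit (Bi i) := (E ⟨blockForm d H, isBlk_blockForm d H, hBu⟩ i).isUnit
  refine card_hermitian_isometries C (Bi i) hBiu (if Even ((i : ℕ) - 1) then 1 else x) (by split <;> simp [hx0]) ?_
  ext a b
  have hab : d a.1 - 1 = (i : ℕ) - 1 := by
    have := congrArg Fin.val a.2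
    simp only [f] at this
    rw [this]
  simp only [adj_apply, Matrix.smul_apply, smul_eq_mul, map_mul, Bi, Matrix.of_apply,
    blockForm_symm d C hd hH hHu hJ a.1 b.1, hab]
  rcases Nat.even_or_odd ((i : ℕ) - 1) with he | ho
  · rw [if_pos he, he.neg_one_pow, map_one, one_mul]
  · rw [if_neg (Nat.not_even_iff_odd.2 ho), ho.neg_one_pow, hx]
    ring

theorem card_comm_isometries (hF : Fintype.card F = q ^ 2) (E : ℕ)
    (hE : (∑ k, ∑ l, min (d k) (d l)) = (∑ k, ∑ l, if d k = d l then 1 else 0) + E) :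
    Nat.card {X : Matrix ι ι F // IsComm d X ∧ adj C X * H * X = H} = q ^ E *
      ∏ i ∈ Finset.range (Finset.univ.sup d + 1),
        Nat.card (Cfsg.GU (Finset.univ.filter (fun k : Fin t => d k = i)).card F q) := by
  classical
  have hdet := (Matrix.isUnit_iff_isUnit_det _).1 hHu
  obtain ⟨σ, hσ⟩ : ∃ σ : IsometryConj.Adjoint (Matrix ι ι F), σ = formAdjoint d C hH hHu := ⟨formAdjoint d C hH hHu, rfl⟩
  have hst : ∀ X, σ.st X = H⁻¹ * adj C X * H := fun X => by rw [hσ]; rfl
  have hiso : ∀ X : Matrix ι ι F, adj C X * H * X = H ↔ σ.st X * X = 1 := by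
    intro X
    rw [hst]
    constructor
    · intro h
      rw [mul_assoc H⁻¹, mul_assoc H⁻¹, h, Matrix.nonsing_inv_mul _ hdet]
    · intro h
      calc adj C X * H * X = H * (H⁻¹ * adj C X * H * X) := by
            simp only [mul_assoc, Matrix.mul_nonsing_inv_cancel_left _ _ hdet]
        _ = H := by rw [h, mul_one]
  have hscal : ∀ y : F, σ.st (y • 1 : Matrix ι ι F) = C.bar y • 1 := by
    intro y
    rw [hst, adj_smul, adj_one, mul_smul_comm, mul_one, smul_mul_assoc, Matrix.nonsing_inv_mul _ hdet]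
  obtain ⟨tr, htr⟩ := C.exists_trace (c := 1) (map_one _)
  obtain ⟨x, hx0, hx⟩ := scalar_skew_unit C
  have hcomm : ∀ (y : F) (M : Matrix ι ι F), Commute (y • 1 : Matrix ι ι F) M := fun y M => (Commute.one_left M).smul_left y
  let S : UnitaryLift.Setup σ :=
    { T := fil d
      mul_left := fun ha hb => by rw [add_comm]; exact mul_mem_fil d ha hb
      mul_right := fun ha hb => mul_mem_fil d ha hb
      anti := fun {k} X hX => ⟨hX.1, fun p q h => hX.2 p q (by push_cast; omega)⟩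
      top := ⟨4 * Finset.univ.sup d + 1, fun X hX => Matrix.ext fun p q => hX.2 p q (by
        have hp := p.2.isLt
        have hq := q.2.isLt
        have hdp : d p.1 ≤ Finset.univ.sup d := Finset.le_sup (Finset.mem_univ _)
        have hdq : d q.1 ≤ Finset.univ.sup d := Finset.le_sup (Finset.mem_univ _)
        simp only [wt]
        push_cast
        omega)⟩
      st_mem := fun {X} hX => by
        rw [mem_fil_one_iff d hd] at hX ⊢
        refine ⟨hσ ▸ isComm_formAdjoint d C hd hH hHu hJ hX.1, ?_⟩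
        have h := blockForm_red_adjoint d C hd hH hHu hJ hX.1
        rw [hX.2, ← hσ] at h
        have h0 : adj C (0 : Matrix (Fin t) (Fin t) F) = 0 := by ext a b; simp [adj]
        rw [h0, zero_mul] at h
        exact (isUnit_blockForm d C hd hH hHu hJ).mul_left_cancel (h.trans (mul_zero _).symm)
      c := tr • 1
      c_comm := hcomm tr
      c_trace := by rw [hscal, ← add_smul, htr, one_smul]
      c_mem := fun ha => smul_mem_fil d tr ha
      cbar_mem := fun ha => by rw [hscal]; exact smul_mem_fil d _ ha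
      θ := ⟨x • 1, x⁻¹ • 1, by rw [smul_mul_smul_comm, mul_inv_cancel₀ hx0, one_mul, one_smul],
        by rw [smul_mul_smul_comm, inv_mul_cancel₀ hx0, one_mul, one_smul]⟩
      θ_comm := hcomm x
      θ_skew := by show σ.st (x • 1) = -(x • 1); rw [hscal, hx, neg_smul]
      θ_mem := fun ha => smul_mem_fil d x ha
      θinv_mem := fun ha => smul_mem_fil d x⁻¹ ha }
  have hT1 : Nat.card (fil (F := F) d 1) = (q ^ E) ^ 2 := by
    rw [← pow_mul, mul_comm, pow_mul, ← hF, ← card_ker (F := F) d hd E hE]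
    exact Nat.card_congr (Equiv.subtypeEquivRight fun X => mem_fil_one_iff d hd X)
  obtain ⟨B, hB⟩ : ∃ B, B = blockForm d H := ⟨_, rfl⟩
  have hBu : IsUnit B := hB ▸ isUnit_blockForm d C hd hH hHu hJ
  have hred : ∀ X, IsComm d X → B * red d (σ.st X * X) = adj C (red d X) * B * red d X := by
    intro X hX
    rw [red_mul d hd (hσ ▸ isComm_formAdjoint d C hd hH hHu hJ hX) hX, ← mul_assoc, hB, hσ,
      blockForm_red_adjoint d C hd hH hHu hJ hX]
  let π : {X : Matrix ι ι F // IsComm d X ∧ adj C X * H * X = H} →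
      {Z : Matrix (Fin t) (Fin t) F // IsBlk d Z ∧ adj C Z * B * Z = B} := fun X =>
    ⟨red d X.1, isBlk_red d _, by rw [← hred _ X.2.1, (hiso _).1 X.2.2, red_one d hd, mul_one]⟩
  have hfib : ∀ Z, Nat.card {X // π X = Z} = q ^ E := by
    intro Z
    obtain ⟨y, hy⟩ : ∃ y, y = sect d Z.1 := ⟨_, rfl⟩
    have hyc : IsComm d y := hy ▸ isComm_toep d _
    have hry : red d y = Z.1 := hy ▸ red_sect d hd Z.2.1
    have hZu : IsUnit Z.1 := by
      have h := hBu
      rw [Matrix.isUnit_iff_isUnit_det] at h ⊢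
      rw [← Z.2.2, Matrix.det_mul] at h
      exact isUnit_of_mul_isUnit_right h
    obtain ⟨yu, hyu⟩ := (isUnit_iff d hd hyc).2 (by rw [hry]; exact hZu)
    obtain ⟨h, hh⟩ : ∃ h, h = σ.st y * y - 1 := ⟨_, rfl⟩
    have hh1 : σ.st y * y = 1 + h := by rw [hh]; abel
    have hsh : σ.st h = h := by rw [hh, UnitaryLift.st_sub, σ.st_mul, σ.st_st, Adjoint.st_one]
    have hhm : h ∈ S.T 1 := by
      show h ∈ fil d 1
      rw [mem_fil_one_iff d hd]
      have hc : IsComm d (σ.st y * y) := isComm_mul d (hσ ▸ isComm_formAdjoint d C hd hH hHu hJ hyc) hyc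
      refine ⟨hh ▸ isComm_sub d hc (Commute.one_left _), ?_⟩
      have h1 : red d (σ.st y * y) = 1 := hBu.mul_left_cancel (by rw [hred y hyc, hry, Z.2.2, mul_one])
      have h2 := red_add d h 1
      rw [hh, sub_add_cancel, h1, red_one d hd, ← hh] at h2
      exact right_eq_add.1 h2
    have hyinv : IsComm d ((yu⁻¹ : (Matrix ι ι F)ˣ) : Matrix ι ι F) :=
      Commute.units_inv_left (show Commute (yu : Matrix ι ι F) _ from hyu ▸ hyc)
    refine (Nat.pow_left_injective two_ne_zero) ?_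
    show _ ^ 2 = (q ^ E) ^ 2
    rw [← hT1, ← UnitaryLift.card_lifts S hhm hsh]
    congr 1
    refine Nat.card_congr
      { toFun := fun X => ⟨((yu⁻¹ : (Matrix ι ι F)ˣ) : Matrix ι ι F) * X.1.1 - 1, ?_, ?_⟩
        invFun := fun n => ⟨⟨y * (1 + n.1), ?_, ?_⟩, ?_⟩
        left_inv := fun X => ?_
        right_inv := fun n => ?_ }
    · show _ ∈ fil d 1
      rw [mem_fil_one_iff d hd]
      have hc := isComm_mul d hyinv X.1.2.1
      refine ⟨isComm_sub d hc (Commute.one_left _), ?_⟩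
      have e : red d X.1.1 = red d y := (congrArg Subtype.val X.2).trans hry.symm
      have h1 : red d (((yu⁻¹ : (Matrix ι ι F)ˣ) : Matrix ι ι F) * X.1.1) = 1 := by
        rw [red_mul d hd hyinv X.1.2.1, e, ← red_mul d hd hyinv hyc, ← hyu, Units.inv_mul, red_one d hd]
      have h2 := red_add d (((yu⁻¹ : (Matrix ι ι F)ˣ) : Matrix ι ι F) * X.1.1 - 1) 1
      rw [sub_add_cancel, h1, red_one d hd] at h2
      exact right_eq_add.1 h2
    · rw [add_sub_cancel, ← hh1]
      have hX := (hiso _).1 X.1.2.2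
      rw [σ.st_mul, ← hyu]
      calc σ.st X.1.1 * σ.st ↑yu⁻¹ * (σ.st ↑yu * ↑yu) * (↑yu⁻¹ * X.1.1)
          = σ.st X.1.1 * (σ.st ↑yu⁻¹ * σ.st ↑yu) * (↑yu * ↑yu⁻¹) * X.1.1 := by simp only [mul_assoc]
        _ = 1 := by rw [← σ.st_mul, Units.mul_inv, Adjoint.st_one, mul_one, mul_one, hX]
    · exact isComm_mul d hyc (Commute.add_left (Commute.one_left _) n.2.1.1)
    · rw [hiso, σ.st_mul]
      calc σ.st (1 + n.1) * σ.st y * (y * (1 + n.1)) = σ.st (1 + n.1) * (σ.st y * y) * (1 + n.1) := by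
            simp only [mul_assoc]
        _ = 1 := by rw [hh1, n.2.2]
    · refine Subtype.ext ?_
      show red d (y * (1 + n.1)) = Z.1
      have hn : n.1 ∈ fil d 1 := n.2.1
      rw [mem_fil_one_iff d hd] at hn
      rw [mul_add, mul_one, red_add, red_mul d hd hyc hn.1, hn.2, mul_zero, add_zero, hry]
    · refine Subtype.ext (Subtype.ext ?_)
      show y * (1 + (_ - 1)) = X.1.1
      rw [add_sub_cancel, ← hyu, Units.mul_inv_cancel_left]
    · refine Subtype.ext ?_
      show ((yu⁻¹ : (Matrix ι ι F)ˣ) : Matrix ι ι F) * (y * (1 + n.1)) - 1 = n.1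
      rw [← hyu, Units.inv_mul_cancel_left, add_sub_cancel_left]
  rw [← Nat.card_congr (Equiv.sigmaFiberEquiv π), Nat.card_sigma, Finset.sum_congr rfl (fun Z _ => hfib Z),
    Finset.sum_const, smul_eq_mul, Finset.card_univ, ← Nat.card_eq_fintype_card, hB,
    card_blk_isometries d C hd hH hHu hJ, mul_comm]

end CfsgLib.GLClass.Toeplitz

namespace CfsgLib.GLClass.Toeplitz

open Matrix CfsgLib.SU CfsgLib.IsometryConj

/-- centralisers in `GU` of unipotent elements of given Jordan type -/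
theorem card_gu_centralizer {K : Type*} [Field K] [Fintype K] {q n t : ℕ} (C : UCtx K q) (hK : Fintype.card K = q ^ 2)
    (d : Fin t → ℕ) (hd : ∀ k, 1 ≤ d k) (e : ((k : Fin t) × Fin (d k)) ≃ Fin n) (u : ↥(Cfsg.GU n K q))
    (hu : IsConj (Matrix.reindex e e (Cfsg.jordanTypeMatrix d K)) ((u : GL (Fin n) K) : Matrix (Fin n) (Fin n) K)) (E : ℕ)
    (hE : (∑ k, ∑ l, min (d k) (d l)) = (∑ k, ∑ l, if d k = d l then 1 else 0) + E) :
    Nat.card ↥(Subgroup.centralizer ({u} : Set ↥(Cfsg.GU n K q))) = q ^ E *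
      ∏ i ∈ Finset.range (Finset.univ.sup d + 1),
        Nat.card (Cfsg.GU (Finset.univ.filter (fun k : Fin t => d k = i)).card K q) := by
  classical
  obtain ⟨c, hc⟩ := hu
  let ρ := Matrix.reindexAlgEquiv K K e
  obtain ⟨J, hJ⟩ : ∃ J, J = Cfsg.jordanTypeMatrix d K := ⟨_, rfl⟩
  obtain ⟨U, hU⟩ : ∃ U, U = ((u : GL (Fin n) K) : Matrix (Fin n) (Fin n) K) := ⟨_, rfl⟩
  have hcJ : (c : Matrix (Fin n) (Fin n) K) * ρ J = U * c := by rw [hU, hJ]; exact hc
  let σ : (Matrix ((k : Fin t) × Fin (d k)) ((k : Fin t) × Fin (d k)) K)ˣ ≃* GL (Fin n) K := Units.mapEquiv ρ.toMulEquiv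
  obtain ⟨P, hP⟩ : ∃ P, σ P = c := σ.surjective c
  have hPc : ρ (P : Matrix _ _ K) = (c : Matrix (Fin n) (Fin n) K) := congrArg Units.val hP
  have hρadj : ∀ X, ρ (adj C X) = adj C (ρ X) := fun X => rfl
  obtain ⟨H, hH⟩ : ∃ H : Matrix ((k : Fin t) × Fin (d k)) ((k : Fin t) × Fin (d k)) K, H = adj C (P : Matrix ((k : Fin t) × Fin (d k)) ((k : Fin t) × Fin (d k)) K) * (P : Matrix ((k : Fin t) × Fin (d k)) ((k : Fin t) × Fin (d k)) K) := ⟨_, rfl⟩
  have hUU : adj C U * U = 1 := by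
    rw [hU]; exact (hermAdjoint_iff C _).1 u.2
  have hρH : ρ H = adj C (c : Matrix (Fin n) (Fin n) K) * c := by rw [hH, map_mul, hρadj, hPc]
  have hHh : adj C H = H := by rw [hH, adj_mul, adj_adj]
  have hHu : IsUnit H := by
    rw [hH]
    refine IsUnit.mul ⟨⟨adj C (P : Matrix _ _ K), adj C ((P⁻¹ : (Matrix _ _ K)ˣ) : Matrix _ _ K), ?_, ?_⟩, rfl⟩ P.isUnit
    · rw [← adj_mul, Units.inv_mul, adj_one]
    · rw [← adj_mul, Units.mul_inv, adj_one]
  have hHJ : adj C (Cfsg.jordanTypeMatrix d K) * H * Cfsg.jordanTypeMatrix d K = H := by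
    rw [← hJ]
    apply ρ.injective
    rw [map_mul, map_mul, hρadj, hρH]
    calc adj C (ρ J) * (adj C (c : Matrix (Fin n) (Fin n) K) * c) * ρ J
        = adj C ((c : Matrix (Fin n) (Fin n) K) * ρ J) * ((c : Matrix (Fin n) (Fin n) K) * ρ J) := by
          rw [adj_mul]; simp only [mul_assoc]
      _ = adj C (c : Matrix (Fin n) (Fin n) K) * (adj C U * U) * c := by
          rw [hcJ, adj_mul]; simp only [mul_assoc]
      _ = _ := by rw [hUU, mul_one]
  rw [← card_comm_isometries d C hd hHh hHu hHJ hK E hE]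
  have hginv : ∀ X, IsComm d X → (c : Matrix (Fin n) (Fin n) K) * ρ X * ((c⁻¹ : GL (Fin n) K) : Matrix _ _ K) * U =
      U * ((c : Matrix (Fin n) (Fin n) K) * ρ X * ((c⁻¹ : GL (Fin n) K) : Matrix _ _ K)) := by
    intro X hX
    have h1 : ((c⁻¹ : GL (Fin n) K) : Matrix _ _ K) * U = ρ J * ((c⁻¹ : GL (Fin n) K) : Matrix _ _ K) := by
      calc ((c⁻¹ : GL (Fin n) K) : Matrix _ _ K) * U
        = ((c⁻¹ : GL (Fin n) K) : Matrix _ _ K) * (U * (c : Matrix (Fin n) (Fin n) K)) * ((c⁻¹ : GL (Fin n) K) : Matrix _ _ K) := by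
            rw [mul_assoc _ (U * _), mul_assoc U, Units.mul_inv, mul_one]
      _ = ρ J * ((c⁻¹ : GL (Fin n) K) : Matrix _ _ K) := by rw [← hcJ, Units.inv_mul_cancel_left]
    calc (c : Matrix (Fin n) (Fin n) K) * ρ X * ((c⁻¹ : GL (Fin n) K) : Matrix _ _ K) * U
        = (c : Matrix (Fin n) (Fin n) K) * (ρ X * ρ J) * ((c⁻¹ : GL (Fin n) K) : Matrix _ _ K) := by
          rw [mul_assoc _ _ U, h1]; simp only [mul_assoc]
      _ = (c : Matrix (Fin n) (Fin n) K) * (ρ J * ρ X) * ((c⁻¹ : GL (Fin n) K) : Matrix _ _ K) := by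
          rw [← map_mul, ← map_mul, show X * J = J * X from hJ ▸ hX]
      _ = _ := by
          rw [← mul_assoc (c : Matrix (Fin n) (Fin n) K) (ρ J), hcJ]; simp only [mul_assoc]
  have hunit : ∀ X : Matrix ((k : Fin t) × Fin (d k)) ((k : Fin t) × Fin (d k)) K, adj C X * H * X = H → IsUnit X := by
    intro X hX
    have h := (Matrix.isUnit_iff_isUnit_det _).1 hHu
    rw [← hX, Matrix.det_mul] at h
    exact (Matrix.isUnit_iff_isUnit_det _).2 (isUnit_of_mul_isUnit_right h)
  have hgu : ∀ X, adj C X * H * X = H ↔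
      adj C ((c : Matrix (Fin n) (Fin n) K) * ρ X * ((c⁻¹ : GL (Fin n) K) : Matrix _ _ K)) *
        ((c : Matrix (Fin n) (Fin n) K) * ρ X * ((c⁻¹ : GL (Fin n) K) : Matrix _ _ K)) = 1 := by
    intro X
    have e1 : adj C ((c⁻¹ : GL (Fin n) K) : Matrix _ _ K) * adj C (c : Matrix (Fin n) (Fin n) K) = 1 := by
      rw [← adj_mul, Units.mul_inv, adj_one]
    have e2 : adj C (c : Matrix (Fin n) (Fin n) K) * adj C ((c⁻¹ : GL (Fin n) K) : Matrix _ _ K) = 1 := by
      rw [← adj_mul, Units.inv_mul, adj_one]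
    have e : adj C ((c : Matrix (Fin n) (Fin n) K) * ρ X * ((c⁻¹ : GL (Fin n) K) : Matrix _ _ K)) *
        ((c : Matrix (Fin n) (Fin n) K) * ρ X * ((c⁻¹ : GL (Fin n) K) : Matrix _ _ K)) =
        adj C ((c⁻¹ : GL (Fin n) K) : Matrix _ _ K) * ρ (adj C X * H * X) * ((c⁻¹ : GL (Fin n) K) : Matrix _ _ K) := by
      rw [map_mul, map_mul, hρadj, hρH, adj_mul, adj_mul]
      simp only [mul_assoc]
    rw [e]
    constructor
    · intro h
      rw [h, hρH, ← mul_assoc (adj C _) (adj C _), e1, one_mul, Units.mul_inv]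
    · intro h
      apply ρ.injective
      calc ρ (adj C X * H * X) = adj C (c : Matrix (Fin n) (Fin n) K) *
            (adj C ((c⁻¹ : GL (Fin n) K) : Matrix _ _ K) * ρ (adj C X * H * X) * ((c⁻¹ : GL (Fin n) K) : Matrix _ _ K)) * (c : Matrix (Fin n) (Fin n) K) := by
            rw [← mul_assoc, ← mul_assoc, e2, one_mul, Units.inv_mul_cancel_right]
        _ = ρ H := by rw [h, mul_one, hρH]
  have hv : ∀ X (hX : adj C X * H * X = H),
      ((σ (P * (hunit X hX).unit * P⁻¹) : GL (Fin n) K) : Matrix (Fin n) (Fin n) K) =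
        (c : Matrix (Fin n) (Fin n) K) * ρ X * ((c⁻¹ : GL (Fin n) K) : Matrix _ _ K) := by
    intro X hX
    rw [map_mul, map_mul, map_inv, hP, Units.val_mul, Units.val_mul]
    rfl
  have hmem : ∀ X (hX : adj C X * H * X = H), σ (P * (hunit X hX).unit * P⁻¹) ∈ Cfsg.GU n K q := by
    intro X hX
    rw [hermAdjoint_iff C, hv X hX]
    exact (hgu X).1 hX
  let G : {X : Matrix ((k : Fin t) × Fin (d k)) ((k : Fin t) × Fin (d k)) K // IsComm d X ∧ adj C X * H * X = H} →
      ↥(Subgroup.centralizer ({u} : Set ↥(Cfsg.GU n K q))) := fun X =>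
    ⟨⟨_, hmem X.1 X.2.2⟩, Subgroup.mem_centralizer_singleton_iff.2 (Subtype.ext (Units.ext (by
      show ((σ (P * (hunit X.1 X.2.2).unit * P⁻¹) : GL (Fin n) K) : Matrix (Fin n) (Fin n) K) *
        ((u : GL (Fin n) K) : Matrix (Fin n) (Fin n) K) = ((u : GL (Fin n) K) : Matrix (Fin n) (Fin n) K) *
          ((σ (P * (hunit X.1 X.2.2).unit * P⁻¹) : GL (Fin n) K) : Matrix (Fin n) (Fin n) K)
      rw [hv X.1 X.2.2, ← hU]
      exact hginv X.1 X.2.1)))⟩
  refine (Nat.card_congr (Equiv.ofBijective G ⟨fun X Y h => ?_, ?_⟩)).symm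
  · have h1 := mul_left_cancel (mul_right_cancel (σ.injective (congrArg (fun g => (g.1.1 : GL (Fin n) K)) h)))
    exact Subtype.ext (congrArg Units.val h1)
  · rintro ⟨⟨g, hg⟩, hgc⟩
    obtain ⟨X, hX⟩ := σ.surjective (c⁻¹ * g * c)
    have hXv : ρ (X : Matrix ((k : Fin t) × Fin (d k)) ((k : Fin t) × Fin (d k)) K) = ((c⁻¹ : GL (Fin n) K) : Matrix (Fin n) (Fin n) K) * (g : Matrix (Fin n) (Fin n) K) * (c : Matrix (Fin n) (Fin n) K) := by
      have := congrArg Units.val hX
      rwa [Units.val_mul, Units.val_mul] at this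
    have hgv : (c : Matrix (Fin n) (Fin n) K) * ρ (X : Matrix ((k : Fin t) × Fin (d k)) ((k : Fin t) × Fin (d k)) K) * ((c⁻¹ : GL (Fin n) K) : Matrix (Fin n) (Fin n) K) = g := by
      rw [hXv]
      simp [← mul_assoc]
    have hgU : (g : Matrix (Fin n) (Fin n) K) * U = U * g := by
      rw [hU]
      exact congrArg (fun x : ↥(Cfsg.GU n K q) => ((x : GL (Fin n) K) : Matrix (Fin n) (Fin n) K))
        (Subgroup.mem_centralizer_singleton_iff.1 hgc)
    have hXiso : adj C (X : Matrix ((k : Fin t) × Fin (d k)) ((k : Fin t) × Fin (d k)) K) * H * (X : Matrix ((k : Fin t) × Fin (d k)) ((k : Fin t) × Fin (d k)) K) = H :=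
      (hgu _).2 (by rw [hgv]; exact (hermAdjoint_iff C _).1 hg)
    refine ⟨⟨(X : Matrix ((k : Fin t) × Fin (d k)) ((k : Fin t) × Fin (d k)) K), ?_, hXiso⟩, ?_⟩
    · unfold IsComm
      rw [← hJ]
      apply ρ.injective
      rw [map_mul, map_mul, hXv]
      have h2 : ρ J = ((c⁻¹ : GL (Fin n) K) : Matrix (Fin n) (Fin n) K) * U * (c : Matrix (Fin n) (Fin n) K) := by
        rw [mul_assoc, ← hcJ, Units.inv_mul_cancel_left]
      rw [h2]
      simp only [mul_assoc, Units.mul_inv_cancel_left]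
      rw [← mul_assoc (g : Matrix (Fin n) (Fin n) K) U, hgU, mul_assoc]
    · refine Subtype.ext (Subtype.ext ?_)
      show σ (P * _ * P⁻¹) = g
      rw [show (hunit (X : Matrix ((k : Fin t) × Fin (d k)) ((k : Fin t) × Fin (d k)) K) hXiso).unit = X from Units.ext rfl, map_mul, map_mul, map_inv, hP, hX]
      group

end CfsgLib.GLClass.Toeplitz
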