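import Cfsg.Agent.Lib.GLClass.Regular
import Cfsg.Agent.Lib.RegUnip.SympRegular
import Cfsg.Agent.Lib.IsometryConj.Unitary
import Cfsg.Agent.Lib.SU.Descent

/-!
# Unipotent classes of unitary groups: similarity, existence, regular classes of `SU`
-/

set_option autoImplicit false
set_option linter.all false

namespace CfsgLib.GLClass

open Matrix CfsgLib.SU

variable {F : Type*} [Field F] [Fintype F] {q n : ℕ}

theorem rank_map_aut (σ : F ≃+* F) (M : Matrix (Fin n) (Fin n) F) : (M.map σ).rank = M.rank := by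
  have key : ∀ x : Fin n → F, (M.map σ) *ᵥ (σ ∘ x) = σ ∘ (M *ᵥ x) := fun x => funext fun i => by
    simp [Matrix.mulVec, dotProduct, map_sum, map_mul]
  let f : LinearMap.range M.mulVecLin → LinearMap.range (M.map σ).mulVecLin := fun y =>
    ⟨σ ∘ y.1, by obtain ⟨x, hx⟩ := y.2; exact ⟨σ ∘ x, by rw [Matrix.mulVecLin_apply, key, ← hx]; rfl⟩⟩
  have hf : Function.Bijective f := by
    refine ⟨fun a b h => Subtype.ext (funext fun i => σ.injective (congrFun (congrArg Subtype.val h) i)), ?_⟩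
    rintro ⟨y, x, rfl⟩
    refine ⟨⟨M *ᵥ (σ.symm ∘ x), _, rfl⟩, Subtype.ext ?_⟩
    show σ ∘ (M *ᵥ (σ.symm ∘ x)) = (M.map σ) *ᵥ x
    rw [← key]
    congr 1
    funext i
    exact σ.apply_symm_apply (x i)
  haveI : Finite (LinearMap.range M.mulVecLin) := inferInstance
  have h1 := Nat.card_congr (Equiv.ofBijective f hf)
  rw [Module.natCard_eq_pow_finrank (K := F) (V := ↥(LinearMap.range M.mulVecLin)),
    Module.natCard_eq_pow_finrank (K := F) (V := ↥(LinearMap.range (M.map σ).mulVecLin))] at h1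
  exact (Nat.pow_right_injective (Finite.one_lt_card : 1 < Nat.card F) h1).symm

/-- every unipotent matrix is similar to a unitary one -/
theorem exists_gu_of_unipotent (hF : Fintype.card F = q ^ 2) (A : GL (Fin n) F)
    (hA : IsNilpotent ((A : Matrix (Fin n) (Fin n) F) - 1)) :
    ∃ B : ↥(Cfsg.GU n F q), IsConj A (B : GL (Fin n) F) := by
  obtain ⟨C⟩ := CfsgLib.Classical.uctx_exists hF
  rw [CfsgLib.IsometryConj.gu_similar_iff hF]
  obtain ⟨N, hN⟩ : ∃ N, N = (A : Matrix (Fin n) (Fin n) F) - 1 := ⟨_, rfl⟩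
  obtain ⟨M, hM⟩ : ∃ M, M = ((A : Matrix (Fin n) (Fin n) F).map (fun x : F => x ^ q))ᵀ := ⟨_, rfl⟩
  rw [← hM]
  have hMC : M = ((A : Matrix (Fin n) (Fin n) F).map C.bar)ᵀ := by
    rw [hM]; ext i j; simp [C.bar_eq]
  have hM1 : M - 1 = (N.map C.bar)ᵀ := by
    rw [hMC, hN]
    ext i j
    simp [Matrix.one_apply, eq_comm, apply_ite C.bar, map_sub]
  have hrank : ∀ k, ((M - 1) ^ k).rank = (N ^ k).rank := fun k => by
    rw [hM1, ← Matrix.transpose_pow, Matrix.rank_transpose,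
      show (N.map C.bar) ^ k = (N ^ k).map C.bar from (map_pow C.bar.toRingHom.mapMatrix N k).symm, rank_map_aut]
  obtain ⟨d, hd⟩ := hA
  have hMnil : IsNilpotent (M - 1) := by
    refine ⟨d, ?_⟩
    rw [hM1, ← Matrix.transpose_pow, show (N.map C.bar) ^ d = (N ^ d).map C.bar from (map_pow C.bar.toRingHom.mapMatrix N d).symm,
      hN, hd]
    simp
  have hMu : IsUnit M := by
    have := hMnil.isUnit_one_add
    rwa [add_sub_cancel] at this
  have hMdet : IsUnit M.det := (Matrix.isUnit_iff_isUnit_det _).1 hMu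
  have hc : Commute (-M⁻¹) (M - 1) := by
    show -M⁻¹ * (M - 1) = (M - 1) * -M⁻¹
    rw [mul_sub, sub_mul, neg_mul, mul_neg, Matrix.nonsing_inv_mul _ hMdet, Matrix.mul_nonsing_inv _ hMdet, mul_one,
      one_mul]
  have he : M⁻¹ - 1 = -M⁻¹ * (M - 1) := by
    rw [mul_sub, mul_one, neg_mul, Matrix.nonsing_inv_mul _ hMdet]; abel
  have hinvdet : IsUnit (-M⁻¹).det := by
    rw [Matrix.det_neg]
    exact IsUnit.mul (IsUnit.pow _ isUnit_one.neg) (Matrix.isUnit_nonsing_inv_det _ hMdet)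
  refine (isConj_iff_rank_of_unipotent ⟨d, hd⟩ ?_).2 fun j => ?_
  · rw [he]; exact hc.isNilpotent_mul_left hMnil
  · rw [he, hc.mul_pow, Matrix.rank_mul_eq_right_of_isUnit_det, hrank, hN]
    rw [Matrix.det_pow]; exact hinvdet.pow _

theorem card_gu_classes (hF : Fintype.card F = q ^ 2) (P : GL (Fin n) F → Prop)
    (hinv : ∀ g h, IsConj g h → P g → P h) (hun : ∀ g : GL (Fin n) F, P g → IsNilpotent ((g : Matrix (Fin n) (Fin n) F) - 1)) :
    Nat.card {C : ConjClasses ↥(Cfsg.GU n F q) // ∃ g : ↥(Cfsg.GU n F q), ConjClasses.mk g = C ∧ P g} =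
      Nat.card {C : ConjClasses (GL (Fin n) F) // ∃ g, ConjClasses.mk g = C ∧ P g} := by
  refine Nat.card_congr (Equiv.ofBijective (fun C => ⟨ConjClasses.mk (C.2.choose : GL (Fin n) F), _, rfl, C.2.choose_spec.2⟩)
    ⟨fun C D h => Subtype.ext ?_, fun D => ?_⟩)
  · rw [← C.2.choose_spec.1, ← D.2.choose_spec.1, ConjClasses.mk_eq_mk_iff_isConj, CfsgLib.IsometryConj.gu_isConj_iff hF]
    exact ConjClasses.mk_eq_mk_iff_isConj.1 (congrArg Subtype.val h)
  · obtain ⟨g, hg, hP⟩ := D.2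
    obtain ⟨B, hB⟩ := exists_gu_of_unipotent hF g (hun g hP)
    refine ⟨⟨ConjClasses.mk B, B, rfl, hinv _ _ hB hP⟩, Subtype.ext ?_⟩
    set C : {C : ConjClasses ↥(Cfsg.GU n F q) // ∃ g : ↥(Cfsg.GU n F q), ConjClasses.mk g = C ∧ P g} :=
      ⟨ConjClasses.mk B, B, rfl, hinv _ _ hB hP⟩
    show ConjClasses.mk (C.2.choose : GL (Fin n) F) = D.1
    rw [← hg, ConjClasses.mk_eq_mk_iff_isConj]
    refine IsConj.trans ?_ hB.symm
    exact MonoidHom.map_isConj (Cfsg.GU n F q).subtype (ConjClasses.mk_eq_mk_iff_isConj.1 C.2.choose_spec.1)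

/-- determinants of centralisers of regular unipotents of `GU` are `n`-th powers of norm-one scalars -/
theorem det_centralizer_regular (C : UCtx F q) (hn : 1 ≤ n) (u g : ↥(Cfsg.GU n F q))
    (hb : IsBlock (((u : GL (Fin n) F) : Matrix (Fin n) (Fin n) F) - 1)) (hc : g * u = u * g) :
    C.detHom g ∈ (powMonoidHom n : C.unitOne →* C.unitOne).range := by
  obtain ⟨U, hU⟩ : ∃ U, U = ((u : GL (Fin n) F) : Matrix (Fin n) (Fin n) F) := ⟨_, rfl⟩
  obtain ⟨G, hG⟩ : ∃ G, G = ((g : GL (Fin n) F) : Matrix (Fin n) (Fin n) F) := ⟨_, rfl⟩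
  rw [← hU] at hb
  have hGU : G * U = U * G := by
    rw [hU, hG]
    exact congrArg (fun x : ↥(Cfsg.GU n F q) => ((x : GL (Fin n) F) : Matrix (Fin n) (Fin n) F)) hc
  have hNG : Commute (U - 1) G := (show Commute U G from hGU.symm).sub_left (Commute.one_left _)
  obtain ⟨a, ha⟩ := exists_blockPoly_of_commute hb hn hNG
  have hsc : IsNilpotent (G - a ⟨0, hn⟩ • 1) := ha ▸ CfsgLib.RegUnip.Symp.blockPoly_scalar hb hn a
  obtain ⟨J, hJ⟩ : ∃ J, J = CfsgLib.IsometryConj.hermAdjoint C n := ⟨_, rfl⟩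
  have hgmem : J.st G * G = 1 := by rw [hJ, hG]; exact (CfsgLib.IsometryConj.hermAdjoint_iff C _).1 g.2
  have hstsc : IsNilpotent (J.st G - C.bar (a ⟨0, hn⟩) • 1) := by
    obtain ⟨k, hk⟩ := hsc
    refine ⟨k, ?_⟩
    have e : J.st G - C.bar (a ⟨0, hn⟩) • 1 = ((G - a ⟨0, hn⟩ • 1).map C.bar)ᵀ := by
      rw [hJ]
      ext i j
      simp [CfsgLib.IsometryConj.hermAdjoint, Matrix.one_apply, eq_comm, apply_ite C.bar, map_sub, map_mul]
    rw [e, ← Matrix.transpose_pow,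
      show ((G - a ⟨0, hn⟩ • 1).map C.bar) ^ k = ((G - a ⟨0, hn⟩ • 1) ^ k).map C.bar from
        (map_pow C.bar.toRingHom.mapMatrix _ k).symm, hk]
    simp
  have hcomm : Commute (J.st G) G := hgmem.trans (mul_eq_one_comm.1 hgmem).symm
  have h1 := CfsgLib.RegUnip.Symp.scalar_mul hcomm hstsc hsc
  rw [hgmem] at h1
  have hnorm : C.bar (a ⟨0, hn⟩) * a ⟨0, hn⟩ = 1 := CfsgLib.RegUnip.Symp.scalar_unique hn h1 (by simp)
  have hne : a ⟨0, hn⟩ ≠ 0 := right_ne_zero_of_mul_eq_one hnorm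
  refine ⟨⟨Units.mk0 _ hne, C.mem_unitOne.2 (by rw [Units.val_mk0, mul_comm]; exact hnorm)⟩, ?_⟩
  refine Subtype.ext (Units.ext ?_)
  rw [C.detHom_val, ← hG, ← ha, det_blockPoly hb hn]
  simp

theorem card_su_regular (hF : Fintype.card F = q ^ 2) (hn : 1 ≤ n) :
    Nat.card {D : ConjClasses ↥(Cfsg.SU n F q) // ∃ u : ↥(Cfsg.SU n F q), ConjClasses.mk u = D ∧
      (((u : GL (Fin n) F) : Matrix (Fin n) (Fin n) F) - 1) ^ n = 0 ∧
      (((u : GL (Fin n) F) : Matrix (Fin n) (Fin n) F) - 1).rank = n - 1} = Nat.gcd n (q + 1) := by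
  obtain ⟨C⟩ := CfsgLib.Classical.uctx_exists hF
  haveI : NeZero n := ⟨by omega⟩
  let toGU : ↥(Cfsg.SU n F q) →* ↥(Cfsg.GU n F q) :=
    (Matrix.SpecialLinearGroup.toGL.comp (Cfsg.SU n F q).subtype).codRestrict _ fun A => A.2
  have hGUi : Function.Injective toGU := fun A B h =>
    Subtype.ext (Matrix.SpecialLinearGroup.toGL_injective (congrArg Subtype.val h))
  have hlift : ∀ g : ↥(Cfsg.GU n F q), g.1.1.det = 1 → ∃ A, toGU A = g := fun g hg =>
    ⟨⟨⟨g.1.1, hg⟩, g.2⟩, Subtype.ext (Units.ext rfl)⟩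
  have hdet1 : ∀ A, C.detHom (toGU A) = 1 := fun A => Subtype.ext (Units.ext A.1.2)
  -- a regular unipotent element of `SU`
  have hjn : IsNilpotent (shiftMat n F) := ⟨n, isBlock_shiftMat.nil⟩
  obtain ⟨A₀, hA₀⟩ := hjn.isUnit_one_add
  obtain ⟨B₀, hB₀⟩ := exists_gu_of_unipotent hF A₀ (by rw [hA₀, add_sub_cancel_left]; exact hjn)
  obtain ⟨c, hc⟩ := isConj_iff.1 hB₀
  have hBv : ((B₀ : GL (Fin n) F) : Matrix (Fin n) (Fin n) F) =
      (c : Matrix (Fin n) (Fin n) F) * (1 + shiftMat n F) * ((c⁻¹ : GL (Fin n) F) : Matrix (Fin n) (Fin n) F) := by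
    rw [← hc, Units.val_mul, Units.val_mul, hA₀]
  have hB1 : ((B₀ : GL (Fin n) F) : Matrix (Fin n) (Fin n) F) - 1 =
      (c : Matrix (Fin n) (Fin n) F) * shiftMat n F * ((c⁻¹ : GL (Fin n) F) : Matrix (Fin n) (Fin n) F) := by
    rw [hBv, mul_add, mul_one, add_mul, Units.mul_inv, add_sub_cancel_left]
  have hBb : IsBlock (((B₀ : GL (Fin n) F) : Matrix (Fin n) (Fin n) F) - 1) := by
    refine ⟨?_, ?_⟩
    · rw [hB1, Units.conj_pow, isBlock_shiftMat.nil, mul_zero, zero_mul]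
    · rw [hB1, Matrix.rank_mul_eq_left_of_isUnit_det _ _ ((Matrix.isUnit_iff_isUnit_det _).1 (Units.isUnit _)),
        Matrix.rank_mul_eq_right_of_isUnit_det _ _ ((Matrix.isUnit_iff_isUnit_det _).1 (Units.isUnit _)),
        isBlock_shiftMat.rank_eq]
  have hdetb : ∀ g : Matrix (Fin n) (Fin n) F, IsBlock (g - 1) → g.det = 1 := fun g hg => by
    have hp : blockPoly (g - 1) (fun i : Fin n => if (i : ℕ) ≤ 1 then (1 : F) else 0) = g := by
      rcases Nat.lt_or_ge 1 n with h2 | h2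
      · rw [blockPoly, Finset.sum_eq_add (⟨0, by omega⟩ : Fin n) ⟨1, h2⟩ (by simp [Fin.ext_iff])
          (fun x _ hx => by
            rw [if_neg (fun h => ?_), zero_smul]
            rcases (show (x : ℕ) = 0 ∨ (x : ℕ) = 1 by omega) with e | e
            · exact hx.1 (Fin.ext e)
            · exact hx.2 (Fin.ext e)) (by simp) (by simp)]
        simp
      · have h0 : g - 1 = 0 := by
          obtain rfl : n = 1 := by omega
          simpa using hg.nil
        rw [blockPoly, Finset.sum_eq_single (⟨0, by omega⟩ : Fin n)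
          (fun x _ hx => absurd (Fin.ext (by simp; omega)) hx) (by simp)]
        simp [sub_eq_zero.1 h0]
    rw [← hp, det_blockPoly hg hn]
    simp
  obtain ⟨u, hu⟩ := hlift B₀ (hdetb _ hBb)
  have hub : IsBlock ((toGU u).1.1 - 1) := hu ▸ hBb
  -- the invariant
  let N := (powMonoidHom n : C.unitOne →* C.unitOne).range
  have hex : ∀ D : {D : ConjClasses ↥(Cfsg.SU n F q) // ∃ u : ↥(Cfsg.SU n F q), ConjClasses.mk u = D ∧
      (((u : GL (Fin n) F) : Matrix (Fin n) (Fin n) F) - 1) ^ n = 0 ∧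
      (((u : GL (Fin n) F) : Matrix (Fin n) (Fin n) F) - 1).rank = n - 1},
      ∃ v g, ConjClasses.mk v = D.1 ∧ g * toGU u * g⁻¹ = toGU v := by
    rintro ⟨_, v, rfl, hv1, hv2⟩
    obtain ⟨d, hd⟩ := isConj_of_isBlock (A := (toGU u).1.1) (B := (toGU v).1.1) hub ⟨hv1, hv2⟩
    have hconj : IsConj (toGU u : GL (Fin n) F) (toGU v : GL (Fin n) F) :=
      isConj_iff.2 ⟨d, mul_inv_eq_iff_eq_mul.2 (Units.ext hd.eq)⟩
    obtain ⟨g, hg⟩ := isConj_iff.1 ((CfsgLib.IsometryConj.gu_isConj_iff hF _ _).2 hconj)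
    exact ⟨v, g, rfl, hg⟩
  choose v g hv hg using hex
  have key : ∀ (g g' : ↥(Cfsg.GU n F q)) w, g * toGU u * g⁻¹ = toGU w → g' * toGU u * g'⁻¹ = toGU w →
      C.detHom g⁻¹ * C.detHom g' ∈ N := by
    intro g g' w h h'
    rw [← map_mul]
    refine det_centralizer_regular C hn (toGU u) _ hub ?_
    have e : g' * toGU u = toGU w * g' := mul_inv_eq_iff_eq_mul.1 h'
    rw [mul_assoc, e, ← h]
    group
  rw [show Nat.gcd n (q + 1) = N.index by rw [IsCyclic.index_powMonoidHom_range, C.card_unitOne hF, Nat.gcd_comm],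
    Subgroup.index_eq_card]
  refine Nat.card_congr (Equiv.ofBijective (fun D => QuotientGroup.mk (s := N) (C.detHom (g D))) ⟨?_, ?_⟩)
  · intro D E h
    obtain ⟨c, hc⟩ := QuotientGroup.eq.1 h
    refine Subtype.ext ?_
    rw [← hv D, ← hv E, ConjClasses.mk_eq_mk_iff_isConj, isConj_iff]
    obtain ⟨g', hg'⟩ : ∃ g', g' = g D * C.gscal c := ⟨_, rfl⟩
    have hcu : C.gscal c * toGU u = toGU u * C.gscal c := Subtype.ext (C.gscal_comm c _).symm
    have h1 : g' * toGU u * g'⁻¹ = toGU (v D) := by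
      rw [hg', mul_assoc (g D), hcu, ← hg D]; group
    have hdet : C.detHom (g E * g'⁻¹) = 1 := by
      have hsc : C.detHom (C.gscal (n := n) c) = c ^ n := by
        refine Subtype.ext (Units.ext ?_)
        rw [C.detHom_val, C.gscal_val]
        simp
      have hc' : c ^ n = (C.detHom (g D))⁻¹ * C.detHom (g E) := hc
      rw [map_mul, map_inv, hg', map_mul, hsc, hc', mul_inv_cancel_left, mul_inv_cancel]
    obtain ⟨k, hk⟩ := hlift (g E * g'⁻¹) (congrArg (fun x : C.unitOne => ((x : Fˣ) : F)) hdet)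
    refine ⟨k, hGUi ?_⟩
    rw [map_mul, map_mul, map_inv, hk, ← h1, ← hg E]
    group
  · intro z
    obtain ⟨d, rfl⟩ := QuotientGroup.mk_surjective z
    obtain ⟨G, hG⟩ := C.detHom_surjective (n := n) (by omega) d
    obtain ⟨w, hw⟩ := hlift (G * toGU u * G⁻¹) (by
      rw [← C.detHom_val, map_mul, map_mul, map_inv, hdet1, mul_one, mul_inv_cancel]; rfl)
    have e : (w : GL (Fin n) F).1 - 1 = G.1.1 * ((toGU u).1.1 - 1) * (G.1⁻¹).1 := by
      rw [mul_sub, sub_mul, mul_one, Units.mul_inv]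
      congr 1
      exact congrArg (fun x : ↥(Cfsg.GU n F q) => x.1.1) hw
    let D : {D : ConjClasses ↥(Cfsg.SU n F q) // ∃ u : ↥(Cfsg.SU n F q), ConjClasses.mk u = D ∧
      (((u : GL (Fin n) F) : Matrix (Fin n) (Fin n) F) - 1) ^ n = 0 ∧
      (((u : GL (Fin n) F) : Matrix (Fin n) (Fin n) F) - 1).rank = n - 1} := ⟨ConjClasses.mk w, w, rfl, by
        rw [e, Units.conj_pow, hub.nil, mul_zero, zero_mul], by
        rw [e, Matrix.rank_mul_eq_left_of_isUnit_det _ _ ((Matrix.isUnit_iff_isUnit_det _).1 (Units.isUnit _)),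
          Matrix.rank_mul_eq_right_of_isUnit_det _ _ ((Matrix.isUnit_iff_isUnit_det _).1 (Units.isUnit _)),
          hub.rank_eq]⟩
    refine ⟨D, QuotientGroup.eq.2 ?_⟩
    obtain ⟨k, hk⟩ := isConj_iff.1 (ConjClasses.mk_eq_mk_iff_isConj.1 (hv D))
    have h3 : (toGU k * g D) * toGU u * (toGU k * g D)⁻¹ = toGU w := by
      rw [← hk, map_mul, map_mul, map_inv, ← hg D]; group
    have := key _ G w h3 hw.symm
    rwa [map_inv, map_mul, hdet1, one_mul, hG] at this

end CfsgLib.GLClass
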